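import Cfsg.Agent.LV.Cl.Defs

/-!
# LV, classical groups: the embedded Coxeter system (helper52)

* `Ey.*` : signed permutations (`conj_tt`, `conj_sw`, `pm`, `dg`, `res`, generation lemmas);
* `Em.mem_KJ`, `Em.mem_K`, `Em.mem_J` : the parabolic subgroups; `Em.mem_rf_J`, `Em.sum_rf_J` : the reflections;
* `Em.aut`, `Em.g_conj`, `Em.cj`, `Em.flip`, `Em.exists_x`.
-/

set_option autoImplicit false
set_option linter.unusedSectionVars false
set_option linter.dupNamespace false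
set_option maxHeartbeats 400000

namespace Cfsg.Agent.LV.Cl

open Equiv Finset Cfsg.Agent.Tits.Exchange Cfsg.Agent.Tits.Core

variable {n : ℕ}

namespace Ey

theorem tt_π (j : Fin n) : (tt j).π = 1 := rfl
theorem tt_s (j x : Fin n) : (tt j).s x = if x = j then -1 else 1 := rfl
theorem sw_π (i j : Fin n) (e : ℤˣ) : (sw i j e).π = swap i j := rfl
theorem sw_s (i j : Fin n) (e : ℤˣ) (x : Fin n) : (sw i j e).s x = if x = i ∨ x = j then e else 1 := rfl
theorem sgn_apply (g : SG n) : sgn g = ∏ j, g.s j := rfl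

theorem ap_inv (π : Perm (Fin n)) (x : Fin n) : π (π⁻¹ x) = x := π.apply_symm_apply x
theorem inv_ap (π : Perm (Fin n)) (x : Fin n) : π⁻¹ (π x) = x := π.symm_apply_apply x

theorem mem_Tk {k : ℕ} {x : Fin n} : x ∈ Tk n k ↔ n ≤ x + k := by simp [Tk]

theorem Tk_zero : Tk n 0 = ∅ := eq_empty_of_forall_notMem fun x hx => by
  have := mem_Tk.1 hx
  omega

theorem Tk_self : Tk n n = univ := eq_univ_of_forall fun x => mem_Tk.2 (by omega)

theorem Tk_mono {k k' : ℕ} (h : k ≤ k') : Tk n k ⊆ Tk n k' := fun x hx => mem_Tk.2 (by have := mem_Tk.1 hx; omega)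

theorem Tk_succ {k : ℕ} {p : Fin n} (hp : (p : ℕ) + k + 1 = n) : Tk n (k + 1) \ {p} = Tk n k := by
  ext x
  rw [mem_sdiff, mem_singleton, mem_Tk, mem_Tk, Fin.ext_iff]
  omega

theorem card_Tk {k : ℕ} (h : k ≤ n) : #(Tk n k) = k := by
  induction k with
  | zero => rw [Tk_zero, card_empty]
  | succ k ih =>
    have h1 := card_sdiff_add_card_eq_card (s := {(⟨n - k - 1, by omega⟩ : Fin n)}) (t := Tk n (k + 1))
      (singleton_subset_iff.2 (mem_Tk.2 (by simp only; omega)))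
    rw [Tk_succ (by simp only; omega), ih (by omega), card_singleton] at h1
    exact h1.symm

theorem conj_tt (h : SG n) (j : Fin n) : h * tt j * h⁻¹ = tt (h.π j) := by
  rw [mul_inv_eq_iff_eq_mul]
  refine SG.ext (by simp [tt_π]) (funext fun x => ?_)
  simp [tt_π, tt_s, mul_comm]

theorem conj_sw (h : SG n) (i j : Fin n) (e : ℤˣ) :
    h * sw i j e * h⁻¹ = sw (h.π i) (h.π j) (e * h.s i * h.s j) := by
  rw [mul_inv_eq_iff_eq_mul]
  refine SG.ext (mul_swap_eq_swap_mul _ _ _) (funext fun x => ?_)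
  simp only [mul_s, sw_π, sw_s, EmbeddingLike.apply_eq_iff_eq]
  by_cases h1 : x = i
  · subst h1
    rw [swap_apply_left, if_pos (Or.inl rfl), if_pos (Or.inl rfl), mul_right_comm _ (h.s j), mul_assoc e,
      Int.units_mul_self, mul_one, mul_comm]
  by_cases h2 : x = j
  · subst h2
    rw [swap_apply_right, if_pos (Or.inr rfl), if_pos (Or.inr rfl), mul_assoc, Int.units_mul_self, mul_one, mul_comm]
  · rw [swap_apply_of_ne_of_ne h1 h2, if_neg (by tauto), if_neg (by tauto), mul_comm]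

theorem sw_comm (i j : Fin n) (e : ℤˣ) : sw i j e = sw j i e :=
  SG.ext (swap_comm i j) (funext fun x => by simp only [sw_s, or_comm])

theorem sw_self (i : Fin n) : sw i i 1 = 1 := SG.ext (swap_self i) (funext fun x => by simp [sw_s])

theorem tt_mul_self (j : Fin n) : tt j * tt j = 1 :=
  SG.ext (mul_one _) (funext fun _ => Int.units_mul_self _)

theorem tt_inv (j : Fin n) : (tt j)⁻¹ = tt j := inv_eq_of_mul_eq_one_right (tt_mul_self j)

theorem sw_mul_sw {i j : Fin n} (h : i ≠ j) : sw i j 1 * sw i j (-1) = tt i * tt j := by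
  refine SG.ext ((swap_mul_self i j).trans (mul_one _).symm) (funext fun x => ?_)
  simp only [mul_s, sw_s, tt_s, tt_π, ite_self, one_mul, Perm.one_apply]
  by_cases h1 : x = i <;> by_cases h2 : x = j <;> simp_all

theorem sgn_tt (j : Fin n) : sgn (tt j) = -1 := by simp [sgn_apply, tt_s]

theorem sgn_sw {i j : Fin n} (h : i ≠ j) (e : ℤˣ) : sgn (sw i j e) = 1 := by
  rw [sgn_apply, ← prod_subset (f := (sw i j e).s) (subset_univ {i, j}) fun x _ hx => if_neg (by simpa using hx),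
    prod_pair h, sw_s, sw_s, if_pos (Or.inl rfl), if_pos (Or.inr rfl), Int.units_mul_self]

theorem tt_mem_On {T : Finset (Fin n)} {j : Fin n} : tt j ∈ On T ↔ j ∈ T :=
  ⟨fun h => by_contra fun hj => absurd (h j hj).2 (by simp [tt_s]), fun h x hx => ⟨rfl, if_neg fun e : x = j => hx (e ▸ h)⟩⟩

theorem sw_mem_On {T : Finset (Fin n)} {i j : Fin n} (e : ℤˣ) (hi : i ∈ T) (hj : j ∈ T) : sw i j e ∈ On T := fun _ hx =>
  ⟨swap_apply_of_ne_of_ne (fun h => hx (h ▸ hi)) fun h => hx (h ▸ hj),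
    if_neg fun h => h.elim (fun h => hx (h ▸ hi)) fun h => hx (h ▸ hj)⟩

theorem of_sw_mem_On {T : Finset (Fin n)} {i j : Fin n} {e : ℤˣ} (h : i ≠ j) (hT : sw i j e ∈ On T) : i ∈ T ∧ j ∈ T :=
  ⟨by_contra fun hi => h ((hT i hi).1.symm.trans (swap_apply_left i j)),
    by_contra fun hj => h ((swap_apply_right i j).symm.trans (hT j hj).1)⟩

theorem On_mono {T T' : Finset (Fin n)} (h : T ⊆ T') : On T ≤ On T' := fun _ hg j hj => hg j fun h1 => hj (h h1)

theorem stab_of_On {T : Finset (Fin n)} {g : SG n} (h : g ∈ On T) : Stab T g.π := fun x =>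
  ⟨fun h1 => by_contra fun h2 => h2 ((h x h2).1 ▸ h1), fun h1 => by_contra fun h2 =>
    h2 ((g.π.injective (h _ h2).1).symm ▸ h1)⟩

theorem stab_mul {T : Finset (Fin n)} {π σ : Perm (Fin n)} (h : Stab T π) (h' : Stab T σ) : Stab T (π * σ) :=
  fun x => (h (σ x)).trans (h' x)

theorem stab_inv {T : Finset (Fin n)} {π : Perm (Fin n)} (h : Stab T π) : Stab T π⁻¹ := fun x => by
  rw [← h (π⁻¹ x), ap_inv]

theorem sgn_On {T : Finset (Fin n)} {g : SG n} (h : g ∈ On T) : sgn g = ∏ j ∈ T, g.s j :=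
  (prod_subset (subset_univ T) fun x _ hx => (h x hx).2).symm

theorem prod_stab {T : Finset (Fin n)} {π : Perm (Fin n)} (h : Stab T π) (s : Fin n → ℤˣ) :
    ∏ j ∈ T, s (π j) = ∏ j ∈ T, s j := prod_equiv π (fun j => (h j).symm) fun _ _ => rfl

theorem conj_mem_On {T : Finset (Fin n)} {g h : SG n} (hh : Stab T h.π) (hg : g ∈ On T) : h * g * h⁻¹ ∈ On T := by
  intro j hj
  obtain ⟨h1, h2⟩ := hg (h.π⁻¹ j) fun h1 => hj ((stab_inv hh j).1 h1)
  simp only [mul_π, mul_s, inv_π, inv_s, Perm.mul_apply, h1, h2, ap_inv, mul_one, Int.units_mul_self, and_self]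

/-- an element which is trivial on `T` commutes with the elements supported on `T` -/
theorem commute_On {T : Finset (Fin n)} {g h : SG n} (hh : ∀ j ∈ T, h.π j = j ∧ h.s j = 1) (hg : g ∈ On T) :
    Commute g h := by
  have h1 : ∀ j, j ∉ T → h.π j ∉ T := fun j hj h1 => hj (h.π.injective (hh _ h1).1 ▸ h1)
  refine SG.ext (Equiv.ext fun j => ?_) (funext fun j => ?_) <;> by_cases hj : j ∈ T
  · rw [mul_π, mul_π, Perm.mul_apply, Perm.mul_apply, (hh j hj).1, (hh _ ((stab_of_On hg j).2 hj)).1]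
  · rw [mul_π, mul_π, Perm.mul_apply, Perm.mul_apply, (hg j hj).1, (hg _ (h1 j hj)).1]
  · rw [mul_s, mul_s, (hh j hj).1, (hh j hj).2, (hh _ ((stab_of_On hg j).2 hj)).2, mul_comm]
  · rw [mul_s, mul_s, (hg j hj).1, (hg j hj).2, (hg _ (h1 j hj)).2, mul_comm]

/-- the part of `g` on `T` -/
def res (T : Finset (Fin n)) (g : SG n) (h : Stab T g.π) : SG n :=
  ⟨Perm.ofSubtype (g.π.subtypePerm (p := fun x => x ∈ T) h), fun j => if j ∈ T then g.s j else 1⟩

theorem res_mem {T : Finset (Fin n)} {g : SG n} (h : Stab T g.π) : res T g h ∈ On T := fun _ hj =>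
  ⟨Perm.ofSubtype_apply_of_not_mem _ hj, if_neg hj⟩

theorem res_on {T : Finset (Fin n)} {g : SG n} (h : Stab T g.π) {j : Fin n} (hj : j ∈ T) :
    (res T g h).π j = g.π j ∧ (res T g h).s j = g.s j := ⟨Perm.ofSubtype_apply_of_mem _ hj, if_pos hj⟩

theorem res_out {T : Finset (Fin n)} {g : SG n} (h : Stab T g.π) {j : Fin n} (hj : j ∈ T) :
    ((res T g h)⁻¹ * g).π j = j ∧ ((res T g h)⁻¹ * g).s j = 1 := by
  have h1 : (res T g h).π⁻¹ (g.π j) = j := by rw [← (res_on h hj).1, inv_ap]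
  rw [mul_π, mul_s, inv_π, inv_s, Perm.mul_apply, h1, (res_on h hj).2, Int.units_mul_self]
  exact ⟨rfl, rfl⟩

theorem sgn_res {T : Finset (Fin n)} {g : SG n} (h : Stab T g.π) : sgn (res T g h) = ∏ j ∈ T, g.s j :=
  (sgn_On (res_mem h)).trans (prod_congr rfl fun _ hj => (res_on h hj).2)

/-- permutations without signs -/
def pm : Perm (Fin n) →* SG n := MonoidHom.mk' (fun π => ⟨π, 1⟩) fun _ _ => SG.ext rfl (funext fun _ => (one_mul _).symm)

/-- sign changes -/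
def dg : (Fin n → ℤˣ) →* SG n := MonoidHom.mk' (fun s => ⟨1, s⟩) fun _ _ => SG.ext (one_mul _).symm rfl

theorem pm_mul_dg (g : SG n) : pm g.π * dg g.s = g := SG.ext (mul_one _) (funext fun _ => one_mul _)

theorem pm_swap (i j : Fin n) : pm (swap i j) = sw i j 1 := SG.ext rfl (funext fun _ => (ite_self _).symm)

theorem sgn_pm (π : Perm (Fin n)) : sgn (pm π) = 1 := (sgn_apply _).trans (prod_eq_one fun _ _ => rfl)

theorem dg_single (j : Fin n) : dg (Pi.mulSingle j (-1)) = tt j := SG.ext rfl (funext fun x => Pi.mulSingle_apply j _ x)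

variable {H : Subgroup (SG n)} {α : Type*} {c : Fin n → α}

theorem sw_mem (hc : ∀ x y z : Fin n, x ≤ y → y ≤ z → c x = c z → c y = c x)
    (h : ∀ x y : Fin n, (y : ℕ) = x + 1 → c x = c y → sw x y 1 ∈ H) (x y : Fin n) (hxy : c x = c y) : sw x y 1 ∈ H := by
  have key : ∀ (d : ℕ) (x y : Fin n), (y : ℕ) = x + d → c x = c y → sw x y 1 ∈ H := fun d => by
    induction d with
    | zero => exact fun x y h1 _ => by rw [show y = x from Fin.ext h1, sw_self]; exact one_mem _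
    | succ d ih =>
      intro x y h1 h2
      rcases d with _ | d
      · exact h x y h1 h2
      let z : Fin n := ⟨y - 1, by omega⟩
      have h3 : c z = c x := hc x z y (Fin.le_def.2 (by simp only [z]; omega)) (Fin.le_def.2 (Nat.sub_le _ _)) h2
      have h4 := h z y (by simp only [z]; omega) (h3.trans h2)
      have h5 := mul_mem (mul_mem h4 (ih x z (by simp only [z]; omega) h3.symm)) (inv_mem h4)
      rwa [conj_sw, sw_π, swap_apply_left, swap_apply_of_ne_of_ne (Fin.ne_of_val_ne (by simp only [z]; omega))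
        (Fin.ne_of_val_ne (by omega)), sw_s, sw_s, ite_self, ite_self, mul_one, mul_one] at h5
  rcases le_total x y with h1 | h1
  · exact key (y - x) x y (by have := Fin.le_def.1 h1; omega) hxy
  · exact sw_comm y x 1 ▸ key (x - y) y x (by have := Fin.le_def.1 h1; omega) hxy.symm

theorem pm_mem (h : ∀ x y : Fin n, c x = c y → sw x y 1 ∈ H) (π : Perm (Fin n)) (hπ : ∀ x, c (π x) = c x) : pm π ∈ H := by
  induction hm : #π.support using Nat.strong_induction_on generalizing π with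
  | _ m ih =>
    by_cases h1 : π = 1
    · rw [h1, map_one]; exact one_mem _
    obtain ⟨x, hx⟩ : ∃ x, π x ≠ x := by
      by_contra h2
      push Not at h2
      exact h1 (Equiv.ext h2)
    have h2 := ih _ (hm ▸ Perm.card_support_swap_mul hx) (swap x (π x) * π) (fun y => by
      rw [Perm.mul_apply, swap_apply_def]
      split_ifs with h3 h4
      · rw [hπ, ← h3, hπ]
      · rw [π.injective h4]
      · exact hπ y) rfl
    have h3 := mul_mem (h x (π x) (hπ x).symm) h2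
    rwa [← pm_swap, ← map_mul, ← mul_assoc, swap_mul_self, one_mul] at h3

theorem dg_mem {s : Fin n → ℤˣ} (h : ∀ x, s x = -1 → tt x ∈ H) : dg s ∈ H := by
  rw [← univ_prod_mulSingle s]
  refine (H.comap dg).prod_mem fun x _ => ?_
  rcases Int.units_eq_one_or (s x) with h1 | h1
  · rw [h1, Pi.mulSingle_one]; exact one_mem _
  · rw [h1, Subgroup.mem_comap, dg_single]; exact h x h1

theorem dg_mem' {s : Fin n → ℤˣ} (l : Fin n) (h : ∀ x, s x = -1 → tt x * tt l ∈ H) (hs : ∏ j, s j = 1) : dg s ∈ H := by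
  have h0 : ∏ x, (Pi.mulSingle x (s x) * Pi.mulSingle l (s x) : Fin n → ℤˣ) = s := by
    have h1 := map_prod (MonoidHom.mulSingle (fun _ : Fin n => ℤˣ) l) s univ
    simp only [MonoidHom.mulSingle_apply] at h1
    rw [prod_mul_distrib, univ_prod_mulSingle, ← h1, hs, Pi.mulSingle_one, mul_one]
  rw [← h0]
  refine (H.comap dg).prod_mem fun x _ => ?_
  rcases Int.units_eq_one_or (s x) with h1 | h1
  · rw [h1, Pi.mulSingle_one, Pi.mulSingle_one, mul_one]; exact one_mem _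
  · rw [h1, Subgroup.mem_comap, map_mul, dg_single, dg_single]; exact h x h1

/-- the elements which preserve the classes of `f` and have trivial signs outside `T` -/
def Par (T : Finset (Fin n)) (f : Fin n → α) : Subgroup (SG n) where
  carrier := {g | Stab T g.π ∧ ∀ x, x ∉ T → f (g.π x) = f x ∧ g.s x = 1}
  one_mem' := ⟨fun _ => Iff.rfl, fun _ _ => ⟨rfl, rfl⟩⟩
  mul_mem' {a b} ha hb := ⟨stab_mul ha.1 hb.1, fun x hx => by
    have h1 := ha.2 (b.π x) fun h => hx ((hb.1 x).1 h)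
    rw [mul_π, mul_s, Perm.mul_apply, h1.1, h1.2, (hb.2 x hx).1, (hb.2 x hx).2, mul_one]
    exact ⟨rfl, rfl⟩⟩
  inv_mem' {a} ha := ⟨stab_inv ha.1, fun x hx => by
    have h1 := ha.2 (a.π⁻¹ x) fun h => hx ((stab_inv ha.1 x).1 h)
    rw [ap_inv] at h1
    exact ⟨h1.1.symm, h1.2⟩⟩

theorem On_le_Par (T : Finset (Fin n)) (f : Fin n → α) : On T ≤ Par T f := fun _ hg =>
  ⟨stab_of_On hg, fun x hx => ⟨congrArg f (hg x hx).1, (hg x hx).2⟩⟩

theorem sw_mem_Par {T : Finset (Fin n)} {f : Fin n → α} {x y : Fin n} (hx : x ∉ T) (hy : y ∉ T) (h : f x = f y) :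
    sw x y 1 ∈ Par T f := by
  refine ⟨fun z => ?_, fun z _ => ⟨?_, ite_self _⟩⟩ <;> rw [sw_π, swap_apply_def] <;> split_ifs <;> simp_all

end Ey

open Ey

namespace Em

variable {I W : Type} {M : CoxeterMatrix I} [Group W] {cs : CoxeterSystem M W} {ψ : MulAut W} {b : Bool} (E : Em cs ψ n b)

/-- the last coordinate -/
def lst : Fin n := ⟨n - 1, by have := E.two; omega⟩

/-- the last but one coordinate -/
def pen : Fin n := ⟨n - 2, by have := E.two; omega⟩

theorem lst_val : (E.lst : ℕ) + 1 = n := by have := E.two; simp only [lst]; omega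

theorem pen_val : (E.lst : ℕ) = E.pen + 1 := by have := E.two; simp only [lst, pen]; omega

theorem pen_ne : E.pen ≠ E.lst := Fin.ne_of_val_ne (by have := E.pen_val; omega)

theorem eq_lst {j : Fin n} (h : (j : ℕ) + 1 = n) : j = E.lst := Fin.ext (by have := E.lst_val; omega)

theorem lst_mem {k : ℕ} (h : 1 ≤ k) : E.lst ∈ Tk n k := mem_Tk.2 (by have := E.lst_val; omega)

theorem hτ' : E.τ = 1 ∨ (b = false ∧ E.τ = tt E.lst) := E.hτ.imp_right fun ⟨h1, _, h2, h3⟩ => ⟨h1, E.eq_lst h2 ▸ h3⟩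

theorem nd_mem_J {k : ℕ} {x : Fin n} : E.nd x ∈ E.J k ↔ x ∈ Tk n k ∧ (b = true ∨ 2 ≤ k) := by simp [J]

theorem J_mono {k k' : ℕ} (h : k ≤ k') : E.J k ⊆ E.J k' := fun _ hi => ⟨Tk_mono h hi.1, hi.2.imp_right fun h1 => h1.trans h⟩

theorem J_zero : E.J 0 = ∅ := Set.eq_empty_of_forall_notMem fun _ hi => absurd (Tk_zero ▸ hi.1) (notMem_empty _)

theorem J_self : E.J n = Set.univ := Set.eq_univ_of_forall fun _ => ⟨Tk_self ▸ mem_univ _, Or.inr E.two⟩

/-- the simple reflections -/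
theorem simple_cases (x : Fin n) : (∃ y : Fin n, (y : ℕ) = x + 1 ∧ E.emb (cs.simple (E.nd x)) = sw x y 1) ∨
    (x = E.lst ∧ (b = true ∧ E.emb (cs.simple (E.nd x)) = tt x ∨
      b = false ∧ E.emb (cs.simple (E.nd x)) = sw E.pen x (-1))) := by
  by_cases h : (x : ℕ) + 1 < n
  · exact Or.inl ⟨⟨x + 1, h⟩, rfl, E.simple x _ rfl⟩
  have h1 : (x : ℕ) + 1 = n := by omega
  refine Or.inr ⟨E.eq_lst h1, ?_⟩
  cases b
  · exact Or.inr ⟨rfl, E.lastD rfl _ _ (E.eq_lst h1 ▸ E.pen_val) h1⟩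
  · exact Or.inl ⟨rfl, E.lastB rfl _ h1⟩

theorem simple_mem_On {k : ℕ} {i : I} (hi : i ∈ E.J k) : E.emb (cs.simple i) ∈ On (Tk n k) := by
  obtain ⟨x, rfl⟩ := E.nd.surjective i
  obtain ⟨h1, h2⟩ := E.nd_mem_J.1 hi
  rcases E.simple_cases x with ⟨y, h3, h4⟩ | ⟨h3, ⟨-, h4⟩ | ⟨h5, h4⟩⟩ <;> rw [h4]
  · exact sw_mem_On _ h1 (mem_Tk.2 (by have := mem_Tk.1 h1; omega))
  · exact tt_mem_On.2 h1
  · refine sw_mem_On _ (mem_Tk.2 ?_) h1
    have := E.pen_val
    have := E.lst_val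
    have := h2.resolve_left (by simp [h5])
    omega

theorem mem_map {S : Subgroup W} {v : W} : E.emb v ∈ S.map E.emb ↔ v ∈ S := Subgroup.mem_map_iff_mem E.inj

theorem simple_mem_map {S : Set I} {i : I} (hi : i ∈ S) : E.emb (cs.simple i) ∈ (WJ cs S).map E.emb :=
  E.mem_map.2 (simple_mem_WJ cs hi)

theorem mem_of_simple {S : Set I} {H : Subgroup (SG n)} (h : ∀ i ∈ S, E.emb (cs.simple i) ∈ H) {v : W}
    (hv : v ∈ WJ cs S) : E.emb v ∈ H :=
  (Subgroup.closure_le (H.comap E.emb)).2 (by rintro _ ⟨i, hi, rfl⟩; exact h i hi) hv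

/-- unsigned permutations which preserve convex classes -/
theorem pm_mem_map {α : Type*} {c : Fin n → α} {S : Set I} (hc : ∀ x y z : Fin n, x ≤ y → y ≤ z → c x = c z → c y = c x)
    (hS : ∀ x y : Fin n, (y : ℕ) = x + 1 → c x = c y → E.nd x ∈ S) {π : Perm (Fin n)} (hπ : ∀ x, c (π x) = c x) :
    pm π ∈ (WJ cs S).map E.emb :=
  pm_mem (sw_mem hc fun x y h1 h2 => E.simple x y h1 ▸ E.simple_mem_map (hS x y h1 h2)) π hπ

theorem sw_mem_map {k : ℕ} {x y : Fin n} (hx : x ∈ Tk n k) (hy : y ∈ Tk n k) : sw x y 1 ∈ (WJ cs (E.J k)).map E.emb := by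
  rw [← pm_swap]
  refine E.pm_mem_map (c := fun z => if z ∈ Tk n k then x else z) (fun u v w h1 h2 h3 => ?_) (fun u v h1 h2 => ?_)
    fun z => ?_
  · simp only [mem_Tk] at hx h3 ⊢
    split_ifs at h3 ⊢ <;> omega
  · simp only [E.nd_mem_J, mem_Tk] at hx h2 ⊢
    split_ifs at h2 ⊢ <;> omega
  · rw [swap_apply_def]
    split_ifs <;> simp_all

theorem dg_mem_map {k : ℕ} {s : Fin n → ℤˣ} (h : ∀ x, x ∉ Tk n k → s x = 1) (hs : b = false → ∏ j, s j = 1) :
    dg s ∈ (WJ cs (E.J k)).map E.emb := by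
  have h0 : ∀ x, s x = -1 → x ∈ Tk n k := fun x hx => by_contra fun h1 => absurd ((h x h1).symm.trans hx) (by decide)
  have h1 := E.lst_val
  have h2 := E.pen_val
  cases b
  · refine dg_mem' E.lst (fun x hx => ?_) (hs rfl)
    by_cases h3 : x = E.lst
    · rw [h3, tt_mul_self]; exact one_mem _
    have h4 := mem_Tk.1 (h0 x hx)
    have h5 := Fin.val_ne_of_ne h3
    have h6 := E.sw_mem_map (h0 x hx) (mem_Tk.2 (show n ≤ E.pen + k by omega))
    have h7 := E.lst_mem (k := k) (by omega)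
    have h8 := mul_mem (mul_mem h6 (E.lastD rfl _ _ h2 h1 ▸ E.simple_mem_map (E.nd_mem_J.2 ⟨h7, Or.inr (by omega)⟩)))
      (inv_mem h6)
    rw [conj_sw, sw_π, swap_apply_right, swap_apply_of_ne_of_ne (Ne.symm h3) E.pen_ne.symm, sw_s, sw_s, ite_self, ite_self,
      mul_one, mul_one] at h8
    exact sw_mul_sw h3 ▸ mul_mem (E.sw_mem_map (h0 x hx) h7) h8
  · refine dg_mem fun x hx => ?_
    have h7 := E.lst_mem (k := k) (by have := mem_Tk.1 (h0 x hx); omega)
    have h6 := E.sw_mem_map (h0 x hx) h7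
    have h8 := mul_mem (mul_mem h6 (E.lastB rfl _ h1 ▸ E.simple_mem_map (E.nd_mem_J.2 ⟨h7, Or.inl rfl⟩))) (inv_mem h6)
    rwa [conj_tt, sw_π, swap_apply_right] at h8

/-- **the parabolic subgroup of `K ∪ J`** -/
theorem mem_KJ {k : ℕ} {f : Fin n → ℕ} (hc : ∀ x y z : Fin n, x ≤ y → y ≤ z → z ∉ Tk n k → f x = f z → f y = f x) {v : W} :
    v ∈ WJ cs (E.K k f ∪ E.J k) ↔
      Stab (Tk n k) (E.emb v).π ∧ ∀ x, x ∉ Tk n k → f ((E.emb v).π x) = f x ∧ (E.emb v).s x = 1 := by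
  refine ⟨E.mem_of_simple (H := Par (Tk n k) f) ?_, fun ⟨h1, h2⟩ => ?_⟩
  · rintro i (⟨x, y, rfl, h1, h2, h3, h4⟩ | hi)
    · exact E.simple x y h1 ▸ sw_mem_Par h2 h3 h4
    · exact On_le_Par _ _ (E.simple_mem_On hi)
  rw [← E.mem_map, ← pm_mul_dg (E.emb v)]
  refine mul_mem (E.pm_mem_map (c := fun z => if z ∈ Tk n k then 0 else f z + 1) (fun x y z h3 h4 h5 => ?_)
    (fun x y h3 h4 => ?_) fun x => ?_)
    (Subgroup.map_mono (WJ_mono cs Set.subset_union_right) (E.dg_mem_map (fun x hx => (h2 x hx).2) fun hb => E.even hb v))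
  · have h6 := hc x y z h3 h4
    simp only [mem_Tk] at h5 h6 ⊢
    split_ifs at h5 ⊢ <;> omega
  · by_cases h5 : x ∈ Tk n k
    · exact Or.inr (E.nd_mem_J.2 ⟨h5, Or.inr (by have := mem_Tk.1 h5; omega)⟩)
    · simp only [if_neg h5] at h4
      split_ifs at h4 with h6
      exact Or.inl ⟨x, y, rfl, h3, h5, h6, by omega⟩
  · by_cases h5 : x ∈ Tk n k
    · simp only [if_pos h5, if_pos ((h1 x).2 h5)]
    · simp only [if_neg h5, if_neg (mt (h1 x).1 h5), (h2 x h5).1]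

/-- **the parabolic subgroup of `K`** -/
theorem mem_K {k : ℕ} {f : Fin n → ℕ} (hc : ∀ x y z : Fin n, x ≤ y → y ≤ z → z ∉ Tk n k → f x = f z → f y = f x) {v : W} :
    v ∈ WJ cs (E.K k f) ↔ (∀ x ∈ Tk n k, (E.emb v).π x = x) ∧ (∀ x, (E.emb v).s x = 1) ∧
      ∀ x, x ∉ Tk n k → f ((E.emb v).π x) = f x := by
  refine ⟨fun hv => ?_, fun ⟨h1, h2, h3⟩ => ?_⟩
  · have h1 := E.mem_of_simple (H := Par (Tk n k) f ⊓ On (Tk n k)ᶜ) (by
      rintro i ⟨x, y, rfl, h1, h2, h3, h4⟩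
      exact E.simple x y h1 ▸ ⟨sw_mem_Par h2 h3 h4, sw_mem_On _ (mem_compl.2 h2) (mem_compl.2 h3)⟩) hv
    refine ⟨fun x hx => (h1.2 x (by simpa using hx)).1, fun x => ?_, fun x hx => (h1.1.2 x hx).1⟩
    by_cases hx : x ∈ Tk n k
    · exact (h1.2 x (by simpa using hx)).2
    · exact (h1.1.2 x hx).2
  rw [← E.mem_map, ← pm_mul_dg (E.emb v), show (E.emb v).s = 1 from funext h2, map_one, mul_one]
  refine E.pm_mem_map (c := fun z => if z ∈ Tk n k then (z : ℕ) else n + f z) (fun x y z h3 h4 h5 => ?_)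
    (fun x y h3 h4 => ?_) fun x => ?_
  · have h6 := hc x y z h3 h4
    simp only [mem_Tk] at h5 h6 ⊢
    split_ifs at h5 ⊢ <;> omega
  · split_ifs at h4 with h5 h6 h6
    · omega
    · omega
    · omega
    · exact ⟨x, y, rfl, h3, h5, h6, by omega⟩
  · by_cases h5 : x ∈ Tk n k
    · rw [h1 x h5]
    · have h6 : (E.emb v).π x ∉ Tk n k := fun h6 => h5 ((E.emb v).π.injective (h1 _ h6) ▸ h6)
      simp only [if_neg h5, if_neg h6, h3 x h5]

/-- **the parabolic subgroup of `J`** -/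
theorem mem_J {k : ℕ} {v : W} : v ∈ WJ cs (E.J k) ↔ E.emb v ∈ On (Tk n k) := by
  refine ⟨E.mem_of_simple fun _ => E.simple_mem_On, fun h => ?_⟩
  have h1 := (E.mem_KJ (k := k) (f := Fin.val) (fun x y z h1 h2 _ h3 => by omega)).2
    ⟨stab_of_On h, fun x hx => ⟨congrArg _ (h x hx).1, (h x hx).2⟩⟩
  rwa [show E.K k Fin.val = ∅ from Set.eq_empty_of_forall_notMem fun _ ⟨_, _, _, h1, _, _, h2⟩ => by omega,
    Set.empty_union] at h1

theorem exists_mem_J {k : ℕ} {h : SG n} (h1 : h ∈ On (Tk n k)) (h2 : b = false → sgn h = 1) :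
    ∃ x ∈ WJ cs (E.J k), E.emb x = h := by
  obtain ⟨x, rfl⟩ := E.surj h h2
  exact ⟨x, E.mem_J.2 h1, rfl⟩

/-! ### the twist -/

theorem g_mul (x w : W) : E.g (x * w) = E.emb x * E.g w := by rw [g, g, map_mul, mul_assoc]

theorem g_inj : Function.Injective E.g := fun _ _ h => E.inj (mul_right_cancel h)

theorem g_conj (v u : W) : E.g (v * u * (ψ v)⁻¹) = E.emb v * E.g u * (E.emb v)⁻¹ := by
  rw [g, g, map_mul, map_mul, map_inv, E.tw]; group

theorem emb_tw (w v : W) : E.emb (w * ψ v * w⁻¹) = E.g w * E.emb v * (E.g w)⁻¹ := by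
  rw [g, map_mul, map_mul, map_inv, E.tw]; group

theorem tw_mem_J {k : ℕ} {w v : W} (hw : Stab (Tk n k) (E.g w).π) (hv : v ∈ WJ cs (E.J k)) :
    w * ψ v * w⁻¹ ∈ WJ cs (E.J k) := E.mem_J.2 (E.emb_tw w v ▸ conj_mem_On hw (E.mem_J.1 hv))

theorem stab_mul_J {k : ℕ} {w x : W} (hw : Stab (Tk n k) (E.g w).π) (hx : x ∈ WJ cs (E.J k)) :
    Stab (Tk n k) (E.g (x * w)).π := E.g_mul x w ▸ stab_mul (stab_of_On (E.mem_J.1 hx)) hw

theorem ε_mul {k : ℕ} {w x : W} (hw : Stab (Tk n k) (E.g w).π) (hx : x ∈ WJ cs (E.J k)) :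
    E.ε k (x * w) = sgn (E.emb x) * E.ε k w := by
  simp only [ε, g_mul, mul_s, prod_mul_distrib]
  rw [prod_stab hw, sgn_On (E.mem_J.1 hx)]

/-- an element of the coset with prescribed action on the last `k` coordinates -/
theorem exists_x {k : ℕ} {w : W} (hw : Stab (Tk n k) (E.g w).π) {d : SG n} (hd : d ∈ On (Tk n k))
    (h : b = false → sgn d = E.ε k w) :
    ∃ x ∈ WJ cs (E.J k), E.g (x * w) = d * ((res _ _ hw)⁻¹ * E.g w) := by
  obtain ⟨x, hx, e⟩ := E.exists_mem_J (mul_mem hd (inv_mem (res_mem hw))) fun hb => by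
    rw [map_mul, map_inv, h hb, sgn_res, ε, mul_inv_cancel]
  exact ⟨x, hx, by rw [g_mul, e, mul_assoc]⟩

theorem normal_range : E.emb.range.Normal := ⟨by
  rintro _ ⟨v, rfl⟩ h
  exact E.surj _ fun hb => by rw [map_mul, map_mul, E.even hb, mul_one, map_inv, mul_inv_cancel]⟩

/-- the automorphism induced by a signed permutation -/
noncomputable def cj (h : SG n) : MulAut W :=
  have := E.normal_range
  ((MonoidHom.ofInjective E.inj).trans (MulAut.conjNormal h)).trans (MonoidHom.ofInjective E.inj).symm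

theorem emb_cj (h : SG n) (v : W) : E.emb (E.cj h v) = h * E.emb v * h⁻¹ := MonoidHom.apply_ofInjective_symm E.inj _

theorem tt_τ : Commute (tt E.lst) E.τ := by
  rcases E.hτ' with h | ⟨-, h⟩ <;> rw [h]
  exact Commute.one_right _

theorem g_cj {h : SG n} (hh : Commute h E.τ) (v : W) : E.g (E.cj h v) = h * E.g v * h⁻¹ := by
  rw [g, g, emb_cj, mul_assoc, hh.inv_left.eq, mul_assoc, mul_assoc, mul_assoc]

theorem conj_simple (hb : b = false) (x : Fin n) : tt E.lst * E.emb (cs.simple (E.nd x)) * (tt E.lst)⁻¹ =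
    E.emb (cs.simple (E.nd (swap E.pen E.lst x))) := by
  have h1 := E.lst_val
  have h2 := E.pen_val
  rcases E.simple_cases x with ⟨y, h3, h4⟩ | ⟨rfl, ⟨h3, -⟩ | ⟨-, h4⟩⟩
  · have h5 : x ≠ E.lst := Fin.ne_of_val_ne (by omega)
    by_cases h6 : x = E.pen
    · obtain rfl : y = E.lst := E.eq_lst (by rw [h3, h6]; omega)
      rw [h4, h6, swap_apply_left, E.lastD hb _ _ h2 h1, conj_sw]
      simp [tt_π, tt_s, E.pen_ne]
    · have h7 : y ≠ E.lst := Fin.ne_of_val_ne (by have := Fin.val_ne_of_ne h6; omega)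
      rw [swap_apply_of_ne_of_ne h6 h5, h4, conj_sw]
      simp [tt_π, tt_s, h5, h7]
  · simp [hb] at h3
  · rw [h4, swap_apply_right, E.simple _ _ h2, conj_sw]
    simp [tt_π, tt_s, E.pen_ne]

include E in
theorem aut : T.Aut cs ψ := fun i => by
  obtain ⟨x, rfl⟩ := E.nd.surjective i
  rcases E.hτ' with h | ⟨hb, h⟩
  · exact ⟨E.nd x, E.inj (by rw [E.tw, h, one_mul, inv_one, mul_one])⟩
  · exact ⟨_, E.inj (by rw [E.tw, h, E.conj_simple hb])⟩

/-! ### reflections -/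

theorem isReflection_iff {t : W} : cs.IsReflection t ↔
    (∃ (x y : Fin n) (e : ℤˣ), x < y ∧ E.emb t = sw x y e) ∨ (b = true ∧ ∃ x, E.emb t = tt x) := by
  constructor
  · rintro ⟨v, i, rfl⟩
    obtain ⟨x, rfl⟩ := E.nd.surjective i
    have key : ∀ (x y : Fin n) (e : ℤˣ), x ≠ y → ∃ (x' y' : Fin n) (e' : ℤˣ), x' < y' ∧
        E.emb v * sw x y e * (E.emb v)⁻¹ = sw x' y' e' := fun x y e h => by
      rcases lt_or_gt_of_ne ((E.emb v).π.injective.ne h) with h1 | h1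
      · exact ⟨_, _, _, h1, conj_sw _ _ _ _⟩
      · exact ⟨_, _, _, h1, (conj_sw _ _ _ _).trans (sw_comm _ _ _)⟩
    rw [map_mul, map_mul, map_inv]
    rcases E.simple_cases x with ⟨y, h3, h4⟩ | ⟨h5, ⟨h3, h4⟩ | ⟨-, h4⟩⟩ <;> rw [h4]
    · exact Or.inl (key _ _ _ (Fin.ne_of_val_ne (by omega)))
    · exact Or.inr ⟨h3, _, conj_tt _ _⟩
    · exact Or.inl (key _ _ _ (h5 ▸ E.pen_ne))
  have key : ∀ (h : SG n) (x : Fin n), (b = false → sgn h = 1) → E.emb t = h * E.emb (cs.simple (E.nd x)) * h⁻¹ →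
      cs.IsReflection t := fun h x h1 h2 => by
    obtain ⟨v, rfl⟩ := E.surj h h1
    exact ⟨v, E.nd x, E.inj (by rw [h2, map_mul, map_mul, map_inv])⟩
  have h1 := E.lst_val
  have h2 := E.pen_val
  rintro (⟨x, y, e, h3, h4⟩ | ⟨hb, x, h4⟩)
  · obtain ⟨π, h5, h6⟩ : ∃ π : Perm (Fin n), π E.pen = x ∧ π E.lst = y :=
      ⟨swap (swap E.pen x E.lst) y * swap E.pen x, by
        rw [Perm.mul_apply, swap_apply_left, swap_apply_of_ne_of_ne _ h3.ne]
        rw [Ne, ← (swap E.pen x).symm_apply_eq, symm_swap, swap_apply_right]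
        exact E.pen_ne, by rw [Perm.mul_apply, swap_apply_left]⟩
    have h7 : ∀ e, pm π * sw E.pen E.lst e * (pm π)⁻¹ = sw x y e := fun e => by
      rw [conj_sw, ← h5, ← h6]
      exact congrArg _ ((mul_one _).trans (mul_one _))
    rcases Int.units_eq_one_or e with rfl | rfl
    · exact key (pm π) E.pen (fun _ => sgn_pm π) (by rw [E.simple _ _ h2, h7, h4])
    cases b
    · exact key (pm π) E.lst (fun _ => sgn_pm π) (by rw [E.lastD rfl _ _ h2 h1, h7, h4])
    · refine key (tt x * pm π) E.pen (fun h => by simp at h) ?_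
      rw [E.simple _ _ h2, mul_inv_rev, ← mul_assoc, mul_assoc (tt x), mul_assoc (tt x), h7, conj_sw, h4]
      simp [tt_π, tt_s, h3.ne']
  · refine key (sw x E.lst 1) E.lst (fun h => by simp [hb] at h) ?_
    rw [E.lastB hb _ h1, conj_tt, sw_π, swap_apply_right, h4]

variable [Fintype W]

/-- **the reflections of `W_J`** -/
theorem mem_rf_J {k : ℕ} {t : W} : t ∈ T.rf cs (E.J k) ↔
    (∃ x ∈ Tk n k, ∃ y ∈ Tk n k, ∃ e : ℤˣ, x < y ∧ E.emb t = sw x y e) ∨ (b = true ∧ ∃ x ∈ Tk n k, E.emb t = tt x) := by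
  rw [T.mem_rf, E.isReflection_iff, E.mem_J]
  constructor
  · rintro ⟨⟨x, y, e, h1, h2⟩ | ⟨hb, x, h2⟩, h3⟩ <;> rw [h2] at h3
    · exact Or.inl ⟨x, (of_sw_mem_On h1.ne h3).1, y, (of_sw_mem_On h1.ne h3).2, e, h1, h2⟩
    · exact Or.inr ⟨hb, x, tt_mem_On.1 h3, h2⟩
  · rintro (⟨x, hx, y, hy, e, h1, h2⟩ | ⟨hb, x, hx, h2⟩)
    · exact ⟨Or.inl ⟨x, y, e, h1, h2⟩, h2 ▸ sw_mem_On e hx hy⟩
    · exact ⟨Or.inr ⟨hb, x, h2⟩, h2 ▸ tt_mem_On.2 hx⟩

theorem sum_rf_J {A : Type*} [AddCommMonoid A] (k : ℕ) (Y : SG n → A) : ∑ t ∈ T.rf cs (E.J k), Y (E.emb t) =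
    ∑ x ∈ Tk n k, ∑ y ∈ Tk n k with x < y, (Y (sw x y 1) + Y (sw x y (-1))) +
      if b then ∑ x ∈ Tk n k, Y (tt x) else 0 := by
  classical
  let P : Finset ((Fin n × Fin n) × ℤˣ) := (Tk n k ×ˢ Tk n k).filter (fun p => p.1 < p.2) ×ˢ univ
  let Q : Finset (Fin n) := if b then Tk n k else ∅
  have h1 : Set.InjOn (fun p : (Fin n × Fin n) × ℤˣ => sw p.1.1 p.1.2 p.2) P := by
    rintro ⟨⟨x, y⟩, e⟩ hp ⟨⟨x', y'⟩, e'⟩ hq h
    have h2 : x < y := (mem_filter.1 (mem_product.1 hp).1).2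
    have h3 : x' < y' := (mem_filter.1 (mem_product.1 hq).1).2
    have h4 : sw x y e = sw x' y' e' := h
    have h5 := of_sw_mem_On h2.ne (h4 ▸ sw_mem_On (T := {x', y'}) e' (by simp) (by simp))
    simp only [mem_insert, mem_singleton] at h5
    obtain rfl : x = x' := by omega
    obtain rfl : y = y' := by omega
    have h6 := congrArg (fun g : SG n => g.s x) h4
    simp only [sw_s, true_or, if_true] at h6
    rw [h6]
  have h2 : Set.InjOn tt (Q : Set (Fin n)) := fun x _ y _ h =>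
    mem_singleton.1 (tt_mem_On.1 (h ▸ tt_mem_On.2 (mem_singleton_self y) : tt x ∈ On {y}))
  have h3 : Disjoint (P.image fun p => sw p.1.1 p.1.2 p.2) (Q.image tt) := by
    rw [disjoint_left]
    intro g h3 h4
    obtain ⟨p, hp, rfl⟩ := mem_image.1 h3
    obtain ⟨x, -, h5⟩ := mem_image.1 h4
    exact (mem_filter.1 (mem_product.1 hp).1).2.ne (swap_eq_one_iff.1 (congrArg SG.π h5).symm)
  have h4 : (T.rf cs (E.J k)).image E.emb = (P.image fun p => sw p.1.1 p.1.2 p.2) ∪ Q.image tt := by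
    ext g
    simp only [mem_image, mem_union, E.mem_rf_J]
    constructor
    · rintro ⟨t, ⟨x, hx, y, hy, e, h5, h6⟩ | ⟨hb, x, hx, h6⟩, rfl⟩
      · exact Or.inl ⟨((x, y), e), mem_product.2 ⟨mem_filter.2 ⟨mem_product.2 ⟨hx, hy⟩, h5⟩, mem_univ _⟩, h6.symm⟩
      · exact Or.inr ⟨x, by simp [Q, hb, hx], h6.symm⟩
    · rintro (⟨⟨⟨x, y⟩, e⟩, hp, rfl⟩ | ⟨x, hx, rfl⟩)
      · simp only [P, mem_product, mem_filter, mem_univ, and_true] at hp
        obtain ⟨t, ht⟩ := E.surj (sw x y e) fun _ => sgn_sw hp.2.ne e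
        exact ⟨t, Or.inl ⟨x, hp.1.1, y, hp.1.2, e, hp.2, ht⟩, ht⟩
      · cases b
        · simp [Q] at hx
        · obtain ⟨t, ht⟩ := E.surj (tt x) fun h => by simp at h
          exact ⟨t, Or.inr ⟨rfl, x, hx, ht⟩, ht⟩
  rw [← sum_image (f := Y) E.inj.injOn, h4, sum_union h3, sum_image h1, sum_image h2, sum_product, sum_filter, sum_product]
  congr 1
  · refine sum_congr rfl fun x _ => ?_
    rw [sum_filter]
    refine sum_congr rfl fun y _ => ?_
    rw [UnitsInt.univ, sum_pair (by decide)]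
  · cases b <;> simp [Q]

end Em

/-- the embedding conjugated by the last sign change (type `D`) -/
noncomputable def Em.flip {I W : Type} {M : CoxeterMatrix I} [Group W] {cs : CoxeterSystem M W} {ψ : MulAut W}
    (E : Em cs ψ n false) : Em cs ψ n false where
  emb := (MulAut.conj (tt E.lst)).toMonoidHom.comp E.emb
  inj := (MulAut.conj (tt E.lst)).injective.comp E.inj
  surj g hg := by
    obtain ⟨w, hw⟩ := E.surj ((tt E.lst)⁻¹ * g * tt E.lst) fun hb => by
      rw [map_mul, map_mul, hg hb, mul_one, map_inv, inv_mul_cancel]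
    exact ⟨w, by rw [MonoidHom.comp_apply, hw]; simp [mul_assoc]⟩
  even hb w := by
    show sgn (tt E.lst * E.emb w * (tt E.lst)⁻¹) = 1
    rw [map_mul, map_mul, E.even hb, mul_one, map_inv, mul_inv_cancel]
  nd := (swap E.pen E.lst).trans E.nd
  simple i j h := (E.conj_simple rfl _).trans (by rw [swap_apply_self, E.simple i j h])
  lastB h := absurd h (by decide)
  lastD h i j h1 h2 := (E.conj_simple rfl _).trans (by rw [swap_apply_self, E.lastD h i j h1 h2])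
  two := E.two
  ten := E.ten
  τ := E.τ
  hτ := E.hτ
  tw v := by
    show tt E.lst * E.emb (ψ v) * (tt E.lst)⁻¹ = E.τ * (tt E.lst * E.emb v * (tt E.lst)⁻¹) * E.τ⁻¹
    rw [E.tw, ← mul_assoc, ← mul_assoc, E.tt_τ.eq, mul_assoc _ E.τ⁻¹, ← E.tt_τ.inv_inv.eq]
    simp only [mul_assoc]

namespace Em

variable {I W : Type} {M : CoxeterMatrix I} [Group W] {cs : CoxeterSystem M W} {ψ : MulAut W} (E : Em cs ψ n false)

theorem flip_emb (v : W) : E.flip.emb v = tt E.lst * E.emb v * (tt E.lst)⁻¹ := rfl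

theorem flip_τ : E.flip.τ = E.τ := rfl

theorem flip_nd (x : Fin n) : E.flip.nd x = E.nd (swap E.pen E.lst x) := rfl

theorem flip_g (v : W) : E.flip.g v = tt E.lst * E.g v * (tt E.lst)⁻¹ := by
  rw [g, g, flip_emb, flip_τ, mul_assoc, E.tt_τ.inv_left.eq, mul_assoc, mul_assoc, mul_assoc]

theorem flip_J (k : ℕ) : E.flip.J k = E.J k := by
  ext i
  obtain ⟨x, rfl⟩ := E.flip.nd.surjective i
  rw [nd_mem_J, flip_nd, nd_mem_J]
  refine and_congr_left fun h => ?_
  have h1 := E.lst_val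
  have h2 := E.pen_val
  have h3 := h.resolve_left (by decide)
  rw [swap_apply_def, mem_Tk, mem_Tk]
  split_ifs <;> omega

end Em

end Cfsg.Agent.LV.Cl
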