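import Cfsg.Agent.LV.T.Use
import Cfsg.Agent.H614.Chars

/-!
# LV, classical groups: signed permutations, their characters, the level lattice (helper50)

Plan: `notes/LV/cl.md`.

* `SG n` signed permutations, `tt`, `sw`, `sgn`, `On T`, `Stab T g`;
* beta lists `pars k`, pairs `bips k`, rim hooks `hk`, `hk2`, the level `lev`, the characters `phi T i`, their values `val L i` at an
  element of signed cycle type `L` (`HasTy`);
* `Dual`, `Dual2`: the integrality conditions for a coefficient vector;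
* `Em`: a Coxeter system with a twist, embedded in `SG n`;
* the boxes.
-/

set_option autoImplicit false
set_option linter.unusedSectionVars false
set_option linter.dupNamespace false

namespace Cfsg.Agent.LV.Cl

open Equiv Finset Cfsg.Agent.H614 Cfsg.Agent.Tits.Exchange Cfsg.Agent.Tits.Core

/-! ### signed permutations -/

/-- signed permutations; `g` maps the basis vector `e j` to `s j • e (π j)` -/
@[ext] structure SG (n : ℕ) where
  π : Perm (Fin n)
  s : Fin n → ℤˣ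
  deriving DecidableEq, Fintype

variable {n : ℕ}

instance : Mul (SG n) := ⟨fun a b => ⟨a.π * b.π, fun j => a.s (b.π j) * b.s j⟩⟩
instance : One (SG n) := ⟨⟨1, 1⟩⟩
instance : Inv (SG n) := ⟨fun a => ⟨a.π⁻¹, fun j => a.s (a.π⁻¹ j)⟩⟩

instance : Group (SG n) := Group.ofLeftAxioms
  (fun a b c => SG.ext (mul_assoc a.π b.π c.π) (funext fun j => (mul_assoc (a.s (b.π (c.π j))) (b.s (c.π j)) (c.s j))))
  (fun a => SG.ext (one_mul a.π) (funext fun j => one_mul (a.s j)))
  fun a => SG.ext (inv_mul_cancel a.π) (funext fun j => by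
    show a.s (a.π⁻¹ (a.π j)) * a.s j = 1
    rw [show a.π⁻¹ (a.π j) = j from a.π.symm_apply_apply j, Int.units_mul_self])

@[simp] theorem mul_π (a b : SG n) : (a * b).π = a.π * b.π := rfl
@[simp] theorem mul_s (a b : SG n) (j : Fin n) : (a * b).s j = a.s (b.π j) * b.s j := rfl
@[simp] theorem one_π : (1 : SG n).π = 1 := rfl
@[simp] theorem one_s (j : Fin n) : (1 : SG n).s j = 1 := rfl
@[simp] theorem inv_π (a : SG n) : (a⁻¹).π = a.π⁻¹ := rfl
@[simp] theorem inv_s (a : SG n) (j : Fin n) : (a⁻¹).s j = a.s (a.π⁻¹ j) := rfl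

/-- the product of the signs -/
def sgn : SG n →* ℤˣ := MonoidHom.mk' (fun g => ∏ j, g.s j) fun a b => by
  simp only [mul_s, prod_mul_distrib]
  rw [Equiv.prod_comp b.π a.s]

/-- the sign change at `j` -/
def tt (j : Fin n) : SG n := ⟨1, fun x => if x = j then -1 else 1⟩

/-- the signed transposition -/
def sw (i j : Fin n) (e : ℤˣ) : SG n := ⟨swap i j, fun x => if x = i ∨ x = j then e else 1⟩

/-- the elements supported on `T` -/
def On (T : Finset (Fin n)) : Subgroup (SG n) where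
  carrier := {g | ∀ j, j ∉ T → g.π j = j ∧ g.s j = 1}
  one_mem' _ _ := ⟨rfl, rfl⟩
  mul_mem' {a b} ha hb j hj := by
    rw [mul_π, mul_s, Perm.mul_apply, (hb j hj).1, (ha j hj).1, (ha j hj).2, (hb j hj).2, mul_one]
    exact ⟨rfl, rfl⟩
  inv_mem' {a} ha j hj := by
    have h : a.π⁻¹ j = j := by rw [Perm.inv_eq_iff_eq, (ha j hj).1]
    rw [inv_π, inv_s, h]
    exact ⟨rfl, (ha j hj).2⟩

theorem mem_On {T : Finset (Fin n)} {g : SG n} : g ∈ On T ↔ ∀ j, j ∉ T → g.π j = j ∧ g.s j = 1 := Iff.rfl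

/-- `π` maps `A` to itself -/
def Stab (A : Finset (Fin n)) (π : Perm (Fin n)) : Prop := ∀ x, π x ∈ A ↔ x ∈ A

instance (A : Finset (Fin n)) (π : Perm (Fin n)) : Decidable (Stab A π) := inferInstanceAs (Decidable (∀ _, _))

/-- the cycle through `x` -/
def cyc (π : Perm (Fin n)) (x : Fin n) : Finset (Fin n) := {y | π.SameCycle x y}

/-- `L` lists the lengths and the signs of the cycles of `g` in `T` -/
def HasTy (g : SG n) : Finset (Fin n) → List (ℕ × ℤˣ) → Prop
  | T, [] => T = ∅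
  | T, c :: L => ∃ x ∈ T, cyc g.π x ⊆ T ∧ #(cyc g.π x) = c.1 ∧ ∏ j ∈ cyc g.π x, g.s j = c.2 ∧ HasTy g (T \ cyc g.π x) L

/-! ### beta lists -/

/-- the tuple of a list -/
def tp (l : List ℕ) : Fin 10 → ℕ := fun i => l.getD i 0

/-- the empty partition -/
def vc : List ℕ := [0, 1, 2, 3, 4, 5, 6, 7, 8, 9]

/-- add a box -/
def ad (l : List ℕ) : List (List ℕ) := (l.filter fun x => !(l.elem (x + 1))).map fun x => l.map fun y => if y = x then x + 1 else y

/-- the partitions of `k` with at most ten parts, as increasing lists of beta numbers -/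
def pars : ℕ → List (List ℕ)
  | 0 => [vc]
  | k + 1 => ((pars k).flatMap ad).eraseDups

/-- insertion into an increasing list -/
def ins (x : ℕ) : List ℕ → List ℕ
  | [] => [x]
  | y :: l => if x ≤ y then x :: y :: l else y :: ins x l

/-- remove a rim hook of length `r` -/
def hk (r : ℕ) (l : List ℕ) : List (ℤ × List ℕ) :=
  (l.filter fun x => decide (r ≤ x) && !(l.elem (x - r))).map fun x =>
    (if (l.countP fun y => decide (x - r < y) && decide (y < x)) % 2 = 0 then 1 else -1, ins (x - r) (l.erase x))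

/-- pairs of partitions -/
abbrev Bip : Type := List ℕ × List ℕ

/-- the pairs of partitions of total size `k` -/
def bips (k : ℕ) : List Bip := (List.range (k + 1)).flatMap fun a => (pars a).flatMap fun β => (pars (k - a)).map fun γ => (β, γ)

/-- remove a rim hook of length `r` for a cycle of sign `e` -/
def hk2 (r : ℕ) (e : ℤˣ) (i : Bip) : List (ℤ × Bip) :=
  ((hk r i.1).map fun x => (x.1, (x.2, i.2))) ++ ((hk r i.2).map fun x => ((e : ℤ) * x.1, (i.1, x.2)))

/-- the value of the character `i` at an element of signed cycle type `L` -/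
def val : List (ℕ × ℤˣ) → Bip → ℤ
  | [], i => if i = (vc, vc) then 1 else 0
  | c :: L, i => ((hk2 c.1 c.2 i).map fun x => x.1 * val L x.2).sum

/-- the level; `b = true` for the types `B`, `C` and `b = false` for the type `D` -/
def lev (b : Bool) (i : Bip) : ℤ :=
  (i.1.map fun x => (x : ℤ) * (x - 1)).sum + (i.2.map fun x => (x : ℤ) * (x - 1)).sum + if b then (i.1.sum : ℤ) - i.2.sum else 0

/-- the cycle lengths of `π` on `A` -/
noncomputable def tyO (π : Perm (Fin n)) (A : Finset (Fin n)) : Multiset ℕ :=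
  if h : Stab A π then ty (π.subtypePerm (p := fun x => x ∈ A) h) else 0

/-- the character `i` of the group of signed permutations of `T` -/
noncomputable def phi (T : Finset (Fin n)) (i : Bip) (g : SG n) : ℤ :=
  ∑ A ∈ T.powerset with Stab A g.π, FM (tyO g.π A) (tp i.1) * FM (tyO g.π (T \ A)) (tp i.2) * ∏ j ∈ T \ A, (g.s j : ℤ)

/-- the class function with the coefficients `a` -/
noncomputable def cf (T : Finset (Fin n)) (a : Bip → ℂ) (g : SG n) : ℂ := ((bips #T).map fun i => a i * phi T i g).sum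

/-- the pairing of a coefficient vector with an integer vector -/
noncomputable def pr (k : ℕ) (a : Bip → ℂ) (v : Bip → ℤ) : ℂ := ((bips k).map fun i => a i * v i).sum

/-- the norm -/
noncomputable def nr (k : ℕ) (a : Bip → ℂ) : ℝ := ((bips k).map fun i => ‖a i‖ ^ 2).sum

/-- the coefficients after the removal of a cycle of length `r` and sign `e` -/
noncomputable def rs (k r : ℕ) (e : ℤˣ) (a : Bip → ℂ) (i' : Bip) : ℂ :=
  pr k a fun i => ((hk2 r e i).map fun x => if x.2 = i' then x.1 else 0).sum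

/-- the part of level `c` -/
noncomputable def cut (b : Bool) (c : ℤ) (a : Bip → ℂ) (i : Bip) : ℂ := if lev b i = c then a i else 0

/-- integrality along all chains; `ε` is the product of the signs in the coset (type `D`) -/
def Dual (b : Bool) : ℕ → ℤˣ → (Bip → ℂ) → Prop
  | 0, ε, a => (b = true ∨ ε = 1) → ∃ z : ℤ, a (vc, vc) = z
  | k + 1, ε, a => ∀ (c : ℤ) (η : ℤˣ), Dual b k (ε * η) (rs (k + 1) 1 η (cut b c a))

/-- integrality along the chains which average over a transposition (type `D`, rank `2 * k`, untwisted) -/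
def Dual2 : ℕ → (Bip → ℂ) → Prop
  | 0, a => ∃ z : ℤ, a (vc, vc) = z
  | k + 1, a => ∀ c : ℤ, Dual2 k fun i =>
      (rs (2 * k + 1) 1 1 (rs (2 * k + 2) 1 1 (cut false c a)) i + rs (2 * k + 2) 2 1 (cut false c a) i) / 2

/-- the index of the Weyl group in the group of all signed permutations -/
def ix (b : Bool) (k : ℕ) : ℝ := if b = false ∧ 1 ≤ k then 2 else 1

/-- A short vector of the dual lattice. -/
structure Sh (b : Bool) (k : ℕ) (ε : ℤˣ) (a : Bip → ℂ) : Prop where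
  dual : Dual b k ε a
  sym : b = false → 1 ≤ k → ∀ i ∈ bips k, a (i.2, i.1) = ((ε : ℤ) : ℂ) * a i
  norm : ix b k * nr k a ≤ 1
  two : b = false → ε = 1 → ∀ j, k = 2 * j → ix b k * nr k a = 1 → Dual2 j a

/-! ### (C1) the characters -/

/-- Murnaghan-Nakayama -/
def BoxMN : Prop :=
  ∀ {n : ℕ} (T : Finset (Fin n)) (g : SG n), #T ≤ 10 → Stab T g.π →
    (∀ x ∈ T, ∀ a, cf T a g = cf (T \ cyc g.π x) (rs #T #(cyc g.π x) (∏ j ∈ cyc g.π x, g.s j) a) g) ∧
    (∀ L, HasTy g T L → ∀ i ∈ bips #T, phi T i g = val L i) ∧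
    (∀ g' : SG n, (∀ j ∈ T, g'.π j = g.π j ∧ g'.s j = g.s j) → ∀ i, phi T i g' = phi T i g) ∧
    (∀ h : SG n, Stab T h.π → ∀ i, phi T i (h * g * h⁻¹) = phi T i g) ∧
    (∀ i : Bip, phi T (i.2, i.1) g = ((∏ j ∈ T, g.s j : ℤˣ) : ℤ) * phi T i g) ∧ ∃ L, HasTy g T L

/-- the sum of all reflections acts by the level -/
def BoxCas : Prop :=
  ∀ {n : ℕ} (b : Bool) (T : Finset (Fin n)) (g : SG n), #T ≤ 10 → Stab T g.π → ∀ i ∈ bips #T,
    ∑ x ∈ T, ∑ y ∈ T with x < y, (phi T i (sw x y 1 * g) + phi T i (sw x y (-1) * g)) +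
      (if b then ∑ x ∈ T, phi T i (tt x * g) else 0) = (lev b i - 480 - 18 * #T) * phi T i g

/-- the characters are an orthonormal basis of the class functions -/
def BoxBasis : Prop :=
  ∀ {n : ℕ} (T : Finset (Fin n)), #T ≤ 10 → ∀ Y : SG n → ℂ, (∀ g ∈ On T, ∀ h ∈ On T, Y (h * g * h⁻¹) = Y g) →
    ∃ a : Bip → ℂ, (∀ g ∈ On T, Y g = cf T a g) ∧ (Nat.card (On T) : ℝ) * nr #T a = ∑ᶠ g : On T, ‖Y g‖ ^ 2 ∧
      ∀ ε : ℤˣ, (∀ g ∈ On T, sgn g ≠ ε → Y g = 0) → ∀ i ∈ bips #T, a (i.2, i.1) = ((ε : ℤ) : ℂ) * a i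

/-- the signed cycle type as a multiset over the points -/
noncomputable def wt (g : SG n) (T : Finset (Fin n)) : Multiset (ℕ × ℤˣ) :=
  T.val.map fun x => (#(cyc g.π x), ∏ j ∈ cyc g.π x, g.s j)

/-- conjugacy -/
def BoxConj : Prop :=
  ∀ {n : ℕ} (T : Finset (Fin n)) (g : SG n), Stab T g.π →
    (∀ L, HasTy g T L → wt g T = (L.map fun c => Multiset.replicate c.1 c).sum ∧ ∏ j ∈ T, g.s j = (L.map fun c => c.2).prod ∧
      #T = (L.map fun c => c.1).sum) ∧
    (∀ g' : SG n, Stab T g'.π → wt g T = wt g' T →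
      ∃ h ∈ On T, ∀ j ∈ T, (h * g * h⁻¹).π j = g'.π j ∧ (h * g * h⁻¹).s j = g'.s j) ∧
    (∀ h : SG n, Stab T h.π → wt (h * g * h⁻¹) T = wt g T ∧ ∀ L, HasTy g T L → HasTy (h * g * h⁻¹) T L) ∧
    ∀ L : List (ℕ × ℤˣ), (∀ c ∈ L, 0 < c.1) → #T = (L.map fun c => c.1).sum → ∃ u ∈ On T, HasTy (u * g) T L

/-! ### (T) general tools for the level predicate -/

open Classical in
/-- the average over a union `K` of components of `J` -/
def BoxAvg : Prop :=
  ∀ {I W : Type} {M : CoxeterMatrix I} [Group W] (cs : CoxeterSystem M W) [Fintype W] (ψ : MulAut W), T.Aut cs ψ →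
    ∀ {J K : Set I} {w : W} {y : W → ℂ}, T.Lv cs ψ J w y → K ⊆ J →
    (∀ i ∈ K, ∀ j ∈ J, j ∉ K → Commute (cs.simple i) (cs.simple j)) → (∀ v ∈ WJ cs K, w * ψ v * w⁻¹ ∈ WJ cs K) →
    T.Lv cs ψ J w fun u => (Nat.card (WJ cs K) : ℂ)⁻¹ * ∑ v with v ∈ WJ cs K, y (v * u)

/-! ### the embedding -/

/-- the last `k` coordinates -/
def Tk (n k : ℕ) : Finset (Fin n) := {i | n ≤ i + k}

/-- A Coxeter system of type `B` (`b = true`) or `D` (`b = false`) with a twist `ψ`, as signed permutations. -/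
structure Em {I W : Type} {M : CoxeterMatrix I} [Group W] (cs : CoxeterSystem M W) (ψ : MulAut W) (n : ℕ) (b : Bool) where
  emb : W →* SG n
  inj : Function.Injective emb
  surj : ∀ g, (b = false → sgn g = 1) → ∃ w, emb w = g
  even : b = false → ∀ w, sgn (emb w) = 1
  nd : Fin n ≃ I
  simple : ∀ i j : Fin n, (j : ℕ) = i + 1 → emb (cs.simple (nd i)) = sw i j 1
  lastB : b = true → ∀ j : Fin n, (j : ℕ) + 1 = n → emb (cs.simple (nd j)) = tt j
  lastD : b = false → ∀ i j : Fin n, (j : ℕ) = i + 1 → (j : ℕ) + 1 = n → emb (cs.simple (nd j)) = sw i j (-1)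
  two : 2 ≤ n
  ten : n ≤ 10
  τ : SG n
  hτ : τ = 1 ∨ (b = false ∧ ∃ j : Fin n, (j : ℕ) + 1 = n ∧ τ = tt j)
  tw : ∀ v, emb (ψ v) = τ * emb v * τ⁻¹

namespace Em

variable {I W : Type} {M : CoxeterMatrix I} [Group W] {cs : CoxeterSystem M W} {ψ : MulAut W} {b : Bool} (E : Em cs ψ n b)

/-- the signed permutation of `w ψ` -/
def g (w : W) : SG n := E.emb w * E.τ

/-- the nodes of the classical group on the last `k` coordinates -/
def J (k : ℕ) : Set I := {i | E.nd.symm i ∈ Tk n k ∧ (b = true ∨ 2 ≤ k)}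

/-- the product of the signs on the last `k` coordinates -/
def ε (k : ℕ) (w : W) : ℤˣ := ∏ j ∈ Tk n k, (E.g w).s j

/-- the element commutes with an odd element on the last `k` coordinates (automatic for `b = true` or `k = 0`) -/
def Fine (k : ℕ) (w : W) : Prop := b = false → 1 ≤ k → ∃ o ∈ On (Tk n k), sgn o = -1 ∧ Commute o (E.g w)

/-- invariance under twisted conjugation by `W_J` -/
def Inv (_ : Em cs ψ n b) (J : Set I) (w : W) (y : W → ℂ) : Prop :=
  ∀ v ∈ WJ cs J, ∀ x ∈ WJ cs J, y (v * (x * w) * (ψ v)⁻¹) = y (x * w)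

/-- the norm of `y` on the coset -/
noncomputable def N (_ : Em cs ψ n b) (J : Set I) (w : W) (y : W → ℂ) : ℝ :=
  (Nat.card (WJ cs J) : ℝ)⁻¹ * ∑ᶠ x : WJ cs J, ‖y (x * w)‖ ^ 2

/-- the nodes inside the classes of `f` outside the last `k` coordinates -/
def K (k : ℕ) (f : Fin n → ℕ) : Set I :=
  {i | ∃ x y : Fin n, E.nd x = i ∧ (y : ℕ) = x + 1 ∧ x ∉ Tk n k ∧ y ∉ Tk n k ∧ f x = f y}

/-- Normal form of `w` outside the last `k` coordinates: the classes of `f` are intervals with fewer than `l` points, `w` fixes a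
class pointwise or interchanges two classes by monotone maps, with constant signs. -/
structure NF (l k : ℕ) (f : Fin n → ℕ) (w : W) : Prop where
  stab : Stab (Tk n k) (E.g w).π
  conv : ∀ x y z : Fin n, x ≤ y → y ≤ z → z ∉ Tk n k → f x = f z → f y = f x
  small : ∀ x, x ∉ Tk n k → #{y | y ∉ Tk n k ∧ f y = f x} < l
  invol : ∀ x, x ∉ Tk n k → (E.g w).π ((E.g w).π x) = x
  cls : ∀ x y, x ∉ Tk n k → y ∉ Tk n k → f x = f y →
    f ((E.g w).π x) = f ((E.g w).π y) ∧ (E.g w).s x = (E.g w).s y ∧ (x < y → (E.g w).π x < (E.g w).π y)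

end Em

/-! ### (C3) the chain -/

/-- From the level predicate to a coefficient vector. -/
def BoxChain : Prop :=
  ∀ {I W : Type} {M : CoxeterMatrix I} [Group W] {cs : CoxeterSystem M W} [Fintype W] {ψ : MulAut W} {n : ℕ} {b : Bool}
    (E : Em cs ψ n b) (k : ℕ), k ≤ n → ∀ (w : W) (y : W → ℂ), Stab (Tk n k) (E.g w).π → T.Lv cs ψ (E.J k) w y →
    E.Inv (E.J k) w y → ∃ a : Bip → ℂ, Dual b k (E.ε k w) a ∧
      (b = false → 1 ≤ k → ∀ i ∈ bips k, a (i.2, i.1) = ((E.ε k w : ℤ) : ℂ) * a i) ∧ ix b k * nr k a ≤ E.N (E.J k) w y ∧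
      (∀ x ∈ WJ cs (E.J k), E.Fine k (x * w) → y (x * w) = cf (Tk n k) a (E.g (x * w))) ∧
      (b = false → E.ε k w = 1 → ∀ j, k = 2 * j → ix b k * nr k a = E.N (E.J k) w y → Dual2 j a)

/-! ### (C2) the certificates -/

/-- a nonzero short vector has norm above one half -/
def BoxHalf : Prop :=
  ∀ (b : Bool) (k : ℕ) (ε : ℤˣ) (a : Bip → ℂ), k ≤ (if b then 9 else 10) → (b = false → k = 0 → ε = 1) → Sh b k ε a →
    (∀ i ∈ bips k, a i = 0) ∨ 1 / 2 < ix b k * nr k a ∨
      (b = false ∧ ε = 1 ∧ ix b k * nr k a = 1 / 2 ∧ ∃ j, k = 2 * j ∧ ¬ Dual2 j a)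

/-- the types of the Sylow tori; `d` is the order of `q` modulo `5` -/
def syl (d : ℕ) (b : Bool) (k : ℕ) (ε : ℤˣ) : List (List (ℕ × ℤˣ)) :=
  if d = 1 then (if b = true ∨ ε = 1 then [List.replicate k (1, 1)] else [List.replicate (k - 1) (1, 1) ++ [(1, -1)]])
  else if d = 2 then
    (if b = true ∨ ε = (-1) ^ k then [List.replicate k (1, -1)] else [List.replicate (k - 1) (1, -1) ++ [(1, 1)]])
  else if k % 2 = 1 then
    (if b = true then [List.replicate (k / 2) (2, -1) ++ [(1, 1)], List.replicate (k / 2) (2, -1) ++ [(1, -1)]]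
      else [List.replicate (k / 2) (2, -1) ++ [(1, ε * (-1) ^ (k / 2))]])
  else if b = true ∨ ε = (-1) ^ (k / 2) then [List.replicate (k / 2) (2, -1)]
  else [List.replicate (k / 2 - 1) (2, -1) ++ [(1, 1), (1, 1)], List.replicate (k / 2 - 1) (2, -1) ++ [(1, -1), (1, -1)]]

/-- the ranks with abelian Sylow `5`-subgroups -/
def Rg (d : ℕ) (b : Bool) (k : ℕ) (ε : ℤˣ) : Prop :=
  (d = 1 ∧ (k ≤ 4 ∨ (b = false ∧ k = 5 ∧ ε = -1))) ∨ (d = 2 ∧ (k ≤ 4 ∨ (b = false ∧ k = 5 ∧ ε = 1))) ∨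
    (d = 4 ∧ (k ≤ 9 ∨ (b = false ∧ k = 10 ∧ ε = 1)))

/-- the extra Sylow torus of `D₁₀` -/
def Lx : List (ℕ × ℤˣ) := [(2, -1), (2, -1), (2, -1), (2, -1), (2, 1)]

/-- the bad partitions -/
def bad (k : ℕ) : List (List ℕ) :=
  if k = 5 then [[0, 1, 2, 3, 4, 5, 6, 8, 10, 11], [0, 1, 2, 3, 4, 5, 6, 7, 10, 12]]
  else [[0, 1, 2, 3, 5, 6, 7, 9, 10, 12], [0, 1, 2, 3, 4, 6, 7, 8, 11, 13], [0, 1, 2, 3, 4, 5, 7, 9, 10, 14],
    [0, 1, 2, 3, 4, 5, 6, 8, 11, 15]]

/-- the value at the type `L` is not a nonzero multiple of `5` -/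
def Gd (k : ℕ) (a : Bip → ℂ) (L : List (ℕ × ℤˣ)) : Prop := ∀ m : ℤ, pr k a (val L) = m → 5 ∣ m → m = 0

/-- the values of the short vectors at the Sylow tori -/
def BoxGood : Prop :=
  ∀ (d : ℕ) (b : Bool) (k : ℕ) (ε : ℤˣ) (a : Bip → ℂ), Rg d b k ε → (b = false → k = 0 → ε = 1) → Sh b k ε a →
    (∃ L ∈ syl d b k ε, Gd k a L) ∨ (b = false ∧ ix b k * nr k a = 1 ∧ ((k = 5 ∧ d ≠ 4) ∨ k = 10) ∧
      ((k = 10 ∧ Gd k a Lx) ∨ ∃ β ∈ bad k, ∃ σ : ℤˣ, ∀ i ∈ bips k,
        a i = ((σ : ℤ) : ℂ) / 2 * ((if i = (vc, β) then 1 else 0) + if i = (β, vc) then ((ε : ℤ) : ℂ) else 0)))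

/-! ### (C4a) the factors of type `A` -/

/-- On the coset of `W_K × W_(J k)` with norm at most one: the values at the elements `x w`, `x ∈ W_(J k)`. -/
def BoxPeel : Prop :=
  ∀ {I W : Type} {M : CoxeterMatrix I} [Group W] {cs : CoxeterSystem M W} [Fintype W] {ψ : MulAut W} {n : ℕ} {b : Bool}
    (E : Em cs ψ n b) (l k : ℕ), l.Prime → k ≤ n → k ≤ (if b then 9 else 10) → ∀ (f : Fin n → ℕ) (w : W) (y : W → ℂ),
    E.NF l k f w → (b = false → k = 0 → E.ε k w = 1) → T.Lv cs ψ (E.K k f ∪ E.J k) w y → E.Inv (E.K k f ∪ E.J k) w y →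
    E.N (E.K k f ∪ E.J k) w y ≤ 1 →
    ∃ (m : ℤ) (a : Bip → ℂ), ¬ (l : ℤ) ∣ m ∧ Sh b k (E.ε k w) a ∧
      (∀ x ∈ WJ cs (E.J k), E.Fine k (x * w) → y (x * w) = m * cf (Tk n k) a (E.g (x * w)) ∧
        ∃ z : ℤ, cf (Tk n k) a (E.g (x * w)) = z) ∧ (k = n → m = 1) ∧
      ((∀ i ∈ bips k, a i = 0) ∨ 1 / 2 < E.N (E.K k f ∪ E.J k) w y) ∧ ix b k * nr k a ≤ E.N (E.K k f ∪ E.J k) w y

/-! ### the equation lemmas are realised here once -/

example := And.intro @HasTy.eq_def (And.intro @HasTy.eq_1 @HasTy.eq_2)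
example := And.intro @pars.eq_def (And.intro @pars.eq_1 @pars.eq_2)
example := And.intro @ins.eq_def (And.intro @ins.eq_1 @ins.eq_2)
example := And.intro @val.eq_def (And.intro @val.eq_1 @val.eq_2)
example := And.intro @Dual.eq_def (And.intro @Dual.eq_1 @Dual.eq_2)
example := And.intro @Dual2.eq_def (And.intro @Dual2.eq_1 @Dual2.eq_2)
example := And.intro @sgn.eq_def @sgn.eq_1
example := And.intro @tt.eq_def @tt.eq_1
example := And.intro @sw.eq_def @sw.eq_1
example := And.intro @On.eq_def @On.eq_1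
example := And.intro @Stab.eq_def @Stab.eq_1
example := And.intro @cyc.eq_def @cyc.eq_1
example := And.intro @tp.eq_def @tp.eq_1
example := And.intro @vc.eq_def @vc.eq_1
example := And.intro @ad.eq_def @ad.eq_1
example := And.intro @hk.eq_def @hk.eq_1
example := And.intro @bips.eq_def @bips.eq_1
example := And.intro @hk2.eq_def @hk2.eq_1
example := And.intro @lev.eq_def @lev.eq_1
example := And.intro @tyO.eq_def @tyO.eq_1
example := And.intro @phi.eq_def @phi.eq_1
example := And.intro @cf.eq_def @cf.eq_1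
example := And.intro @pr.eq_def @pr.eq_1
example := And.intro @nr.eq_def @nr.eq_1
example := And.intro @rs.eq_def @rs.eq_1
example := And.intro @cut.eq_def @cut.eq_1
example := And.intro @ix.eq_def @ix.eq_1
example := And.intro @wt.eq_def @wt.eq_1
example := And.intro @Tk.eq_def @Tk.eq_1
example := And.intro @Em.g.eq_def @Em.g.eq_1
example := And.intro @Em.J.eq_def @Em.J.eq_1
example := And.intro @Em.ε.eq_def @Em.ε.eq_1
example := And.intro @Em.Fine.eq_def @Em.Fine.eq_1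
example := And.intro @Em.Inv.eq_def @Em.Inv.eq_1
example := And.intro @Em.N.eq_def @Em.N.eq_1
example := And.intro @Em.K.eq_def @Em.K.eq_1
example := And.intro @syl.eq_def @syl.eq_1
example := And.intro @Rg.eq_def @Rg.eq_1
example := And.intro @Lx.eq_def @Lx.eq_1
example := And.intro @bad.eq_def @bad.eq_1
example := And.intro @Gd.eq_def @Gd.eq_1

end Cfsg.Agent.LV.Cl
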