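import Cfsg.Agent.LV.Cl.Fm

/-!
# LV, classical groups: the coordinates of a label (helper21)

`Φ.co c` (a multiplicative equivalence `Φ.coE`), `Rl`, `Fq`, `rel_iff`, `fx_iff`, `tc_iff`, `P_gw`.
-/

set_option autoImplicit false
set_option linter.unusedSectionVars false
set_option linter.dupNamespace false

namespace Cfsg.Agent.LV.Cl

open Cfsg Cfsg.Agent.DL Cfsg.Agent.DL.PP Cfsg.Agent.KZ.Lie Cfsg.Agent.KZ.Dat Cfsg.Agent.Tits.Core Cfsg.Agent.LV.Blk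
  Cfsg.Agent.LV.Lab Matrix

/-- the signed permutation `g` maps the coordinates `x` to `x'` -/
def Rl {n : ℕ} (g : SG n) (x x' : Fin n → ℂˣ) : Prop := ∀ j, x' (g.π j) ^ (g.s j : ℤ) = x j

/-- the coordinates `x` are fixed by `q g` -/
def Fq {n : ℕ} (q : ℕ) (g : SG n) (x : Fin n → ℂˣ) : Prop := ∀ j, x (g.π j) ^ ((q : ℤ) * g.s j) = x j

/-- the matrix of a signed permutation -/
def sm {n : ℕ} : SG n →* Matrix (Fin n) (Fin n) ℤ where
  toFun g := spm g.π g.s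
  map_one' := spm_one
  map_mul' a b := (spm_mul a.π b.π a.s b.s).symm

theorem sm_apply {n : ℕ} (g : SG n) : sm g = spm g.π g.s := rfl

theorem co_single {n : ℕ} (i : Fin n) (a : ℤ) (y : Fin n → ℂˣ) : chr (Pi.single i a) y = y i ^ a := by
  rw [← chr_single i y, ← chr_zsmul, ← Pi.single_smul', smul_eq_mul, mul_one]

theorem Em.g_tc {I W : Type} {M : CoxeterMatrix I} [Group W] {cs : CoxeterSystem M W} {ψ : MulAut W} {n : ℕ} {b : Bool}
    (E : Em cs ψ n b) {v w w' : W} : w' * ψ v = v * w ↔ E.g w' = E.emb v * E.g w * (E.emb v)⁻¹ := by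
  rw [← E.inj.eq_iff, map_mul, map_mul, E.tw, Em.g, Em.g, eq_mul_inv_iff_mul_eq, ← mul_assoc, ← mul_assoc,
    mul_inv_eq_iff_eq_mul, mul_assoc (E.emb v)]

variable {p : ℕ} [Fact p.Prime] {k : Type} [Field k] [CharP k p] {Y : Type} [Group Y] {N : Type} [Fintype N]
  [DecidableEq N] {ρ : Y →* GL N k} {F : MulAut Y} {G : Subgroup Y} [IsAlgClosed k] {D : Datum p ρ F G}
  {n : ℕ} {b : Bool} {q : ℕ}

namespace Fm

variable (Φ : Fm D n b q)

theorem P_P' (l : Fin n → ℤ) : Φ.P *ᵥ (Φ.P' *ᵥ l) = l := by rw [mulVec_mulVec, Φ.PP', one_mulVec]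

theorem P'_P (v : D.R → ℤ) : Φ.P' *ᵥ (Φ.P *ᵥ v) = v := by rw [mulVec_mulVec, Φ.P'P, one_mulVec]

/-- the coordinates of a label -/
noncomputable def co (c : Lbl D) (i : Fin n) : ℂˣ := chr (Φ.P' *ᵥ Pi.single i 1) c

theorem co_def (c : Lbl D) (i : Fin n) : Φ.co c i = chr (Φ.P' *ᵥ Pi.single i 1) c := rfl

theorem chr_co (v : D.R → ℤ) (c : Lbl D) : chr v c = chr (Φ.P *ᵥ v) (Φ.co c) := by
  conv_lhs => rw [← Φ.P'_P v, ← Finset.univ_sum_single (Φ.P *ᵥ v), mulVec_sum, chr_sum]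
  refine Finset.prod_congr rfl fun i _ => ?_
  rw [co_def, ← chr_zsmul, ← mulVec_smul, ← Pi.single_smul', smul_eq_mul, mul_one]

theorem co_inj {c c' : Lbl D} (h : Φ.co c = Φ.co c') : c = c' :=
  eq_of_chr D fun v => by rw [Φ.chr_co, h, ← Φ.chr_co]

theorem co_surj (x : Fin n → ℂˣ) : ∃ c, Φ.co c = x := by
  refine ⟨fun j => chr (Φ.P *ᵥ Pi.single j 1) x, funext fun i => ?_⟩
  have h : ∀ v, chr v (fun j => chr (Φ.P *ᵥ Pi.single j 1) x) = chr (Φ.P *ᵥ v) x := fun v => by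
    conv_rhs => rw [← Finset.univ_sum_single v, mulVec_sum, chr_sum]
    refine Finset.prod_congr rfl fun j _ => ?_
    rw [← chr_zsmul, ← mulVec_smul, ← Pi.single_smul', smul_eq_mul, mul_one]
  rw [co_def, h, Φ.P_P', chr_single]

theorem co_mul (c c' : Lbl D) : Φ.co (c * c') = Φ.co c * Φ.co c' := funext fun _ => map_mul (chr _) c c'

theorem co_one : Φ.co 1 = 1 := funext fun _ => map_one (chr _)

theorem co_pow (c : Lbl D) (m : ℕ) : Φ.co (c ^ m) = Φ.co c ^ m := funext fun _ => map_pow (chr _) c m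

theorem co_eq_one {c : Lbl D} : Φ.co c = 1 ↔ c = 1 :=
  ⟨fun h => Φ.co_inj (h.trans Φ.co_one.symm), fun h => h ▸ Φ.co_one⟩

/-- the coordinates as an isomorphism -/
noncomputable def coE : Lbl D ≃* (Fin n → ℂˣ) :=
  MulEquiv.ofBijective (MonoidHom.mk' Φ.co Φ.co_mul) ⟨fun _ _ => Φ.co_inj, Φ.co_surj⟩

theorem coE_apply (c : Lbl D) : Φ.coE c = Φ.co c := rfl

theorem isL_co {l : ℕ} {c : Lbl D} : IsL l (Φ.co c) ↔ IsL l c :=
  exists_congr fun _ => by rw [← Φ.co_pow, Φ.co_eq_one]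

/-- the matrix of `w F` -/
theorem P_gw (w : D.W) : Φ.P * (D.Wm w * D.Mx) = (q : ℤ) • spm (Φ.E.g w).π (Φ.E.g w).s * Φ.P := by
  rw [← Matrix.mul_assoc, Φ.hW, Matrix.mul_assoc, Φ.hM, ← Matrix.mul_assoc, Matrix.mul_smul, spm_mul]
  rfl

theorem tr_iff {B : Matrix D.R D.R ℤ} {a : ℤ} {g : SG n} (h : Φ.P * B = a • spm g.π g.s * Φ.P) {c c' : Lbl D} :
    (∀ v, chr (B *ᵥ v) c' = chr v c) ↔ ∀ j, Φ.co c' (g.π j) ^ (a * g.s j) = Φ.co c j := by
  have h1 : ∀ j, chr (B *ᵥ (Φ.P' *ᵥ Pi.single j 1)) c' = Φ.co c' (g.π j) ^ (a * g.s j) := fun j => by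
    rw [Φ.chr_co, mulVec_mulVec, h, ← mulVec_mulVec, Φ.P_P', smul_mulVec, spm_mulVec_single, mul_one, chr_zsmul,
      co_single, ← _root_.zpow_mul, mul_comm]
  refine ⟨fun h2 j => by rw [← h1, h2, co_def], fun h2 v => ?_⟩
  rw [← Φ.P'_P v, ← Finset.univ_sum_single (Φ.P *ᵥ v), mulVec_sum, mulVec_sum, chr_sum, chr_sum]
  refine Finset.prod_congr rfl fun i _ => ?_
  have h3 : (Pi.single i ((Φ.P *ᵥ v) i) : Fin n → ℤ) = (Φ.P *ᵥ v) i • Pi.single i 1 := by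
    rw [← Pi.single_smul', smul_eq_mul, mul_one]
  rw [h3, mulVec_smul, mulVec_smul, chr_zsmul, chr_zsmul, h1, h2, co_def]

theorem rel_iff {v : D.W} {c c' : Lbl D} : Rel D v c c' ↔ Rl (Φ.E.emb v) (Φ.co c) (Φ.co c') :=
  (Φ.tr_iff (a := 1) (by rw [one_smul, Φ.hW])).trans (forall_congr' fun j => by rw [one_mul])

theorem fx_iff {w : D.W} {c : Lbl D} : Fx D w c ↔ Fq q (Φ.E.g w) (Φ.co c) := Φ.tr_iff (Φ.P_gw w)

theorem tc_iff {v w w' : D.W} : Tc D v w w' ↔ Φ.E.g w' = Φ.E.emb v * Φ.E.g w * (Φ.E.emb v)⁻¹ := Φ.E.g_tc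

theorem mem_St {u : D.W} {c : Lbl D} : u ∈ St D c ↔ Rl (Φ.E.emb u) (Φ.co c) (Φ.co c) := Φ.rel_iff

/-- a new frame: the embedding is conjugated by `t` -/
def cj (E' : Em D.cs D.Fw n b) (t : SG n) (h : ∀ w, E'.emb w = t * Φ.E.emb w * t⁻¹) (hτ : E'.τ = t * Φ.E.τ * t⁻¹) :
    Fm D n b q where
  E := E'
  P := sm t * Φ.P
  P' := Φ.P' * sm t⁻¹
  PP' := by rw [Matrix.mul_assoc, ← Matrix.mul_assoc Φ.P, Φ.PP', Matrix.one_mul, ← map_mul, mul_inv_cancel, map_one]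
  P'P := by
    rw [Matrix.mul_assoc, ← Matrix.mul_assoc _ _ Φ.P, ← map_mul, inv_mul_cancel, map_one, Matrix.one_mul, Φ.P'P]
  hW w := by
    rw [Matrix.mul_assoc, Φ.hW, ← sm_apply, ← sm_apply, ← Matrix.mul_assoc, ← Matrix.mul_assoc, ← map_mul, ← map_mul, h,
      inv_mul_cancel_right]
  hM := by
    rw [Matrix.mul_assoc, Φ.hM, ← sm_apply, ← sm_apply, ← Matrix.mul_assoc, ← Matrix.mul_assoc, Matrix.mul_smul,
      Matrix.smul_mul (q : ℤ) (sm _) (sm _), ← map_mul, ← map_mul, hτ, inv_mul_cancel_right]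
  qs := Φ.qs

end Fm

end Cfsg.Agent.LV.Cl
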