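import Cfsg.Agent.LV.Cl.Defs

/-!
# LV, classical groups: the average over a union of components (helper8)
-/

set_option autoImplicit false
set_option linter.unusedSectionVars false
set_option linter.dupNamespace false

namespace Cfsg.Agent.LV.Cl

open CoxeterSystem Cfsg.Agent.Tits.Exchange Cfsg.Agent.Tits.Core Cfsg.Agent.LV.T

namespace Avg

variable {I W : Type} {M : CoxeterMatrix I} [Group W] {cs : CoxeterSystem M W} [Fintype W] {ψ : MulAut W}
  {J K : Set I} {w : W} {y : W → ℂ}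

/-- `W_K` is normal in `W_J` -/
theorem conj_mem (h : ∀ i ∈ K, ∀ j ∈ J, j ∉ K → Commute (cs.simple i) (cs.simple j)) {u x : W} (hu : u ∈ WJ cs J)
    (hx : x ∈ WJ cs K) : u * x * u⁻¹ ∈ WJ cs K := by
  obtain ⟨ω, h1, rfl⟩ := exists_word_of_mem_WJ cs hu
  clear hu
  induction ω with
  | nil => simpa using hx
  | cons j ω ih =>
    have h2 := ih fun i hi => h1 i (by simp [hi])
    rw [wordProd_cons, mul_inv_rev, mul_assoc (cs.simple j), mul_assoc (cs.simple j), ← mul_assoc (_ * x), ← mul_assoc]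
    by_cases hj : j ∈ K
    · exact mul_mem (mul_mem (simple_mem_WJ cs hj) h2) (inv_mem (simple_mem_WJ cs hj))
    · have h3 : WJ cs K ≤ Subgroup.centralizer {cs.simple j} := by
        refine (Subgroup.closure_le _).2 ?_
        rintro _ ⟨i, hi, rfl⟩ _ rfl
        exact (h i hi j (h1 j (by simp)) hj).symm.eq
      rwa [h3 h2 _ rfl, mul_inv_cancel_right]

/-- the shortest element of the coset is a node -/
theorem exists_node' (hψ : Aut cs ψ) (hK : K ⊆ J) (h : ∀ i ∈ K, ∀ j ∈ J, j ∉ K → Commute (cs.simple i) (cs.simple j))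
    (hn : ∀ i ∈ K, w * ψ (cs.simple i) * w⁻¹ ∈ WJ cs K) : ∃ u ∈ WJ cs J, Min cs J (u * w) ∧ Node cs ψ J K (u * w) := by
  obtain ⟨u, hu, v, rfl, hv⟩ := exists_isMinL cs J w
  refine ⟨u⁻¹, inv_mem hu, ?_⟩
  rw [inv_mul_cancel_left]
  obtain ⟨x, hx, h1, h2⟩ := exists_node (w := v) hψ fun i hi => by
    simpa [mul_assoc] using conj_mem h (inv_mem hu) (hn i hi)
  rw [IsMinL.unique cs (Min.mono hv hK) h1 hx rfl] at h2
  refine ⟨hv, hK, fun j hj => ?_, h2.nrm⟩
  by_cases e : j ∈ K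
  · exact .inl e
  · exact .inr fun i hi => (h i hi j hj e).symm.eq

/-- the level projection without the hypothesis `Min` -/
theorem lev' (hψ : Aut cs ψ) (hy : Lv cs ψ J w y) (hK : K ⊆ J)
    (h : ∀ i ∈ K, ∀ j ∈ J, j ∉ K → Commute (cs.simple i) (cs.simple j))
    (hn : ∀ i ∈ K, w * ψ (cs.simple i) * w⁻¹ ∈ WJ cs K) (c : ℂ) : Lv cs ψ J w (T.lev cs K c y) := by
  obtain ⟨u, hu, h1, h2⟩ := exists_node' hψ hK h hn
  have h3 := ((hy.mono le_rfl hu).lev hψ h1 h2 c).mono le_rfl (inv_mem hu)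
  rwa [inv_mul_cancel_left] at h3

open Classical in
/-- (I3) for a decomposition into eigenfunctions, without the hypothesis `Min` -/
theorem level' (hψ : Aut cs ψ) (hy : Lv cs ψ J w y) (hK : K ⊆ J)
    (h : ∀ i ∈ K, ∀ j ∈ J, j ∉ K → Commute (cs.simple i) (cs.simple j))
    (hn : ∀ i ∈ K, w * ψ (cs.simple i) * w⁻¹ ∈ WJ cs K) {ι : Type} (s : Finset ι) (c : ι → ℂ) (f : ι → W → ℂ)
    (hf : ∀ x ∈ WJ cs J, y (x * w) = ∑ i ∈ s, f i (x * w))
    (hc : ∀ i ∈ s, ∀ x ∈ WJ cs J, ∑ t ∈ rf cs K, f i (t * (x * w)) = c i * f i (x * w)) (c₀ : ℂ) :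
    Lv cs ψ J w fun u => ∑ i ∈ s.filter (fun i => c i = c₀), f i u := by
  obtain ⟨u, hu, h1, h2⟩ := exists_node' hψ hK h hn
  have h3 := ((hy.mono le_rfl hu).level hψ h1 h2 s c f (fun x hx => by rw [← mul_assoc, hf _ (mul_mem hx hu)])
    (fun i hi x hx => by rw [← mul_assoc x, hc i hi _ (mul_mem hx hu)]) c₀).mono le_rfl (inv_mem hu)
  rwa [inv_mul_cancel_left] at h3

open Classical in
theorem lev_eps {ε : ℤ} (hε : ε * ε = 1) (y : W → ℂ) (u : W) : T.lev cs K ((ε : ℂ) * (rf cs K).card) y u =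
    (Nat.card (WJ cs K) : ℂ)⁻¹ * ∑ v with v ∈ WJ cs K, (ε : ℂ) ^ cs.length v * y (v * u) := by
  have hε' : (ε : ℂ) * ε = 1 := by exact_mod_cast hε
  have h3 := sum_aeval_cas (cs := cs) (K := K) (w := u) hε' (lp cs K ((ε : ℂ) * (rf cs K).card)) y
  rw [lp_self, one_mul] at h3
  have h4 : ∀ x : WJ cs K, (ε : ℂ) ^ cs.length (x : W) *
      Polynomial.aeval (cas cs K) (lp cs K ((ε : ℂ) * (rf cs K).card)) y (x * u) =
        T.lev cs K ((ε : ℂ) * (rf cs K).card) y u := fun x => by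
    have h5 := eq_of_extreme (ε := (ε : ℝ)) (by exact_mod_cast hε)
      (cas_lev (cs := cs) (K := K) (((ε : ℝ) : ℂ) * (rf cs K).card) y) x.2 u
    rw [Complex.ofReal_intCast] at h5
    rw [← LV.T.lev, h5, ← mul_assoc, ← mul_pow, hε', one_pow, one_mul]
  simp only [h4, Finset.sum_const, Finset.card_univ, nsmul_eq_mul] at h3
  rw [Finset.sum_subtype (p := fun v => v ∈ WJ cs K) _ (fun v => by simp), ← h3, Nat.card_eq_fintype_card,
    inv_mul_cancel_left₀ (Nat.cast_ne_zero.2 Fintype.card_ne_zero)]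

open Classical in
/-- the signed average over a union of components -/
theorem avg_eps (hψ : Aut cs ψ) (hy : Lv cs ψ J w y) (hK : K ⊆ J)
    (h : ∀ i ∈ K, ∀ j ∈ J, j ∉ K → Commute (cs.simple i) (cs.simple j))
    (hn : ∀ i ∈ K, w * ψ (cs.simple i) * w⁻¹ ∈ WJ cs K) {ε : ℤ} (hε : ε * ε = 1) :
    Lv cs ψ J w fun u => (Nat.card (WJ cs K) : ℂ)⁻¹ * ∑ v with v ∈ WJ cs K, (ε : ℂ) ^ cs.length v * y (v * u) :=
  (lev' hψ hy hK h hn ((ε : ℂ) * (rf cs K).card)).congr fun _ _ => lev_eps hε y _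

/-- the average over one simple reflection -/
theorem avg_one (hψ : Aut cs ψ) (hy : Lv cs ψ J w y) {i : I} (hi : i ∈ J)
    (h : ∀ j ∈ J, Commute (cs.simple i) (cs.simple j)) (hn : w * ψ (cs.simple i) = cs.simple i * w) :
    Lv cs ψ J w fun u => (y u + y (cs.simple i * u)) / 2 := by
  classical
  have h1 : rf cs {i} = {cs.simple i} := by
    ext t
    rw [mem_rf, Finset.mem_singleton]
    refine ⟨fun ⟨h2, h3⟩ => ?_, fun e => e ▸ ⟨cs.isReflection_simple i, simple_mem_WJ cs rfl⟩⟩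
    have h4 : ∀ x ∈ WJ cs {i}, x = 1 ∨ x = cs.simple i := fun x hx => by
      obtain ⟨ω, h5, rfl⟩ := exists_word_of_mem_WJ cs hx
      clear hx
      induction ω with
      | nil => exact .inl (by simp)
      | cons j ω ih =>
        obtain rfl : j = i := h5 j (by simp)
        rcases ih fun j hj => h5 j (by simp [hj]) with e | e <;> simp [wordProd_cons, e]
    refine (h4 t h3).resolve_left fun e => ?_
    have h5 := h2.odd_length
    rw [e, cs.length_one] at h5
    exact absurd h5 (by decide)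
  have h2 := level' hψ hy (K := {i}) (Set.singleton_subset_iff.2 hi) (fun a ha j hj _ => ha ▸ h j hj)
    (fun a ha => by rw [ha, hn, mul_inv_cancel_right]; exact simple_mem_WJ cs rfl) (Finset.univ : Finset Bool)
    (fun b => if b then 1 else -1) (fun b u => if b then (y u + y (cs.simple i * u)) / 2 else (y u - y (cs.simple i * u)) / 2)
    (fun x _ => by simp; ring) (fun b _ x _ => by
      rw [h1, Finset.sum_singleton]
      cases b <;> simp <;> ring) 1
  refine h2.congr fun x _ => ?_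
  have h3 : ¬ (-1 : ℂ) = 1 := by norm_num
  rw [Finset.sum_filter, Fintype.sum_bool]
  simp [h3]

end Avg

/-- **the average over a union of components** -/
theorem boxAvg : BoxAvg := by
  intro I W M _ cs _ ψ hψ J K w y hy hK h hn
  simpa using Avg.avg_eps hψ hy hK h (fun i hi => hn _ (simple_mem_WJ cs hi)) (ε := 1) rfl

end Cfsg.Agent.LV.Cl
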