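import Cfsg.Agent.LV.Cl.Basis1
import Cfsg.Agent.LV.Cl.Par

/-!
# LV, classical groups: the characters `phi` are an orthonormal basis of the class functions (helper89)
-/

set_option autoImplicit false
set_option linter.unusedSectionVars false
set_option linter.dupNamespace false

namespace Cfsg.Agent.LV.Cl

open Equiv Finset Cfsg.Agent.H614 Cfsg.Agent.Characters.Core
open scoped ComplexConjugate

namespace Bas

variable {n : ℕ} {T A A' : Finset (Fin n)} {π h : Perm (Fin n)} {s : Fin n → ℤˣ} {Y : SG n → ℂ} {i i' : Bip}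

/-- the term of `phi` which belongs to `A` -/
noncomputable def E (T : Finset (Fin n)) (i : Bip) (A : Finset (Fin n)) (π : Perm (Fin n)) : ℂ :=
  if Stab A π then (FM (tyO π A) (tp i.1) : ℂ) * FM (tyO π (T \ A)) (tp i.2) else 0

theorem phi_eq (i : Bip) (π : Perm (Fin n)) (s : Fin n → ℤˣ) :
    (phi T i ⟨π, s⟩ : ℂ) = ∑ A ∈ T.powerset, E T i A π * χ (T \ A) s := by
  rw [phi, sum_filter]
  push_cast
  refine sum_congr rfl fun A _ => ?_
  rw [E, χ]
  split_ifs
  · rfl
  · rw [zero_mul]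

theorem hat_phi (hA : A ⊆ T) : hat T (fun g => phi T i g) A π = #(S T) * E T i A π := by
  simp only [hat, phi_eq, sum_mul, mul_assoc]
  rw [sum_comm, sum_eq_single_of_mem A (mem_powerset.2 hA)]
  · rw [← mul_sum, χ_ortho hA hA, if_pos rfl, mul_comm]
  · intro B hB hne
    rw [← mul_sum, χ_ortho (mem_powerset.1 hB) hA, if_neg hne, mul_zero]

/-- the pairing with a character -/
noncomputable def bil (T : Finset (Fin n)) (Y : SG n → ℂ) (i : Bip) : ℂ := ∑ᶠ g : On T, Y g * phi T i g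

/-- the part of the pairing which belongs to `A` -/
noncomputable def R (T : Finset (Fin n)) (Y : SG n → ℂ) (i : Bip) (A : Finset (Fin n)) : ℂ :=
  ∑ π ∈ P T, hat T Y A π * E T i A π

theorem bil_eq : bil T Y i = ∑ A ∈ T.powerset, R T Y i A := by
  rw [bil, sum_On fun g => Y g * phi T i g]
  simp only [R, hat, phi_eq, mul_sum, sum_mul]
  rw [sum_comm (s := T.powerset)]
  refine sum_congr rfl fun π _ => ?_
  rw [sum_comm]
  exact sum_congr rfl fun A _ => sum_congr rfl fun s _ => by ring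

theorem R_eq (hA : A ⊆ T) : R T Y i A = ∑ σ : Perm A, ∑ τ : Perm ↥(T \ A),
    hat T Y A (jn σ τ) * (ch A (tp i.1) σ * ch ↥(T \ A) (tp i.2) τ) := by
  simp only [R, E, mul_ite, mul_zero]
  rw [← sum_filter, sum_jn hA]
  exact sum_congr rfl fun σ _ => sum_congr rfl fun τ _ => by rw [tyO_left, tyO_right hA]; rfl

theorem ch_zero {a : ℕ} {l : List ℕ} (hl : l ∈ pars a) (h : #A ≠ a) (σ : Perm A) : ch A (tp l) σ = 0 := by
  rw [ch_apply, FM_eq_zero_of_sum, Int.cast_zero]
  rw [sum_tp hl, ty_sum, Fintype.card_coe]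
  omega

theorem R_zero {a : ℕ} (hA : A ⊆ T) (hi : i.1 ∈ pars a) (h : #A ≠ a) : R T Y i A = 0 := by
  simp only [R_eq hA, ch_zero hi h, zero_mul, mul_zero, sum_const_zero]

theorem sum_ch {a : ℕ} {l l' : List ℕ} (hl : l ∈ pars #A) (hl' : l' ∈ pars a) :
    ∑ σ : Perm A, ch A (tp l) σ * ch A (tp l') σ = if l = l' then ((#A).factorial : ℂ) else 0 := by
  have h1 := classInner_ch (α := A) (β := tp l) (by rw [sum_tp hl, Fintype.card_coe]) (tp l')
  simp only [classInner_def, conj_ch, card_perm_complex, Fintype.card_coe] at h1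
  rw [inv_mul_eq_iff_eq_mul₀ (Nat.cast_ne_zero.2 (Nat.factorial_ne_zero _))] at h1
  rw [h1]
  split_ifs with e
  · rw [← e, pair_self_of_strictMono (strictMono_tp hl), Int.cast_one, mul_one]
  · rw [pair_eq_zero_of_strictMono (strictMono_tp hl) (strictMono_tp hl') fun e' => e (tp_inj hl hl' e'), Int.cast_zero,
      mul_zero]

theorem bil_of_const {a : ℕ} (hi : i.1 ∈ pars a) {c : ℂ} (h : ∀ A ⊆ T, #A = a → R T Y i A = c) :
    bil T Y i = (#T).choose a * c := by
  rw [bil_eq, ← card_powersetCard, ← nsmul_eq_mul, ← sum_const, powersetCard_eq_filter, sum_filter]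
  refine sum_congr rfl fun A hA => ?_
  split_ifs with e
  · exact h A (mem_powerset.1 hA) e
  · exact R_zero (mem_powerset.1 hA) hi e

theorem ortho (hi : i ∈ bips #T) (hi' : i' ∈ bips #T) :
    bil T (fun g => phi T i' g) i = if i = i' then (Nat.card (On T) : ℂ) else 0 := by
  obtain ⟨a, b, hab, h1, h2⟩ := mem_bips.1 hi
  obtain ⟨a', b', -, h1', h2'⟩ := mem_bips.1 hi'
  rw [bil_of_const h1 (c := if i = i' then #(S T) * (a.factorial * b.factorial) else 0)]
  · split_ifs
    · rw [card_On, ← Nat.choose_mul_factorial_mul_factorial (show a ≤ #T by omega), show #T - a = b by omega]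
      push_cast
      ring
    · rw [mul_zero]
  · intro A hA e
    have e' : #(T \ A) = b := by rw [card_sdiff_of_subset hA]; omega
    have h3 : ∀ (σ : Perm A) (τ : Perm ↥(T \ A)), hat T (fun g => phi T i' g) A (jn σ τ) *
        (ch A (tp i.1) σ * ch ↥(T \ A) (tp i.2) τ) =
        #(S T) * (ch A (tp i.1) σ * ch A (tp i'.1) σ * (ch ↥(T \ A) (tp i.2) τ * ch ↥(T \ A) (tp i'.2) τ)) := fun σ τ => by
      rw [hat_phi hA, E, if_pos (jn_stab σ τ), tyO_left, tyO_right hA, ← ch_apply, ← ch_apply]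
      ring
    simp only [R_eq hA, h3, ← mul_sum, ← sum_mul]
    rw [sum_ch (e ▸ h1) h1', sum_ch (e' ▸ h2) h2', e, e']
    by_cases g1 : i.1 = i'.1 <;> by_cases g2 : i.2 = i'.2 <;> simp [Prod.ext_iff, g1, g2]

theorem R_conj (H : Cf T Y) (Hi : Cf T fun g => phi T i g) (hA : A ⊆ T) (hA' : A' ⊆ T) (e : #A = #A') :
    R T Y i A = R T Y i A' := by
  obtain ⟨h, hh, hx⟩ := exists_move hA hA' e
  refine sum_equiv (MulAut.conj h).toEquiv (fun π => ⟨fun hπ => mul_mem_P (mul_mem_P hh hπ) (inv_mem_P hh), fun hπ => ?_⟩)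
    fun π hπ => ?_
  · have := mul_mem_P (mul_mem_P (inv_mem_P hh) hπ) hh
    simpa [mul_assoc] using this
  · have h1 := hat_conj Hi hπ hh hx
    rw [hat_phi hA, hat_phi hA'] at h1
    rw [← mul_left_cancel₀ card_S_ne h1, ← hat_conj H hπ hh hx]
    rfl

theorem eq_zero_of_ch (hA : #A ≤ 10) {f : Perm A → ℂ} (hf : ∀ σ σ', f (σ' * σ * σ'⁻¹) = f σ)
    (h : ∀ l ∈ pars #A, ∑ σ, f σ * ch A (tp l) σ = 0) (σ : Perm A) : f σ = 0 := by
  refine congrFun (eq_zero_of_orthogonal (m := 10) (by rwa [Fintype.card_coe]) hf fun β h1 h2 => ?_) σ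
  obtain ⟨l, hl, rfl⟩ := pars_complete (k := #A) h1 (by rw [h2, Fintype.card_coe]; rfl)
  simp only [classInner_def, conj_ch, h l hl, mul_zero]

theorem complete (hT : #T ≤ 10) (Hi : ∀ i, Cf T fun g => phi T i g) (H : Cf T Y) (h : ∀ i ∈ bips #T, bil T Y i = 0)
    {g : SG n} (hg : g ∈ On T) : Y g = 0 := by
  obtain ⟨π, s⟩ := g
  obtain ⟨hπ, hs⟩ := mk_mem.1 hg
  refine eq_zero_of_hat (fun A hA => ?_) hs
  by_cases hS : Stab A π
  swap
  · exact hat_zero H hπ hS
  have hc := card_le_card hA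
  have e' : #A + #(T \ A) = #T := by rw [card_sdiff_of_subset hA]; omega
  have h1 : ∀ l ∈ pars #A, ∀ l' ∈ pars #(T \ A), R T Y (l, l') A = 0 := fun l hl l' hl' => by
    have h2 := bil_of_const (T := T) (Y := Y) (i := (l, l')) hl fun A' hA' e => R_conj H (Hi _) hA' hA e
    rw [h _ (mem_bips.2 ⟨_, _, e', hl, hl'⟩)] at h2
    exact (mul_eq_zero.1 h2.symm).resolve_left (Nat.cast_ne_zero.2 (Nat.choose_pos hc).ne')
  have h2 : ∀ (σ σ' : Perm A) (τ τ' : Perm ↥(T \ A)),
      hat T Y A (jn (σ' * σ * σ'⁻¹) (τ' * τ * τ'⁻¹)) = hat T Y A (jn σ τ) := fun σ σ' τ τ' => by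
    rw [jn_conj, hat_conj H (jn_mem hA _ _) (jn_mem hA _ _) (jn_stab _ _)]
  have h3 : ∀ (σ : Perm A) (τ : Perm ↥(T \ A)), hat T Y A (jn σ τ) = 0 := fun σ τ => by
    refine eq_zero_of_ch (f := fun τ => hat T Y A (jn σ τ)) (by omega) (fun τ τ' => by simpa using h2 σ 1 τ τ')
      (fun l' hl' => ?_) τ
    refine eq_zero_of_ch (f := fun σ => ∑ τ, hat T Y A (jn σ τ) * ch ↥(T \ A) (tp l') τ) (by omega)
      (fun σ σ' => sum_congr rfl fun τ _ => by simpa using Or.inl (by simpa using h2 σ σ' τ 1)) (fun l hl => ?_) σ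
    rw [← h1 l hl l' hl', R_eq hA]
    simp only [sum_mul]
    exact sum_congr rfl fun σ _ => sum_congr rfl fun τ _ => by ring
  have h4 := sum_jn hA fun π => ‖hat T Y A π‖
  simp only [h3, norm_zero, sum_const_zero] at h4
  exact norm_eq_zero.1 ((sum_eq_zero_iff_of_nonneg fun _ _ => norm_nonneg _).1 h4 π (mem_filter.2 ⟨hπ, hS⟩))

theorem sum_bips {V : Type*} [AddCommMonoid V] (k : ℕ) (f : Bip → V) :
    ((bips k).map f).sum = ∑ i ∈ (bips k).toFinset, f i := (List.sum_toFinset f (nodup_bips k)).symm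

theorem bil_cf (a : Bip → ℂ) (hi : i ∈ bips #T) : bil T (cf T a) i = Nat.card (On T) * a i := by
  have := Fintype.ofFinite (On T)
  have h1 : ∀ j ∈ (bips #T).toFinset, ∑ g : On T, a j * phi T j g * phi T i g = if i = j then Nat.card (On T) * a i else 0 := by
    intro j hj
    have h2 := ortho hi (List.mem_toFinset.1 hj)
    rw [bil, finsum_eq_sum_of_fintype] at h2
    simp only [mul_assoc, ← mul_sum, h2]
    split_ifs with e
    · rw [e, mul_comm]
    · rw [mul_zero]
  simp only [bil, finsum_eq_sum_of_fintype, cf, sum_bips, sum_mul]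
  rw [sum_comm, sum_congr rfl h1, sum_ite_eq, if_pos (List.mem_toFinset.2 hi)]

theorem sgn_eq {g : SG n} (hg : g ∈ On T) : ∏ j ∈ T, g.s j = sgn g :=
  prod_subset (subset_univ T) fun j _ hj => (hg j hj).2

end Bas

open Bas in
/-- **[C1c]** -/
theorem boxBasis (hM : BoxMN) : BoxBasis := by
  intro n T hT Y H
  have := Fintype.ofFinite (On T)
  have hN : (Nat.card (On T) : ℂ) ≠ 0 := Nat.cast_ne_zero.2 Nat.card_pos.ne'
  have hs : ∀ {g : SG n}, g ∈ On T → Stab T g.π := fun hg => stab_of_mem (mk_mem.1 hg).1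
  have Hi : ∀ i, Cf T fun g => phi T i g := fun i g hg h hh => congrArg _ ((hM T g hT (hs hg)).2.2.2.1 h (hs hh) i)
  have key : ∀ g ∈ On T, Y g = cf T (fun i => (Nat.card (On T) : ℂ)⁻¹ * bil T Y i) g := fun g hg => by
    refine sub_eq_zero.1 (complete (Y := fun g => Y g - cf T (fun i => (Nat.card (On T) : ℂ)⁻¹ * bil T Y i) g) hT Hi
      (fun g hg h hh => ?_) (fun i hi => ?_) hg)
    · simp only [H g hg h hh, cf, show ∀ i, (phi T i (h * g * h⁻¹) : ℂ) = phi T i g from fun i => Hi i g hg h hh]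
    · have h1 := bil_cf (fun i => (Nat.card (On T) : ℂ)⁻¹ * bil T Y i) hi
      rw [mul_inv_cancel_left₀ hN] at h1
      simp only [bil, finsum_eq_sum_of_fintype, sub_mul, sum_sub_distrib] at h1 ⊢
      rw [h1, sub_self]
  refine ⟨_, key, ?_, fun ε hε i _ => ?_⟩
  · have h1 : ∀ g : On T, ((‖Y g‖ ^ 2 : ℝ) : ℂ) =
        ∑ i ∈ (bips #T).toFinset, conj ((Nat.card (On T) : ℂ)⁻¹ * bil T Y i) * (Y g * phi T i g) := fun g => by
      rw [Complex.ofReal_pow, ← Complex.mul_conj']
      conv_lhs => rw [congrArg conj (key g g.2), cf, sum_bips, map_sum, mul_sum]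
      exact sum_congr rfl fun i _ => by rw [map_mul, map_intCast]; ring
    apply Complex.ofReal_injective
    rw [finsum_eq_sum_of_fintype, Complex.ofReal_sum, sum_congr rfl fun g _ => h1 g, sum_comm, nr, sum_bips,
      Complex.ofReal_mul, Complex.ofReal_sum, mul_sum]
    refine sum_congr rfl fun i _ => ?_
    rw [← mul_sum, ← finsum_eq_sum_of_fintype, Complex.ofReal_pow, ← Complex.conj_mul', Complex.ofReal_natCast,
      mul_left_comm, mul_inv_cancel_left₀ hN]
    rfl
  · rw [mul_left_comm]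
    congr 1
    simp only [bil, finsum_eq_sum_of_fintype, mul_sum]
    refine sum_congr rfl fun g _ => ?_
    rw [(hM T g hT (hs g.2)).2.2.2.2.1 i, sgn_eq g.2]
    by_cases e : sgn g.1 = ε
    · rw [e, Int.cast_mul, mul_left_comm]
    · rw [hε g g.2 e, zero_mul, zero_mul, mul_zero]

end Cfsg.Agent.LV.Cl
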