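import Cfsg.Agent.LV.Cl.Defs
import Cfsg.Agent.H614.Degree
import Cfsg.Agent.Characters.Central

/-!
# LV, classical groups: the sum of all reflections acts by the level (helper77)
-/

set_option autoImplicit false
set_option linter.unusedSectionVars false
set_option linter.dupNamespace false

namespace Cfsg.Agent.LV.Cl

open Equiv Finset Cfsg.Agent.H614

namespace Cas

/-! ### symmetric groups -/

/-- the degree -/
def dgr {m : ℕ} (a : ℕ) (β : Fin m → ℕ) : ℤ :=
  (a.factorial * ∏ i : Fin m, ∏ j ∈ Ioi i, ((β j : ℤ) - β i)) / ∏ i, ((β i).factorial : ℤ)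

theorem FM_dgr {m a : ℕ} {β : Fin m → ℕ} (hs : ∑ i, β i = a + ∑ i : Fin m, (i : ℕ)) :
    FM (Multiset.replicate a 1) β = dgr a β :=
  Int.eq_ediv_of_mul_eq_left (prod_ne_zero_iff.2 fun _ _ => by exact_mod_cast Nat.factorial_ne_zero _) (FM_ones_formula a β hs)

/-- twice the content -/
def ct (a : ℕ) (l : List ℕ) : ℤ := (l.map fun x => (x : ℤ) * (x - 1)).sum - 240 - 18 * a

theorem num : ∀ a ≤ 10, ∀ l ∈ pars a, (∀ i j : Fin 10, i < j → tp l i < tp l j) ∧
    ∑ i, tp l i = a + ∑ i : Fin 10, (i : ℕ) ∧ l.sum = a + 45 ∧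
    (a * (a - 1) : ℤ) * ∑ j, (if 2 ≤ tp l j then dgr (a - 2) (dn (tp l) j 2) else 0) = ct a l * dgr a (tp l) := by
  decide +kernel

theorem sum_swap {α : Type} [Fintype α] [DecidableEq α] {m : ℕ} {β : Fin m → ℕ} (hβ : StrictMono β)
    (hs : ∑ i, β i = Fintype.card α + ∑ i : Fin m, (i : ℕ)) {c : ℤ}
    (hc : (Fintype.card α * (Fintype.card α - 1) : ℤ) *
      ∑ j, (if 2 ≤ β j then dgr (Fintype.card α - 2) (dn β j 2) else 0) = c * dgr (Fintype.card α) β) (g : Perm α) :
    ∑ x : α, ∑ y with x ≠ y, FM (ty (swap x y * g)) β = c * FM (ty g) β := by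
  have hχ := isIrr_ch hβ hs
  set d : ℤ := ∑ j, (if 2 ≤ β j then dgr (Fintype.card α - 2) (dn β j 2) else 0) with hd
  have h1 : ch α β 1 = (dgr (Fintype.card α) β : ℤ) := by rw [ch_apply, ty_one, FM_dgr hs]
  have h0 : ch α β 1 ≠ 0 := by
    obtain ⟨e, he, h⟩ := ch_one_pos hβ hs
    rw [h]
    exact_mod_cast he.ne'
  have h2 : ∀ x y : α, x ≠ y → ch α β (swap x y) = d := fun x y h => by
    have h3 : 2 ≤ Fintype.card α := Fintype.one_lt_card_iff.2 ⟨x, y, h⟩
    rw [ch_apply, ty_eq, (Perm.isCycle_swap h).cycleType, Perm.card_support_swap h, Multiset.sum_singleton,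
      Multiset.singleton_add, FM_cons]
    refine congrArg _ (sum_congr rfl fun j _ => ?_)
    split_ifs with h4
    · exact FM_dgr (by have := sum_dn β j h4; omega)
    · rfl
  have h3 : ∀ a : Perm α, ∑ x : α, ∑ y with x ≠ y, ch α β (a * swap x y * a⁻¹ * g) =
      ∑ x : α, ∑ y with x ≠ y, ch α β (swap x y * g) := fun a =>
    sum_equiv a (by simp) fun x _ => sum_equiv a (by simp) fun y _ => by rw [swap_apply_apply]
  have h4 : (Nat.card (Perm α) : ℂ) * ∑ x : α, ∑ y with x ≠ y, ch α β (swap x y * g) =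
      Nat.card (Perm α) * ((Fintype.card α * (Fintype.card α - 1)) * d * ch α β g / ch α β 1) := by
    calc _ = ∑ a : Perm α, ∑ x : α, ∑ y with x ≠ y, ch α β (a * swap x y * a⁻¹ * g) := by
          rw [sum_congr rfl fun a _ => h3 a, sum_const, nsmul_eq_mul, card_univ, Nat.card_eq_fintype_card]
      _ = ∑ x : α, ∑ y with x ≠ y, (Nat.card (Perm α) : ℂ) * d * ch α β g / ch α β 1 := by
          rw [sum_comm]
          refine sum_congr rfl fun x _ => ?_
          rw [sum_comm]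
          exact sum_congr rfl fun y hy => by
            rw [Characters.Central.sum_char_conj_mul hχ, h2 x y (mem_filter.1 hy).2]
      _ = ∑ x : α, ((Fintype.card α : ℂ) - 1) * ((Nat.card (Perm α) : ℂ) * d * ch α β g / ch α β 1) :=
          sum_congr rfl fun x _ => by
            rw [sum_const, nsmul_eq_mul, filter_ne, card_erase_of_mem (mem_univ x), card_univ,
              Nat.cast_pred (Fintype.card_pos_iff.2 ⟨x⟩)]
      _ = _ := by
          rw [sum_const, nsmul_eq_mul, card_univ]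
          ring
  have h5 := mul_left_cancel₀ (by exact_mod_cast Nat.card_pos.ne') h4
  have h6 : ((Fintype.card α : ℂ) * (Fintype.card α - 1)) * d = c * ch α β 1 := by
    rw [h1]
    exact_mod_cast hc
  rw [h6, mul_right_comm, mul_div_cancel_right₀ _ h0] at h5
  simp only [ch_apply] at h5
  exact_mod_cast h5

/-! ### one side -/

variable {n : ℕ}

/-- the character `β` of the permutations of `A` -/
noncomputable def w (A : Finset (Fin n)) (β : Fin 10 → ℕ) (π : Perm (Fin n)) : ℤ := if Stab A π then FM (tyO π A) β else 0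

theorem stab_swap {A : Finset (Fin n)} {x y : Fin n} (h : x ∈ A ↔ y ∈ A) : Stab A (swap x y) := fun z => by
  rw [swap_apply_def]
  split_ifs with h1 h2
  · rw [h1, h]
  · rw [h2, h]
  · rfl

theorem stab_mul {A : Finset (Fin n)} {σ π : Perm (Fin n)} (h : Stab A σ) : Stab A (σ * π) ↔ Stab A π :=
  forall_congr' fun z => by rw [Perm.mul_apply, h]

theorem w_out {A : Finset (Fin n)} (β : Fin 10 → ℕ) (π : Perm (Fin n)) {x y : Fin n} (hx : x ∉ A) (hy : y ∉ A) :
    w A β (swap x y * π) = w A β π := by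
  have h1 := stab_mul (π := π) (stab_swap (iff_of_false hx hy))
  unfold w tyO
  by_cases h : Stab A π
  · rw [if_pos h, if_pos (h1.2 h), dif_pos h, dif_pos (h1.2 h)]
    congr 2
    ext z : 2
    have h2 := (h z).2 z.2
    exact swap_apply_of_ne_of_ne (fun e => hx (e ▸ h2)) fun e => hy (e ▸ h2)
  · rw [if_neg h, if_neg (mt h1.1 h)]

theorem w_eq_zero {a : ℕ} (ha : a ≤ 10) {l : List ℕ} (hl : l ∈ pars a) {A : Finset (Fin n)} (hA : #A ≠ a) (π : Perm (Fin n)) :
    w A (tp l) π = 0 := by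
  unfold w tyO
  split_ifs with h
  · refine FM_eq_zero_of_sum _ fun e => hA ?_
    rw [(num a ha l hl).2.1, ty_sum, Fintype.card_coe] at e
    omega
  · rfl

theorem w_in {a : ℕ} (ha : a ≤ 10) {l : List ℕ} (hl : l ∈ pars a) (A : Finset (Fin n)) (π : Perm (Fin n)) :
    ∑ x ∈ A, ∑ y ∈ A with x ≠ y, w A (tp l) (swap x y * π) = ct a l * w A (tp l) π := by
  by_cases hA : #A = a
  swap
  · simp only [w_eq_zero ha hl hA, sum_const_zero, mul_zero]
  have h1 : ∀ x ∈ A, ∀ y ∈ A, Stab A (swap x y * π) ↔ Stab A π := fun x hx y hy => stab_mul (stab_swap (iff_of_true hx hy))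
  by_cases h : Stab A π
  · obtain ⟨h2, h3, -, h4⟩ := num a ha l hl
    rw [← hA, ← Fintype.card_coe] at h3
    have h5 := sum_swap (α := A) (fun _ _ => h2 _ _) h3 (c := ct a l) (by rwa [Fintype.card_coe, hA]) (π.subtypePerm h)
    rw [w, if_pos h, tyO, dif_pos h, ← h5, ← sum_coe_sort A]
    refine sum_congr rfl fun x _ => ?_
    rw [sum_filter, sum_filter, ← sum_coe_sort A]
    refine sum_congr rfl fun y _ => if_congr Subtype.coe_ne_coe ?_ rfl
    have h6 := (h1 x x.2 y y.2).2 h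
    rw [w, if_pos h6, tyO, dif_pos h6]
    congr 2
    ext z : 2
    exact Subtype.val_injective.swap_apply x y (π.subtypePerm h z)
  · rw [w, if_neg h, mul_zero]
    exact sum_eq_zero fun x hx => sum_eq_zero fun y hy => if_neg (mt (h1 x hx y (mem_filter.1 hy).1).1 h)

/-! ### both sides -/

theorem phi_eq {T : Finset (Fin n)} (i : Bip) {g : SG n} (hg : Stab T g.π) :
    phi T i g = ∑ A ∈ T.powerset, w A (tp i.1) g.π * w (T \ A) (tp i.2) g.π * ∏ j ∈ T \ A, (g.s j : ℤ) := by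
  rw [phi, sum_filter]
  refine sum_congr rfl fun A _ => ?_
  unfold w
  split_ifs with h1 h2 h2
  · rfl
  · exact absurd (fun x => by rw [mem_sdiff, mem_sdiff, hg, h1]) h2
  · rw [zero_mul, zero_mul]
  · rw [zero_mul, zero_mul]

theorem w_mul_prod (B : Finset (Fin n)) (γ : Fin 10 → ℕ) (h g : SG n) (hh : ∀ j, h.s (h.π j) = h.s j) :
    w B γ (h * g).π * ∏ j ∈ B, ((h * g).s j : ℤ) = (∏ j ∈ B, (h.s j : ℤ)) * (w B γ (h.π * g.π) * ∏ j ∈ B, (g.s j : ℤ)) := by
  rw [mul_π]
  by_cases h1 : Stab B (h.π * g.π)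
  · have h2 : ∏ j ∈ B, (h.s (g.π j) : ℤ) = ∏ j ∈ B, (h.s j : ℤ) :=
      prod_equiv (h.π * g.π) (fun j => (h1 j).symm) fun j _ => by rw [Perm.mul_apply, hh]
    simp only [mul_s, Units.val_mul, prod_mul_distrib, h2]
    ring
  · rw [w, if_neg h1, zero_mul, zero_mul, mul_zero]

theorem sw_s (x y : Fin n) (e : ℤˣ) (j : Fin n) : (sw x y e).s ((sw x y e).π j) = (sw x y e).s j := by
  refine if_congr ?_ rfl rfl
  show swap x y j = x ∨ swap x y j = y ↔ _
  rw [swap_apply_eq_iff, swap_apply_eq_iff, swap_apply_left, swap_apply_right, or_comm]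

theorem prod_tt (B : Finset (Fin n)) (x : Fin n) : ∏ j ∈ B, ((tt x).s j : ℤ) = if x ∈ B then -1 else 1 := by
  rw [← prod_ite_eq' B x fun _ => (-1 : ℤ)]
  exact prod_congr rfl fun j _ => apply_ite Units.val _ _ _

theorem prod_sw (B : Finset (Fin n)) {x y : Fin n} (h : x ≠ y) :
    ∏ j ∈ B, ((sw x y 1).s j : ℤ) + ∏ j ∈ B, ((sw x y (-1)).s j : ℤ) = if x ∈ B ↔ y ∈ B then 2 else 0 := by
  have h1 : ∏ j ∈ B, ((sw x y 1).s j : ℤ) = 1 := prod_eq_one fun j _ => by simp [sw]
  have h2 : ∏ j ∈ B, ((sw x y (-1)).s j : ℤ) = (∏ j ∈ B, ((tt x).s j : ℤ)) * ∏ j ∈ B, ((tt y).s j : ℤ) := by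
    rw [← prod_mul_distrib]
    refine prod_congr rfl fun j _ => ?_
    by_cases h3 : j = x <;> by_cases h4 : j = y <;> simp_all [sw, tt]
  rw [h1, h2, prod_tt, prod_tt]
  by_cases h3 : x ∈ B <;> by_cases h4 : y ∈ B <;> simp [h3, h4]

theorem sum_lt (T : Finset (Fin n)) (f : Fin n → Fin n → ℤ) (hf : ∀ x y, f x y = f y x) :
    ∑ x ∈ T, ∑ y ∈ T with x < y, 2 * f x y = ∑ x ∈ T, ∑ y ∈ T with x ≠ y, f x y := by
  have h1 : ∑ x ∈ T, ∑ y ∈ T with x < y, f x y = ∑ x ∈ T, ∑ y ∈ T with y < x, f x y := by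
    simp only [sum_filter]
    rw [sum_comm]
    simp only [hf]
  simp only [two_mul, sum_add_distrib]
  nth_rewrite 2 [h1]
  simp only [sum_filter, ← sum_add_distrib]
  refine sum_congr rfl fun x _ => sum_congr rfl fun y _ => ?_
  rcases lt_trichotomy x y with h | h | h
  · rw [if_pos h, if_neg h.not_gt, if_pos h.ne, add_zero]
  · simp [h]
  · rw [if_neg h.not_gt, if_pos h, if_pos h.ne', zero_add]

theorem sum_same {T A : Finset (Fin n)} (hA : A ⊆ T) (f : Fin n → Fin n → ℤ) :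
    ∑ x ∈ T, ∑ y ∈ T with x ≠ y, (if x ∈ T \ A ↔ y ∈ T \ A then f x y else 0) =
      ∑ x ∈ T \ A, ∑ y ∈ T \ A with x ≠ y, f x y + ∑ x ∈ A, ∑ y ∈ A with x ≠ y, f x y := by
  rw [← sum_sdiff hA]
  congr 1 <;> refine sum_congr rfl fun x hx => ?_ <;> rw [← sum_filter] <;> refine sum_congr ?_ fun _ _ => rfl <;> ext y
  · simp only [mem_filter, hx, true_iff, mem_sdiff]
    tauto
  · have := @hA y
    simp only [mem_filter, mem_sdiff, hx]
    tauto

end Cas

open Cas in
/-- **the sum of all reflections acts by the level** -/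
theorem boxCas : BoxCas := by
  intro n b T g hT hg i hi
  obtain ⟨a, ha, hi⟩ := List.mem_flatMap.1 hi
  obtain ⟨β, hβ, hi⟩ := List.mem_flatMap.1 hi
  obtain ⟨γ, hγ, rfl⟩ := List.mem_map.1 hi
  replace ha : a ≤ #T := Nat.lt_succ_iff.1 (List.mem_range.1 ha)
  have ha1 : a ≤ 10 := ha.trans hT
  have ha2 : #T - a ≤ 10 := (Nat.sub_le _ _).trans hT
  have h1 : ∑ x ∈ T, ∑ y ∈ T with x < y, (phi T (β, γ) (sw x y 1 * g) + phi T (β, γ) (sw x y (-1) * g)) =
      (ct a β + ct (#T - a) γ) * phi T (β, γ) g := by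
    calc _ = ∑ x ∈ T, ∑ y ∈ T with x < y, ∑ A ∈ T.powerset, 2 * (if x ∈ T \ A ↔ y ∈ T \ A then
            w A (tp β) (swap x y * g.π) * w (T \ A) (tp γ) (swap x y * g.π) * ∏ j ∈ T \ A, (g.s j : ℤ) else 0) := by
          refine sum_congr rfl fun x hx => sum_congr rfl fun y hy => ?_
          obtain ⟨hy, hxy⟩ := mem_filter.1 hy
          have h2 : Stab T (swap x y * g.π) := (stab_mul (stab_swap (iff_of_true hx hy))).2 hg
          rw [phi_eq _ (g := sw x y 1 * g) h2, phi_eq _ (g := sw x y (-1) * g) h2, ← sum_add_distrib]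
          refine sum_congr rfl fun A _ => ?_
          rw [mul_assoc, mul_assoc, w_mul_prod _ _ _ _ (sw_s x y _), w_mul_prod _ _ _ _ (sw_s x y _)]
          have h3 := prod_sw (T \ A) hxy.ne
          simp only [mul_π, show ∀ e, (sw x y e).π = swap x y from fun _ => rfl]
          split_ifs at h3 ⊢ <;>
            linear_combination (w A (tp β) (swap x y * g.π) * w (T \ A) (tp γ) (swap x y * g.π) * ∏ j ∈ T \ A, (g.s j : ℤ)) * h3
      _ = _ := by
          rw [sum_congr rfl fun x _ => sum_comm, sum_comm, phi_eq _ hg, mul_sum]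
          refine sum_congr rfl fun A hA => ?_
          rw [sum_lt T _ fun x y => by rw [swap_comm]; exact if_congr iff_comm rfl rfl, sum_same (mem_powerset.1 hA)]
          have h2 := w_in ha1 hβ A g.π
          have h3 := w_in ha2 hγ (T \ A) g.π
          rw [sum_congr rfl fun x hx => sum_congr rfl fun y hy => by
              rw [w_out _ _ (mem_sdiff.1 hx).2 (mem_sdiff.1 (mem_filter.1 hy).1).2],
            sum_congr (s₁ := A) rfl fun x hx => sum_congr rfl fun y hy => by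
              rw [w_out (A := T \ A) _ _ (fun e => (mem_sdiff.1 e).2 hx) fun e => (mem_sdiff.1 e).2 (mem_filter.1 hy).1]]
          simp only [← sum_mul, ← mul_sum]
          rw [h2, h3]
          ring
  have h2 : ∑ x ∈ T, phi T (β, γ) (tt x * g) = ((β.sum : ℤ) - γ.sum) * phi T (β, γ) g := by
    have h3 : ∀ x, (tt x).π * g.π = g.π := fun x => one_mul _
    rw [sum_congr rfl fun x _ => phi_eq _ (g := tt x * g) (by rw [mul_π, h3]; exact hg), sum_comm, phi_eq _ hg, mul_sum]
    refine sum_congr rfl fun A hA => ?_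
    replace hA := mem_powerset.1 hA
    rw [sum_congr rfl fun x _ => by rw [mul_assoc, w_mul_prod _ _ _ _ fun _ => rfl, mul_π, h3, prod_tt]]
    by_cases h4 : #A = a
    · rw [← mul_sum, ← sum_mul, ← sum_sdiff hA, sum_congr rfl fun x hx => if_pos hx,
        sum_congr (s₁ := A) rfl fun x hx => if_neg fun e => (mem_sdiff.1 e).2 hx, sum_const, sum_const, card_sdiff_of_subset hA, h4,
        (num _ ha1 _ hβ).2.2.1, (num _ ha2 _ hγ).2.2.1]
      push_cast
      ring
    · simp only [w_eq_zero ha1 hβ h4, zero_mul, mul_zero, sum_const_zero]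
  rw [h1, h2, lev, ct, ct, Nat.cast_sub ha]
  split_ifs <;> ring

end Cfsg.Agent.LV.Cl
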