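import Cfsg.Agent.LV.Cl.Em

/-!
# LV, classical groups: the coefficient vector of an invariant function on a coset (helper52)

`Chn.exists_a`.
-/

set_option autoImplicit false
set_option linter.unusedSectionVars false
set_option linter.dupNamespace false
set_option maxHeartbeats 400000

namespace Cfsg.Agent.LV.Cl

open Equiv Finset Cfsg.Agent.Tits.Exchange Cfsg.Agent.Tits.Core Ey

namespace Chn

variable {n : ℕ} {I W : Type} {M : CoxeterMatrix I} [Group W] {cs : CoxeterSystem M W} {ψ : MulAut W} {b : Bool}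
  (E : Em cs ψ n b)

theorem cf_congr (hM : BoxMN) {T : Finset (Fin n)} (hT : #T ≤ 10) {g g' : SG n} (hg : Stab T g.π)
    (h : ∀ j ∈ T, g'.π j = g.π j ∧ g'.s j = g.s j) (a : Bip → ℂ) : cf T a g' = cf T a g :=
  congrArg List.sum (List.map_congr_left fun i _ => by rw [(hM T g hT hg).2.2.1 g' h i])

theorem cf_out (hM : BoxMN) {T : Finset (Fin n)} (hT : #T ≤ 10) {h o : SG n} (hh : h ∈ On T)
    (ho : ∀ j ∈ T, o.π j = j ∧ o.s j = 1) (a : Bip → ℂ) : cf T a (h * o) = cf T a h :=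
  cf_congr hM hT (stab_of_On hh) (fun j hj => by
    rw [mul_π, mul_s, Perm.mul_apply, (ho j hj).1, (ho j hj).2, mul_one]; exact ⟨rfl, rfl⟩) a

theorem card_Tk_le {k : ℕ} : #(Tk n k) ≤ n := (card_le_univ _).trans (Fintype.card_fin n).le

theorem one_le_of_sgn {k : ℕ} {h : SG n} (hh : h ∈ On (Tk n k)) (hs : sgn h ≠ 1) : 1 ≤ k := by
  by_contra h1
  obtain rfl : k = 0 := by omega
  exact hs (by rw [sgn_On hh, Tk_zero, prod_empty])

theorem card_On (k : ℕ) : (Nat.card (On (Tk n k)) : ℝ) = ix b k * Nat.card (WJ cs (E.J k)) := by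
  have h1 : (WJ cs (E.J k)).map E.emb ≤ On (Tk n k) := by
    rintro _ ⟨v, hv, rfl⟩
    exact E.mem_J.1 hv
  have h2 : ∀ h : On (Tk n k), h ∈ ((WJ cs (E.J k)).map E.emb).subgroupOf (On (Tk n k)) ↔ (b = false → sgn h.1 = 1) :=
    fun h => ⟨fun ⟨v, _, e⟩ hb => by rw [show h.1 = E.emb v from e.symm, E.even hb], fun h3 => E.exists_mem_J h.2 h3⟩
  rw [← (((WJ cs (E.J k)).map E.emb).subgroupOf (On (Tk n k))).index_mul_card,
    Nat.card_congr (Subgroup.subgroupOfEquivOfLe h1).toEquiv, Subgroup.card_map_of_injective E.inj, Nat.cast_mul, ix]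
  congr 1
  split_ifs with h3
  · have h4 : (((WJ cs (E.J k)).map E.emb).subgroupOf (On (Tk n k))).index = 2 := by
      refine Subgroup.index_eq_two_iff.2 ⟨⟨tt E.lst, tt_mem_On.2 (E.lst_mem h3.2)⟩, fun h => ?_⟩
      rw [h2, h2, Subgroup.coe_mul, map_mul, sgn_tt]
      rcases Int.units_eq_one_or (sgn h.1) with h5 | h5 <;> simp [h5, h3.1]
    rw [h4, Nat.cast_ofNat]
  · rw [Subgroup.index_eq_one.2 (eq_top_iff.2 fun h _ => (h2 h).2 fun hb => by_contra fun h4 =>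
      h3 ⟨hb, one_le_of_sgn h.2 h4⟩), Nat.cast_one]

theorem par (A B : ℂ) : ‖(A + B) / 2‖ ^ 2 + ‖(A - B) / 2‖ ^ 2 = (‖A‖ ^ 2 + ‖B‖ ^ 2) / 2 := by
  have h := parallelogram_law_with_norm ℝ A B
  rw [norm_div, norm_div, Complex.norm_two]
  nlinarith

variable [Fintype W]

/-- **the coefficient vector** -/
theorem exists_a (hM : BoxMN) (hB : BoxBasis) {k : ℕ} (hk : k ≤ n) {w : W} {y : W → ℂ} (hw : Stab (Tk n k) (E.g w).π)
    (hy : E.Inv (E.J k) w y) : ∃ a : Bip → ℂ,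
      (b = false → 1 ≤ k → ∀ i ∈ bips k, a (i.2, i.1) = ((E.ε k w : ℤ) : ℂ) * a i) ∧ ix b k * nr k a ≤ E.N (E.J k) w y ∧
      (∀ x ∈ WJ cs (E.J k), E.Fine k (x * w) → y (x * w) = cf (Tk n k) a (E.g (x * w))) ∧
      (ix b k * nr k a = E.N (E.J k) w y → ∀ x ∈ WJ cs (E.J k), y (x * w) = cf (Tk n k) a (E.g (x * w))) ∧
      (1 ≤ k → ∀ x ∈ WJ cs (E.J k), y (x * w) + y (E.cj (tt E.lst) (x * w)) = 2 * cf (Tk n k) a (E.g (x * w))) := by
  classical
  have hT : #(Tk n k) ≤ 10 := card_Tk_le.trans E.ten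
  have hr := res_mem hw
  have hε : sgn (res _ _ hw) = E.ε k w := sgn_res hw
  have ho : ∀ j ∈ Tk n k, ((res _ _ hw)⁻¹ * E.g w).π j = j ∧ ((res _ _ hw)⁻¹ * E.g w).s j = 1 := fun _ => res_out hw
  have hx : ∀ d ∈ On (Tk n k), (b = false → sgn d = E.ε k w) →
      ∃ x ∈ WJ cs (E.J k), E.g (x * w) = d * ((res _ _ hw)⁻¹ * E.g w) := fun _ => E.exists_x hw
  have hg : ∀ x, E.g (x * w) = E.emb x * res _ _ hw * ((res _ _ hw)⁻¹ * E.g w) := fun x => by
    rw [E.g_mul, mul_assoc, mul_inv_cancel_left]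
  have hs : b = false → ∀ u, sgn (E.g u) = E.ε k w * sgn ((res _ _ hw)⁻¹ * E.g w) := fun hb u => by
    rw [← hε, ← map_mul, mul_inv_cancel_left, Em.g, Em.g, map_mul, map_mul, E.even hb, E.even hb]
  generalize (res _ _ hw)⁻¹ * E.g w = o at ho hx hg hs
  generalize res _ _ hw = r at hr hε hg
  let Y : SG n → ℂ := fun h => Function.extend E.g y 0 (h * o)
  have hY : ∀ h u, E.g u = h * o → Y h = y u := fun h u e => by
    simp only [Y]
    rw [← e, E.g_inj.extend_apply]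
  have hY0 : b = false → ∀ h, sgn h ≠ E.ε k w → Y h = 0 := fun hb h h1 =>
    Function.extend_apply' _ _ _ fun ⟨u, e⟩ => h1 (mul_right_cancel ((map_mul sgn h o).symm.trans (e ▸ hs hb u)))
  have hc : ∀ c ∈ On (Tk n k), ∀ h, c * h * c⁻¹ * o = c * (h * o) * c⁻¹ := fun c h1 h => by
    rw [mul_assoc, (commute_On ho h1).inv_left.eq, mul_assoc, mul_assoc, mul_assoc]
  have hI : ∀ c ∈ On (Tk n k), (b = false → sgn c = 1) → ∀ h ∈ On (Tk n k), Y (c * h * c⁻¹) = Y h := fun c h1 h2 h h3 => by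
    by_cases h4 : b = false → sgn h = E.ε k w
    · obtain ⟨x, h5, h6⟩ := hx h h3 h4
      obtain ⟨v, h7, rfl⟩ := E.exists_mem_J h1 h2
      rw [hY h _ h6, hY _ (v * (x * w) * (ψ v)⁻¹) (by rw [E.g_conj, h6, hc _ h1]), hy v h7 x h5]
    · obtain ⟨hb, h4⟩ := Classical.not_imp.1 h4
      rw [hY0 hb h h4, hY0 hb _ (by rwa [map_mul, map_mul, map_inv, mul_inv_cancel_comm])]
  obtain ⟨t, ht, ht1, ht2, ht3⟩ : ∃ t ∈ On (Tk n k), t * t = 1 ∧ (1 ≤ k → t = tt E.lst) ∧ (¬ 1 ≤ k → t = 1) := by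
    by_cases h : 1 ≤ k
    · exact ⟨_, tt_mem_On.2 (E.lst_mem h), tt_mul_self _, fun _ => rfl, fun h1 => absurd h h1⟩
    · exact ⟨1, one_mem _, one_mul _, fun h1 => absurd h1 h, fun _ => rfl⟩
  have htt : ∀ h, t * (t * h * t⁻¹) * t⁻¹ = h := fun h => by
    rw [← mul_assoc, ← mul_assoc, ht1, one_mul, mul_assoc, ← mul_inv_rev, ht1, inv_one, mul_one]
  have hm : ∀ c ∈ On (Tk n k), ∀ h ∈ On (Tk n k), c * h * c⁻¹ ∈ On (Tk n k) := fun c h1 h h2 =>
    mul_mem (mul_mem h1 h2) (inv_mem h1)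
  have hI2 : ∀ c ∈ On (Tk n k), (b = false → sgn c = 1) → ∀ h ∈ On (Tk n k),
      (Y (c * h * c⁻¹) + Y (t * (c * h * c⁻¹) * t⁻¹)) / 2 = (Y h + Y (t * h * t⁻¹)) / 2 := fun c h1 h2 h h3 => by
    rw [hI c h1 h2 h h3, ← hI _ (hm t ht c h1) (fun hb => by rw [map_mul, map_mul, map_inv, mul_inv_cancel_comm, h2 hb]) _
      (hm t ht h h3)]
    congr 3
    group
  obtain ⟨a, h1, h2, h3⟩ := hB (Tk n k) hT (fun h => (Y h + Y (t * h * t⁻¹)) / 2) fun h h3 c h1 => by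
    by_cases h2 : b = false → sgn c = 1
    · exact hI2 c h1 h2 h h3
    obtain ⟨hb, h2⟩ := Classical.not_imp.1 h2
    have h4 := hI2 (c * t⁻¹) (mul_mem h1 (inv_mem ht)) (fun _ => by
      rw [map_mul, map_inv, ht2 (one_le_of_sgn h1 h2), sgn_tt, (Int.units_eq_one_or _).resolve_left h2, mul_inv_cancel]) _
      (hm t ht h h3)
    rw [htt, show c * t⁻¹ * (t * h * t⁻¹) * (c * t⁻¹)⁻¹ = c * h * c⁻¹ by group] at h4
    exact h4.trans (by rw [add_comm])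
  rw [card_Tk hk] at h2 h3
  have hxr : ∀ x ∈ WJ cs (E.J k), E.emb x * r ∈ On (Tk n k) := fun x h4 => mul_mem (E.mem_J.1 h4) hr
  have h4 : ∀ x ∈ WJ cs (E.J k), y (x * w) + Y (t * (E.emb x * r) * t⁻¹) = 2 * cf (Tk n k) a (E.g (x * w)) := fun x h4 => by
    rw [hg, cf_out hM hT (hxr x h4) ho, ← h1 _ (hxr x h4), hY _ _ (hg x)]
    ring
  have h5 : ∀ x ∈ WJ cs (E.J k), Y (t * (E.emb x * r) * t⁻¹) = Y (E.emb x * r) → y (x * w) = cf (Tk n k) a (E.g (x * w)) :=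
    fun x h5 h6 => by
      have h7 := h4 x h5
      rw [h6, hY _ _ (hg x)] at h7
      linear_combination h7 / 2
  have h6 : ∑ x : WJ cs (E.J k), ‖y (x * w)‖ ^ 2 = ∑ h : On (Tk n k), ‖Y h‖ ^ 2 :=
    Fintype.sum_of_injective (fun x => ⟨E.emb x * r, hxr x x.2⟩)
      (fun x x' e => Subtype.ext (E.inj (mul_right_cancel (congrArg Subtype.val e)))) _ _ (fun h h6 => by
        by_cases h7 : b = false → sgn h.1 = E.ε k w
        · obtain ⟨x, h8, h9⟩ := hx h h.2 h7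
          exact absurd ⟨⟨x, h8⟩, Subtype.ext (mul_right_cancel ((hg x).symm.trans h9))⟩ h6
        · obtain ⟨hb, h7⟩ := Classical.not_imp.1 h7
          rw [hY0 hb _ h7, norm_zero, zero_pow two_ne_zero]) fun x => by rw [hY _ _ (hg x)]
  have h7 : ∑ h : On (Tk n k), ‖Y (t * h * t⁻¹)‖ ^ 2 = ∑ h : On (Tk n k), ‖Y h‖ ^ 2 :=
    Fintype.sum_equiv (MulAut.conj (⟨t, ht⟩ : On (Tk n k))).toEquiv _ _ fun _ => rfl
  have h8 : ∑ h : On (Tk n k), ‖(Y h + Y (t * h * t⁻¹)) / 2‖ ^ 2 + ∑ h : On (Tk n k), ‖(Y h - Y (t * h * t⁻¹)) / 2‖ ^ 2 =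
      ∑ h : On (Tk n k), ‖Y h‖ ^ 2 := by
    simp only [← sum_add_distrib, par]
    rw [← sum_div, sum_add_distrib, h7]
    ring
  have h9 : (0 : ℝ) < Nat.card (WJ cs (E.J k)) := Nat.cast_pos.2 Nat.card_pos
  have h10 : E.N (E.J k) w y = ix b k * nr k a +
      (Nat.card (WJ cs (E.J k)) : ℝ)⁻¹ * ∑ h : On (Tk n k), ‖(Y h - Y (t * h * t⁻¹)) / 2‖ ^ 2 := by
    rw [finsum_eq_sum_of_fintype, card_On E] at h2
    rw [Em.N, finsum_eq_sum_of_fintype, h6, ← h8, ← h2]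
    field_simp
  refine ⟨a, fun hb _ => h3 _ fun h _ h11 => ?_, ?_, fun x h11 h12 => h5 x h11 ?_, fun h11 x h12 => h5 x h12 ?_,
    fun h11 x h12 => ?_⟩
  · rw [hY0 hb h h11, hY0 hb _ (by rwa [map_mul, map_mul, map_inv, mul_inv_cancel_comm]), add_zero, zero_div]
  · rw [h10]
    exact le_add_of_nonneg_right (by positivity)
  · by_cases h13 : b = false → sgn t = 1
    · exact hI t ht h13 _ (hxr x h11)
    obtain ⟨hb, h13⟩ := Classical.not_imp.1 h13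
    obtain ⟨c, h14, h15, h16⟩ := h12 hb (one_le_of_sgn ht h13)
    have h17 : c * (E.emb x * r) * c⁻¹ = E.emb x * r :=
      mul_right_cancel (by rw [hc c h14, ← hg, h16.eq, mul_inv_cancel_right])
    rw [← hI (t * c) (mul_mem ht h14) (fun _ => by
      rw [map_mul, h15, (Int.units_eq_one_or _).resolve_left h13, Int.units_mul_self]) _ (hxr x h11)]
    congr 1
    conv_lhs => rw [← h17]
    group
  · rw [h10, left_eq_add, mul_eq_zero, or_iff_right (inv_ne_zero h9.ne'),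
      sum_eq_zero_iff_of_nonneg fun _ _ => by positivity] at h11
    have h13 := h11 ⟨_, hxr x h12⟩ (mem_univ _)
    rw [pow_eq_zero_iff two_ne_zero, norm_eq_zero, div_eq_zero_iff, or_iff_left two_ne_zero, sub_eq_zero] at h13
    exact h13.symm
  · rw [← h4 x h12, hY _ (E.cj (tt E.lst) (x * w)) (by rw [E.g_cj E.tt_τ, hc t ht, ← hg, ht2 h11])]

end Chn

end Cfsg.Agent.LV.Cl
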