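import Cfsg.Agent.LV.Cl.Defs

/-!
# LV, classical groups: the chain with the case of equality (helper50)
-/

set_option autoImplicit false
set_option linter.unusedSectionVars false
set_option linter.dupNamespace false

namespace Cfsg.Agent.LV.Cl

open Equiv Finset Cfsg.Agent.Tits.Core

/-- `BoxChain`, and in the case of equality of the norms the formula holds on the whole coset -/
def BoxChainT : Prop :=
  ∀ {I W : Type} {M : CoxeterMatrix I} [Group W] {cs : CoxeterSystem M W} [Fintype W] {ψ : MulAut W} {n : ℕ} {b : Bool}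
    (E : Em cs ψ n b) (k : ℕ), k ≤ n → ∀ (w : W) (y : W → ℂ), Stab (Tk n k) (E.g w).π → T.Lv cs ψ (E.J k) w y →
    E.Inv (E.J k) w y → ∃ a : Bip → ℂ, Dual b k (E.ε k w) a ∧
      (b = false → 1 ≤ k → ∀ i ∈ bips k, a (i.2, i.1) = ((E.ε k w : ℤ) : ℂ) * a i) ∧ ix b k * nr k a ≤ E.N (E.J k) w y ∧
      (∀ x ∈ WJ cs (E.J k), E.Fine k (x * w) → y (x * w) = cf (Tk n k) a (E.g (x * w))) ∧
      (b = false → E.ε k w = 1 → ∀ j, k = 2 * j → ix b k * nr k a = E.N (E.J k) w y → Dual2 j a) ∧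
      (ix b k * nr k a = E.N (E.J k) w y → ∀ x ∈ WJ cs (E.J k), y (x * w) = cf (Tk n k) a (E.g (x * w)))

theorem BoxChainT.chain (h : BoxChainT) : BoxChain := fun E k hk w y h1 h2 h3 =>
  let ⟨a, h4, h5, h6, h7, h8, _⟩ := h E k hk w y h1 h2 h3
  ⟨a, h4, h5, h6, h7, h8⟩

theorem card_Tk {n k : ℕ} (h : k ≤ n) : #(Tk n k) = k := by
  have : Tk n k = Finset.univ.image fun i : Fin k => (⟨n - k + i, by omega⟩ : Fin n) := by
    ext x
    simp only [Tk, mem_filter, mem_univ, true_and, mem_image]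
    exact ⟨fun hx => ⟨⟨x - (n - k), by omega⟩, Fin.ext (by simp only; omega)⟩, by rintro ⟨i, rfl⟩; simp only; omega⟩
  rw [this, card_image_of_injective _ fun i j e => Fin.ext (by have := congrArg Fin.val e; simp only at this; omega)]
  simp

theorem Tk_self (n : ℕ) : Tk n n = univ := by
  ext x
  simp [Tk]

theorem stab_of_maps {n : ℕ} {T : Finset (Fin n)} {π : Perm (Fin n)} (h : ∀ x ∈ T, π x ∈ T) : Stab T π := fun x =>
  ⟨fun hx => by
    have h1 : T.image π = T := eq_of_subset_of_card_le (fun y hy => by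
      obtain ⟨z, hz, rfl⟩ := mem_image.1 hy
      exact h z hz) (card_image_of_injective _ π.injective).ge
    obtain ⟨z, hz, e⟩ := mem_image.1 (h1.symm ▸ hx)
    exact π.injective e ▸ hz, h x⟩

theorem HasTy.stab {n : ℕ} {g : SG n} {L : List (ℕ × ℤˣ)} {T : Finset (Fin n)} (h : HasTy g T L) : Stab T g.π := by
  refine stab_of_maps ?_
  induction L generalizing T with
  | nil => simp [show T = ∅ from h]
  | cons c L ih =>
    obtain ⟨x, -, h1, -, -, h2⟩ := h
    intro y hy
    by_cases e : y ∈ cyc g.π x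
    · refine h1 ?_
      simp only [cyc, mem_filter, mem_univ, true_and] at e ⊢
      exact e.apply_right
    · exact (mem_sdiff.1 (ih h2 y (mem_sdiff.2 ⟨hy, e⟩))).1

theorem cf_eq (h : BoxMN) {n : ℕ} {g : SG n} {L : List (ℕ × ℤˣ)} {T : Finset (Fin n)} (hT : #T ≤ 10) (hL : HasTy g T L)
    (a : Bip → ℂ) : cf T a g = pr #T a (val L) :=
  congrArg List.sum (List.map_congr_left fun i hi => by rw [(h T g hT hL.stab).2.1 L hL i hi])

end Cfsg.Agent.LV.Cl
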