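import Cfsg.Agent.LV.Cl.ChainA
import Cfsg.Agent.LV.Cl.ChainB
import Cfsg.Agent.LV.Cl.DefsT
import Cfsg.Agent.LV.Cl.Cas
import Cfsg.Agent.LV.Cl.Basis

/-!
# LV, classical groups: the chain (helper52)

`boxChainT (hM : BoxMN) : BoxChainT`, `boxChain (hM : BoxMN) : BoxChain`.
-/

set_option autoImplicit false
set_option linter.dupNamespace false

namespace Cfsg.Agent.LV.Cl

theorem boxChainT_of (hM : BoxMN) (hC : BoxCas) (hB : BoxBasis) : BoxChainT := by
  intro I W M _ cs _ ψ n b E k hk w y hw hy hi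
  obtain ⟨a, h1, h2, h3, h4, h5⟩ := Chn.exists_a E hM hB hk hw hi
  refine ⟨a, ChA.dual_of_R hM hC hk hw hy hi h5 fun h0 => ?_, h1, h2, h3,
    fun hb hε j hj h6 => ChA.dual2_of' hM hC hb hk hj hw hy hε (h4 h6), h4⟩
  simpa only [one_mul] using h3 1 (one_mem _) fun _ h6 => absurd h6 (by omega)

/-- **(C3)** -/
theorem boxChainT (hM : BoxMN) : BoxChainT := boxChainT_of hM boxCas (boxBasis hM)

theorem boxChain (hM : BoxMN) : BoxChain := BoxChainT.chain (boxChainT hM)

end Cfsg.Agent.LV.Cl
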