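import Cfsg.Agent.LV.Cl.HzA

/-!
# LV, classical groups: height zero from the boxes (helper50)
-/

set_option autoImplicit false
set_option linter.unusedSectionVars false
set_option linter.dupNamespace false

namespace Cfsg.Agent.LV.Cl

open Cfsg Cfsg.Agent.DL Cfsg.Agent.DL.PP Cfsg.Agent.KZ.Lie Cfsg.Agent.Tits.Core Cfsg.Agent.LV.Blk Cfsg.Agent.LV.Lab Finset

section fine

variable {n : ℕ} {g : SG n} {T : Finset (Fin n)}

theorem mem_cyc {π : Equiv.Perm (Fin n)} {x y : Fin n} : y ∈ cyc π x ↔ π.SameCycle x y := by simp [cyc]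

theorem apply_mem_cyc {π : Equiv.Perm (Fin n)} {x y : Fin n} : π y ∈ cyc π x ↔ y ∈ cyc π x := by
  rw [mem_cyc, mem_cyc, Equiv.Perm.sameCycle_apply_right]

/-- an odd or negative cycle gives an odd element in the centraliser -/
theorem exists_odd {x : Fin n} (h : cyc g.π x ⊆ T) (h' : Odd #(cyc g.π x) ∨ ∏ j ∈ cyc g.π x, g.s j = -1) :
    ∃ o ∈ On T, sgn o = -1 ∧ Commute o g := by
  rcases h' with h' | h'
  · refine ⟨⟨1, fun j => if j ∈ cyc g.π x then -1 else 1⟩, fun j hj => ⟨rfl, if_neg fun e => hj (h e)⟩, ?_, SG.ext ?_ ?_⟩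
    · show ∏ j, (if j ∈ cyc g.π x then -1 else 1) = -1
      rw [prod_ite_mem, univ_inter, prod_const, h'.neg_one_pow]
    · simp
    · funext j
      simp [apply_mem_cyc, mul_comm]
  · have h1 : ∀ j, g.π.cycleOf x j = if j ∈ cyc g.π x then g.π j else j := fun j => by
      simp only [Equiv.Perm.cycleOf_apply, mem_cyc]
    refine ⟨⟨g.π.cycleOf x, fun j => if j ∈ cyc g.π x then g.s j else 1⟩, fun j hj => ⟨(h1 j).trans (if_neg fun e => hj (h e)),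
      if_neg fun e => hj (h e)⟩, ?_, SG.ext ?_ ?_⟩
    · show ∏ j, (if j ∈ cyc g.π x then g.s j else 1) = -1
      rw [prod_ite_mem, univ_inter, h']
    · ext j
      simp only [mul_π, Equiv.Perm.mul_apply, h1, apply_mem_cyc]
      split_ifs <;> rfl
    · funext j
      simp only [mul_s, h1, apply_mem_cyc]
      split_ifs <;> simp

theorem HasTy.odd {L : List (ℕ × ℤˣ)} (h : HasTy g T L) (hL : ∃ c ∈ L, Odd c.1 ∨ c.2 = -1) :
    ∃ o ∈ On T, sgn o = -1 ∧ Commute o g := by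
  induction L generalizing T with
  | nil => simp at hL
  | cons c L ih =>
    obtain ⟨x, -, h1, h2, h3, h4⟩ := h
    obtain ⟨c', h5, h6⟩ := hL
    rcases List.mem_cons.1 h5 with rfl | h5
    · exact exists_odd h1 (by rwa [h2, h3])
    · obtain ⟨o, h7, h8⟩ := ih h4 ⟨c', h5, h6⟩
      exact ⟨o, fun j hj => h7 j fun e => hj (mem_sdiff.1 e).1, h8⟩

set_option synthInstance.maxSize 2000 in
theorem syl_chk : ∀ d ∈ [1, 2, 4], ∀ b : Bool, ∀ n ≤ 10, ∀ ε : ℤˣ, 2 ≤ n → syl d b n ε ≠ [] ∧ ∀ L ∈ syl d b n ε,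
    (∀ c ∈ L, 0 < c.1) ∧ (L.map fun c => c.1).sum = n ∧ (b = false → (L.map fun c => c.2).prod = ε) ∧
      ∃ c ∈ L, Odd c.1 ∨ c.2 = -1 := by decide +kernel

theorem sum_delta {α : Type} [DecidableEq α] [BEq α] [LawfulBEq α] (l : List α) (x : α) (h : α → ℂ) :
    (l.map fun i => (if i = x then 1 else 0) * h i).sum = l.count x * h x := by
  induction l with
  | nil => simp
  | cons y l ih =>
    rw [List.map_cons, List.sum_cons, ih, List.count_cons]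
    by_cases e : y = x <;> simp [e, add_mul, add_comm]

theorem bad_chk : ∀ n ∈ [5, 10], ∀ β ∈ bad n, (bips n).count (vc, β) = 1 ∧ (bips n).count (β, vc) = 1 := by decide +kernel

end fine

variable {p : ℕ} [Fact p.Prime] {k : Type} [Field k] [CharP k p] {Y : Type} [Group Y] {N : Type} [Fintype N]
  [DecidableEq N] {ρ : Y →* GL N k} {F : MulAut Y} {G : Subgroup Y} [IsAlgClosed k] {D : Datum p ρ F G}
  [Fintype ↥(GF F G)] {n q d : ℕ} {b : Bool} (f : Fr D) {c : Lbl D} {w : D.W} {M : Ideal AlgInt}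

theorem Od.mem (h : Od d q) : d ∈ [1, 2, 4] := by rcases h with h | h | h <;> simp [h.1]

theorem ord_eq (hO : BoxOrd) (Φ : Fm D n b q) {L : List (ℕ × ℤˣ)} (h : HasTy (Φ.E.g w) univ L) :
    ordT D w = (L.map fun c : ℕ × ℤˣ => (q : ℤ) ^ c.1 - (c.2 : ℤ)).prod.natAbs := by
  rw [hO Φ w L h, ← Int.natAbsHom_apply, map_list_prod, List.map_map]
  rfl

theorem prime5 : Prime (5 : ℤ) := Int.prime_iff_natAbs_prime.2 Nat.prime_five

theorem kill (hM : IsPModular 5 M) (hp : 5 ≠ p) (hS : SylT D 5 w) {χ : IrrCharacter ↥(GF F G)}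
    (hχ : χ ∈ principalBlock M ↥(GF F G)) (hd : 5 ∣ charDegree (χ : GF F G → ℂ)) {t z : ℤ} (h : mL f 5 w 1 χ = (t * z : ℤ))
    (ht : ¬ 5 ∣ t) (hz : 5 ∣ z → z = 0) : False :=
  (prin f hM hp hS hχ h).1 (by
    rw [hz ((prime5.dvd_or_dvd ((prin_dvd_iff f hM hp hS hχ h).1 hd)).resolve_left ht),
      mul_zero])

/-- the bad characters -/
structure Bad (Φ : Fm D n b q) (χ : GF F G → ℂ) (β : List ℕ) (σ : ℤˣ) : Prop where
  half : 1 / 2 < Lab.nr f χ 1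
  yv : ∀ u, yv f χ 1 u = ((σ : ℤ) * phi univ (vc, β) (Φ.E.g u) : ℤ)
  mL : ∀ u, mL f 5 u 1 χ = ((σ : ℤ) * phi univ (vc, β) (Φ.E.g u) : ℤ)

section

variable (hMN : BoxMN) (hCj : BoxConj) (hC : BoxChainT) (hP : BoxPeel) (hG : BoxGood) (hL : BoxLab) (hO : BoxOrd)
  (Φ : Fm D n b q) (hp : 5 ≠ p) (ho : Od d q) (hr : Rg d b n (sgn Φ.E.τ)) (hS : ∀ w, Φ.Sy d w → SylT D 5 w)
  (hM : IsPModular 5 M)

include hCj ho in
theorem exists_sy {L : List (ℕ × ℤˣ)} (h : L ∈ syl d b n (sgn Φ.E.τ)) : ∃ u, HasTy (Φ.E.g u) univ L ∧ Φ.E.Fine n u := by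
  obtain ⟨h1, h2, h3, h4⟩ := (syl_chk d ho.mem b n Φ.E.ten _ Φ.E.two).2 L h
  obtain ⟨u, hu⟩ := exists_ty hCj Φ h1 h2 h3
  exact ⟨u, hu, fun _ _ => Tk_self n ▸ hu.odd h4⟩

include hMN hP hL ho hr in
theorem others {χ : GF F G → ℂ} (hχ : IsIrrCharacter _ χ) (h : 1 / 2 < Lab.nr f χ c) (hw : Φ.Sy d w) (c' : Lbl D)
    (hc' : IsL 5 c') (hn : ¬ Cj D c c') : yv f χ c' w = 0 := by_contra fun e => by
  obtain ⟨_, _, _, _, _, -, -, -, -, -, h1, -⟩ := step f hMN hP hL Φ ho hr hχ hw hc' (by_contra fun e' => e (yv_zero f χ e'))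
  exact hn (cj_of_half f hχ h (h1 e).le)

include hMN hCj hC hP hG hL hO hp ho hr hS hM in
theorem exists_bad {χ : IrrCharacter ↥(GF F G)} (hχ : χ ∈ principalBlock M ↥(GF F G)) (hd : 5 ∣ charDegree (χ : GF F G → ℂ)) :
    b = false ∧ ((n = 5 ∧ d ≠ 4) ∨ n = 10) ∧ ∃ β ∈ bad n, ∃ σ, Bad f Φ χ β σ := by
  obtain ⟨L₀, h0⟩ := List.exists_mem_of_ne_nil _ (syl_chk d ho.mem b n Φ.E.ten (sgn Φ.E.τ) Φ.E.two).1
  obtain ⟨w₀, h1, -⟩ := exists_sy hCj Φ ho h0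
  have hw₀ : Φ.Sy d w₀ := ⟨_, h0, h1⟩
  obtain ⟨c, h2, h3, h4⟩ := prin_meets f hM hp (hS _ hw₀) hχ
  obtain ⟨j, ε, a, m, c', e1, e2, e3, e4, e5, e6, e7, e8⟩ := step f hMN hP hL Φ ho hr χ.2 hw₀ h3 h2
  have h5 := e6 h4
  have hn : #(univ : Finset (Fin n)) = n := by simp
  by_cases hc : c = 1
  swap
  · exfalso
    obtain ⟨L, g1, g2⟩ := (hG d b j ε a e2 (fun _ => e3) e4).resolve_right fun h => h.2.2.1.elim (e7 hc).1 (e7 hc).2
    obtain ⟨u, g3, g4, z, g5, g6⟩ := e8 L g1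
    obtain ⟨t, g7, g8⟩ := mL_unit f χ.1 (e1.isL h3)
      (others f hMN hP hL Φ ho hr χ.2 (nr_cj f χ.1 e1 ▸ h5) g3) g4
    refine kill f hM hp (hS u g3) hχ hd (t := t * m) (z := z) (by rw [g8, g6]; push_cast; ring) (fun h => ?_) (g2 z g5)
    rcases prime5.dvd_or_dvd h with h | h
    · exact (hS u g3).not_dvd Nat.prime_five ((Int.natCast_dvd_natCast.1 h).trans g7)
    · exact e5 h
  subst hc
  obtain ⟨a, g1, g2, g3, g4⟩ := step_one f hC Φ χ.2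
  have g5 : ∀ u L, HasTy (Φ.E.g u) univ L → SylT D 5 u → mL f 5 u 1 χ = cf univ a (Φ.E.g u) → ¬ Gd n a L :=
    fun u L k1 k2 k3 k4 => by
      obtain ⟨z, hz⟩ := mL_int f (l := 5) (fx_one u) (Uni.gen_of_irr χ.2)
      refine kill f hM hp k2 hχ hd (t := 1) (z := z) (by rw [hz, one_mul]) (by decide) (k4 z ?_)
      rw [← hz, k3, cf_eq hMN (hn.symm ▸ Φ.E.ten) k1, hn]
  rcases hG d b n _ a hr (fun _ e => absurd Φ.E.two (by omega)) g1 with ⟨L, k1, k2⟩ | ⟨hb, k1, k2, k3⟩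
  · obtain ⟨u, k3, k4⟩ := exists_sy hCj Φ ho k1
    refine (g5 u L k3 (hS u ⟨_, k1, k3⟩) ?_ k2).elim
    rw [mL_uni f _ fun c' k5 k6 => others f hMN hP hL Φ ho hr χ.2 h5 ⟨_, k1, k3⟩ c' k5 fun e => k6 e.eq_one, g3 u k4]
  have g6 : ∀ u, mL f 5 u 1 χ = yv f χ 1 u := fun u => mL_uni f _ fun c' _ k6 => (nr_eq_zero f _).1 (by
    have := nr_add_le f χ.2 (c := 1) (c' := c') fun e => k6 e.eq_one
    exact le_antisymm (by linarith) (nr_nonneg f _ _)) u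
  refine ⟨hb, k2, ?_⟩
  rcases k3 with ⟨rfl, k3⟩ | ⟨β, k3, σ, k4⟩
  · exfalso
    subst hb
    obtain ⟨rfl, hε⟩ : d = 4 ∧ sgn Φ.E.τ = 1 := by
      rcases hr with ⟨-, h | h⟩ | ⟨-, h | h⟩ | ⟨h', h | h⟩ <;> first | omega | exact ⟨h', h.2.2⟩
    obtain ⟨u, hu⟩ := exists_ty hCj Φ (L := Lx) (by decide) (by decide) fun _ => by rw [hε]; decide
    have k5 : List.replicate 4 (2, -1) ++ [(1, -1), (1, -1)] ∈ syl 4 false 10 (sgn Φ.E.τ) := by rw [hε]; decide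
    obtain ⟨u', k6, -⟩ := exists_sy hCj Φ ho k5
    refine g5 u Lx hu (le_antisymm ?_ (fact_T_le 5 u)) (by rw [g6, g4 k1]) k3
    have k7 : ¬ 5 ∣ q + 1 := by rcases ho with h | h | h <;> omega
    have k8 : ordT D u' ∣ ordT D u * (q + 1) := by
      rw [ord_eq hO Φ k6, ord_eq hO Φ hu, ← Int.natAbs_natCast (q + 1), ← Int.natAbs_mul, Int.natAbs_dvd_natAbs]
      exact ⟨q - 1, by simp [Lx, List.replicate]; ring⟩
    have k9 := (Nat.factorization_le_iff_dvd (ordT_ne u') (mul_ne_zero (ordT_ne u) q.succ_ne_zero)).2 k8 5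
    rwa [Nat.factorization_mul (ordT_ne u) q.succ_ne_zero, Finsupp.add_apply, Nat.factorization_eq_zero_of_not_dvd k7,
      add_zero, ← hS u' ⟨_, k5, k6⟩] at k9
  have g7 : ∀ u, yv f χ 1 u = ((σ : ℤ) * phi univ (vc, β) (Φ.E.g u) : ℤ) := fun u => by
    obtain ⟨k5, k6⟩ := bad_chk n (by rcases k2 with h | h <;> simp [h]) β k3
    have k7 : phi univ (β, vc) (Φ.E.g u) = _ := (hMN univ (Φ.E.g u) (hn.symm ▸ Φ.E.ten) fun x => by simp).2.2.2.2.1 (vc, β)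
    have k8 : ∏ j, (Φ.E.g u).s j = sgn Φ.E.τ := by
      show sgn (Φ.E.emb u * Φ.E.τ) = _
      rw [map_mul, Φ.E.even hb, one_mul]
    have k9 : ((sgn Φ.E.τ : ℤ) : ℂ) * ((sgn Φ.E.τ : ℤ) : ℂ) = 1 := by
      rw [← Int.cast_mul, ← Units.val_mul, Int.units_mul_self]; simp
    rw [g4 k1, cf, hn, List.map_congr_left (g := fun i => (if i = (vc, β) then 1 else 0) * (((σ : ℤ) : ℂ) / 2 * phi univ i (Φ.E.g u)) +
      (if i = (β, vc) then 1 else 0) * (((σ : ℤ) : ℂ) / 2 * ((sgn Φ.E.τ : ℤ) : ℂ) * phi univ i (Φ.E.g u))) fun i hi => by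
        rw [k4 i hi]; split_ifs <;> ring, List.sum_map_add, sum_delta, sum_delta, k5, k6, k7, k8]
    push_cast
    linear_combination (((σ : ℤ) : ℂ) / 2 * phi univ (vc, β) (Φ.E.g u)) * k9
  exact ⟨β, k3, σ, h5, g7, fun u => (g6 u).trans (g7 u)⟩

include f hMN hCj hC hP hG hL hO hp ho hr hS hM in
theorem hz_cub {L₀ L₁ L₃ : List (ℕ × ℤˣ)} {κ : ℤ} (h0 : L₀ ∈ syl d b n (sgn Φ.E.τ))
    (h1 : ∀ L ∈ [L₁, L₃], (∀ c ∈ L, 0 < c.1) ∧ (L.map fun c => c.1).sum = n ∧ (L.map fun c => c.2).prod = sgn Φ.E.τ)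
    (h2 : (L₀.map fun c : ℕ × ℤˣ => (q : ℤ) ^ c.1 - (c.2 : ℤ)).prod ∣ (L₁.map fun c : ℕ × ℤˣ => (q : ℤ) ^ c.1 - (c.2 : ℤ)).prod ^ 2)
    (hκ : ¬ 5 ∣ κ) (h3 : ∀ β ∈ bad n, (vc, β) ∈ bips n ∧ ∀ σ : ℤˣ, ¬ 25 ∣ σ * val L₀ (vc, β) ∧ ¬ 5 ∣ σ * val L₀ (vc, β) / 5 ∧
      5 ∣ σ * val L₁ (vc, β) * (σ * val L₁ (vc, β)) * (σ * val L₃ (vc, β)) - κ * (σ * val L₀ (vc, β) / 5)) :
    HZ0 5 M ↥(GF F G) := by
  classical
  have : Fact (Nat.Prime 5) := ⟨Nat.prime_five⟩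
  have := @Fintype.ofFinite _ (Characters.Core.finite_irr (G := ↥(GF F G)))
  have hn : #(univ : Finset (Fin n)) = n := by simp
  obtain ⟨w₀, e0, -⟩ := exists_sy hCj Φ ho h0
  have hS₀ := hS w₀ ⟨_, h0, e0⟩
  obtain ⟨w₁, e1⟩ := exists_ty hCj Φ (h1 L₁ (by simp)).1 (h1 L₁ (by simp)).2.1 fun _ => (h1 L₁ (by simp)).2.2
  obtain ⟨w₃, e3⟩ := exists_ty hCj Φ (h1 L₃ (by simp)).1 (h1 L₃ (by simp)).2.1 fun _ => (h1 L₃ (by simp)).2.2
  choose μ hμ using fun (u : D.W) (χ : IrrCharacter ↥(GF F G)) => mL_int f (l := 5) (fx_one u) (Uni.gen_of_irr χ.2)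
  let s : Finset (IrrCharacter ↥(GF F G)) := univ.filter fun χ => χ ∈ principalBlock M ↥(GF F G) ∧ 5 ∣ μ w₀ χ
  have hs : ∀ χ, χ ∈ s ↔ χ ∈ principalBlock M ↥(GF F G) ∧ 5 ∣ μ w₀ χ := fun χ => by simp [s]
  have hb : ∀ χ ∈ s, ∃ β ∈ bad n, ∃ σ, Bad f Φ χ.1 β σ := fun χ hχ =>
    (exists_bad f hMN hCj hC hP hG hL hO Φ hp ho hr hS hM ((hs χ).1 hχ).1
      ((prin_dvd_iff f hM hp hS₀ ((hs χ).1 hχ).1 (hμ w₀ χ)).2 ((hs χ).1 hχ).2)).2.2
  choose! β hβ σ hσ using hb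
  have hv : ∀ χ ∈ s, ∀ u L, HasTy (Φ.E.g u) univ L → μ u χ = σ χ * val L (vc, β χ) := fun χ hχ u L hu => by
    have := (hμ u χ).symm.trans ((hσ χ hχ).mL u)
    rw [(hMN univ _ (hn.symm ▸ Φ.E.ten) hu.stab).2.1 L hu _ (hn.symm ▸ (h3 _ (hβ χ hχ)).1)] at this
    exact_mod_cast this
  have h4 : (Nat.card ↥(GF F G)).factorization 5 ≤ (ordT D w₁).factorization 5 + (ordT D w₁).factorization 5 := by
    rw [hS₀, ← Finsupp.add_apply, ← Nat.factorization_mul (ordT_ne w₁) (ordT_ne w₁)]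
    refine (Nat.factorization_le_iff_dvd (ordT_ne w₀) (mul_ne_zero (ordT_ne w₁) (ordT_ne w₁))).2 ?_ 5
    rwa [ord_eq hO Φ e0, ord_eq hO Φ e1, ← Int.natAbs_mul, Int.natAbs_dvd_natAbs, ← sq]
  have h5 := cub f hM hp hS₀ (fx_one w₁) (fx_one w₁) (fx_one w₃) h4 (hμ w₀) (hμ w₁) (hμ w₁) (hμ w₃) one_ne_zero
    (fun χ hχ hd => by
      have hχ' := (hs χ).2 ⟨hχ, Dvd.dvd.trans (by norm_num) hd⟩
      rw [hv χ hχ' _ _ e0] at hd
      exact ((h3 _ (hβ χ hχ')).2 (σ χ)).1 hd) (s := s) fun χ => by simpa using hs χ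
  rw [sum_congr rfl (g := fun _ => (κ : ZMod 5)) fun χ hχ => ?_, sum_const, nsmul_eq_mul, mul_eq_zero] at h5
  swap
  · obtain ⟨-, g1, g2⟩ := (h3 _ (hβ χ hχ)).2 (σ χ)
    rw [hv χ hχ _ _ e0, hv χ hχ _ _ e1, hv χ hχ _ _ e3, pow_one, Nat.cast_ofNat,
      mul_inv_eq_iff_eq_mul₀ fun e => g1 ((ZMod.intCast_zmod_eq_zero_iff_dvd _ 5).1 e), ← sub_eq_zero]
    exact_mod_cast (ZMod.intCast_zmod_eq_zero_iff_dvd _ 5).2 g2
  have h6 : 5 ∣ #s := (ZMod.natCast_eq_zero_iff _ 5).1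
    (h5.resolve_right fun e => hκ ((ZMod.intCast_zmod_eq_zero_iff_dvd _ 5).1 e))
  have h7 : #s ≤ 4 := by
    refine (card_le_card_of_injOn β (t := (bad n).toFinset) (fun χ hχ => by simpa using hβ χ hχ) fun χ hχ ψ hψ e => ?_).trans
      ((List.toFinset_card_le _).trans (by unfold bad; split_ifs <;> simp))
    by_contra hne
    refine absurd (uniq f χ.2 ψ.2 (fun e' => hne (Subtype.ext e')) (ε := ((σ χ * σ ψ : ℤˣ) : ℤ)) (c := 1)
      (by rcases Int.units_eq_one_or (σ χ * σ ψ) with h | h <;> simp [h]) fun u => ?_) (not_le.2 (hσ χ hχ).half)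
    rw [(hσ χ hχ).yv, (hσ ψ hψ).yv, e, ← Int.cast_mul, ← mul_assoc, ← Units.val_mul, mul_assoc, Int.units_mul_self, mul_one]
  have h8 : s = ∅ := card_eq_zero.1 (by omega)
  refine hz_of_mL f hM hp hS₀ fun χ m hχ hm _ hd => ?_
  have h9 : m = μ w₀ χ := by exact_mod_cast hm.symm.trans (hμ w₀ χ)
  exact notMem_empty χ (h8 ▸ (hs χ).2 ⟨hχ, h9 ▸ hd⟩)

end

/-- **Height zero** for the classical data of small rank. -/
theorem boxHZ_of (hMN : BoxMN) (hCj : BoxConj) (hC : BoxChainT) (hP : BoxPeel) (hG : BoxGood) (hL : BoxLab) (hO : BoxOrd) :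
    BoxHZ := by
  intro p _ k _ _ Y _ N _ _ ρ F G _ D _ n b q d Φ hp ho hr hS M hM χ hχ hd
  obtain ⟨f⟩ := nonempty_fr D
  obtain ⟨rfl, h, -⟩ := exists_bad f hMN hCj hC hP hG hL hO Φ hp ho hr hS hM hχ hd
  revert χ
  rcases h with ⟨rfl, h⟩ | rfl
  · rcases id hr with ⟨rfl, h' | h'⟩ | ⟨rfl, h' | h'⟩ | h'
    · omega
    · exact hz_cub f hMN hCj hC hP hG hL hO Φ hp ho hr hS hM (L₀ := [(1, 1), (1, 1), (1, 1), (1, 1), (1, -1)])
        (L₁ := [(2, 1), (2, 1), (1, -1)]) (L₃ := [(2, 1), (2, 1), (1, -1)]) (κ := 1) (by rw [h'.2.2]; decide)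
        (by rw [h'.2.2]; decide) ⟨(q + 1) ^ 5, by simp; ring⟩ (by decide) (by decide +kernel)
    · omega
    · exact hz_cub f hMN hCj hC hP hG hL hO Φ hp ho hr hS hM (L₀ := [(1, -1), (1, -1), (1, -1), (1, -1), (1, 1)])
        (L₁ := [(2, 1), (2, 1), (1, 1)]) (L₃ := [(2, 1), (2, 1), (1, 1)]) (κ := 1) (by rw [h'.2.2]; decide)
        (by rw [h'.2.2]; decide) ⟨(q - 1) ^ 5, by simp; ring⟩ (by decide) (by decide +kernel)
    · exact absurd h'.1 h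
  · obtain ⟨rfl, hε⟩ : d = 4 ∧ sgn Φ.E.τ = 1 := by
      rcases hr with ⟨-, h | h⟩ | ⟨-, h | h⟩ | ⟨h', h | h⟩ <;> first | omega | exact ⟨h', h.2.2⟩
    exact hz_cub f hMN hCj hC hP hG hL hO Φ hp ho hr hS hM (L₀ := [(2, -1), (2, -1), (2, -1), (2, -1), (1, -1), (1, -1)])
      (L₁ := [(3, -1), (3, -1), (2, -1), (2, -1)]) (L₃ := [(3, -1), (3, -1), (1, 1), (1, 1), (1, 1), (1, 1)]) (κ := 3)
      (by rw [hε]; decide) (by rw [hε]; decide) ⟨(q + 1) ^ 2 * (q ^ 2 - q + 1) ^ 4, by simp; ring⟩ (by decide)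
      (by decide +kernel)

end Cfsg.Agent.LV.Cl
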