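import Cfsg.Agent.LV.Cl.LabA

/-!
# LV, classical groups: the normal form of a label (helper21)

`boxLab : BoxLab`.
-/

set_option autoImplicit false
set_option linter.unusedSectionVars false
set_option linter.dupNamespace false

namespace Cfsg.Agent.LV.Cl.Lb

open Equiv Finset Cj

section Pure

variable {n d q : ℕ} {g : SG n} {T : Finset (Fin n)} {x : Fin n → ℂˣ}

theorem exists_nm (h5 : ∃ k, x ^ 5 ^ k = 1) :
    ∃ (h : SG n) (x' : Fin n → ℂˣ) (T : Finset (Fin n)), Rl h x x' ∧ Nm x' T ∧ (x = 1 → sgn h = 1) := by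
  classical
  obtain ⟨k, hk⟩ := h5
  obtain ⟨_, -⟩ := exists_wellFoundedLT ℂˣ
  let s : Fin n → ℤˣ := fun i => if x i ≤ (x i)⁻¹ then 1 else -1
  let y : Fin n → ℂˣ := fun i => x i ^ (s i : ℤ)
  have h1 : ∀ i, y i ^ 5 ^ k = 1 := fun i => by
    rw [← zpow_natCast, ← zpow_mul, mul_comm, zpow_mul, zpow_natCast, show x i ^ 5 ^ k = 1 from congrFun hk i, one_zpow]
  have h2 : ∀ i, y i ≤ (y i)⁻¹ := fun i => by
    simp only [y, s]
    split_ifs with c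
    · simpa using c
    · simpa using le_of_not_ge c
  refine ⟨⟨1, s⟩, y, univ.filter fun i => y i = 1, fun j => ?_, ⟨⟨k, funext h1⟩, fun i => by simp, fun i j hi e => hi ?_⟩, fun e => ?_⟩
  · show (x j ^ (s j : ℤ)) ^ (s j : ℤ) = x j
    rw [← zpow_mul, ← Units.val_mul, Int.units_mul_self, Units.val_one, zpow_one]
  · have h3 := h2 j
    rw [eq_inv_of_mul_eq_one_right e, inv_inv] at h3
    refine mem_filter.2 ⟨mem_univ _, eq_one_of_five (h1 i) (m := 2) (by decide) ?_⟩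
    rw [zpow_two]
    exact mul_eq_one_iff_eq_inv.2 (le_antisymm (h2 i) h3)
  · refine (Ey.sgn_apply _).trans (prod_eq_one fun i _ => if_pos ?_)
    rw [e, Pi.one_apply, inv_one]

theorem upper_eq (h : ∀ y z : Fin n, y ≤ z → y ∈ T → z ∈ T) : T = Tk n #T := by
  ext y
  rw [Ey.mem_Tk]
  refine ⟨fun hy => ?_, fun hy => by_contra fun h1 => ?_⟩
  · have h1 : #(Ici y) ≤ #T := card_le_card fun z hz => h y z (mem_Ici.1 hz) hy
    rw [Fin.card_Ici] at h1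
    omega
  · have h2 : #T ≤ #(Ioi y) := card_le_card fun z hz => mem_Ioi.2 (lt_of_not_ge fun e => h1 (h z y e hz))
    rw [Fin.card_Ioi] at h2
    have := y.2
    omega

/-- sorted coordinates -/
structure Srt (x : Fin n → ℂˣ) (g : SG n) (j : ℕ) (f : Fin n → ℕ) : Prop where
  le : j ≤ n
  nm : Nm x (Tk n j)
  cls : ∀ y z, y ∉ Tk n j → z ∉ Tk n j → (f y = f z ↔ x y = x z)
  mono : Monotone f
  inc : ∀ y z, y ∉ Tk n j → x y = x z → y < z → g.π y < g.π z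

theorem exists_srt (H : Nm x T) (hd : Od d q) (hg : Fq q g x) (ha : ∀ i, Al d (cty g i)) :
    ∃ (h : SG n) (x' : Fin n → ℂˣ) (j : ℕ) (f : Fin n → ℕ), sgn h = 1 ∧ Rl h x x' ∧ Srt x' (h * g * h⁻¹) j f := by
  classical
  let κ : ℂˣ → ℕ := fun a => if a = 1 then n else if h : ∃ j, x j = a then h.choose else 0
  have k1 : ∀ i, κ (x i) < n ↔ i ∉ T := fun i => by
    rw [← H.one]
    simp only [κ]
    split_ifs with c1 c2
    · simp [c1]
    · exact iff_of_true (Fin.is_lt _) c1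
    · exact absurd ⟨i, rfl⟩ c2
  have k2 : ∀ i j, i ∉ T → j ∉ T → κ (x i) = κ (x j) → x i = x j := fun i j hi hj e => by
    have c1 : ∃ a, x a = x i := ⟨i, rfl⟩
    have c2 : ∃ a, x a = x j := ⟨j, rfl⟩
    simp only [κ, if_neg (mt (H.one i).1 hi), if_neg (mt (H.one j).1 hj), dif_pos c1, dif_pos c2] at e
    rw [← c1.choose_spec, Fin.ext e, c2.choose_spec]
  let o : Fin n → Fin n := fun i => min i (g.π i)
  have i1 := H.invol hd hg ha
  have o1 : ∀ i, o (g.π i) = o i := fun i => by simp only [o, i1, min_comm]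
  let key : Fin n → ℕ ×ₗ Fin n := fun i => toLex (κ (x i), o i)
  let σ := Tuple.sort key
  have m1 : ∀ y z, y ≤ z → κ (x (σ y)) < κ (x (σ z)) ∨ (κ (x (σ y)) = κ (x (σ z)) ∧ o (σ y) ≤ o (σ z)) := fun y z e =>
    Prod.Lex.toLex_le_toLex.1 (Tuple.monotone_sort key e)
  have m2 : Monotone fun y => κ (x (σ y)) := fun y z e => (m1 y z e).elim le_of_lt fun h => h.1.le
  let T' : Finset (Fin n) := {y | σ y ∈ T}
  have t1 : ∀ y, y ∈ T' ↔ σ y ∈ T := fun y => by simp [T']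
  have t2 : T' = Tk n #T' := upper_eq fun y z e hy => (t1 z).2 (by_contra fun hz =>
    (k1 _).1 ((m2 e).trans_lt ((k1 _).2 hz)) ((t1 y).1 hy))
  have t3 : ∀ y, y ∈ Tk n #T' ↔ σ y ∈ T := fun y => by rw [← t2, t1]
  refine ⟨Ey.pm σ⁻¹, fun y => x (σ y), #T', fun y => κ (x (σ y)), Ey.sgn_pm _, fun j => ?_,
    (card_le_univ _).trans (Fintype.card_fin n).le, ⟨H.five.imp fun k hk => funext fun y => congrFun hk (σ y),
      fun y => by rw [t3, H.one], fun y z hy => H.inv _ _ (mt (t3 y).2 hy)⟩,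
    fun y z hy hz => ⟨k2 _ _ (mt (t3 y).2 hy) (mt (t3 z).2 hz), congrArg κ⟩, m2, fun y z hy e hyz => ?_⟩
  · show x (σ (σ⁻¹ j)) ^ ((1 : ℤˣ) : ℤ) = x j
    rw [self_inv, Units.val_one, zpow_one]
  · show σ⁻¹ (g.π (σ y)) < σ⁻¹ (g.π (σ z))
    have hy' : σ y ∉ T := mt (t3 y).2 hy
    have hz' : σ z ∉ T := by rwa [← H.one, ← e, H.one]
    refine lt_of_not_ge fun c => hyz.ne (σ.injective ?_)
    have c1 := m1 _ _ c
    have c2 := m1 _ _ hyz.le
    rw [self_inv, self_inv, (H.det (not_dvd hd) hg hg hy' e).1, o1, o1] at c1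
    rw [e] at c2
    have c3 := le_antisymm (c2.resolve_left (lt_irrefl _)).2 (c1.resolve_left (lt_irrefl _)).2
    have c4 : σ y = g.π (σ z) → σ y = σ z := fun e1 => e1.trans (H.sep hd hg ha hz' (e1 ▸ e))
    simp only [o] at c3
    rcases min_choice (σ y) (g.π (σ y)) with a1 | a1 <;> rcases min_choice (σ z) (g.π (σ z)) with a2 | a2 <;>
      rw [a1, a2] at c3
    · exact c3
    · exact c4 c3
    · exact c4 (by rw [← c3, i1])
    · exact g.π.injective c3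

/-- the classes are small -/
theorem small (H : Nm x T) (hd : Od d q) (hg : Fq q g x) (ha : ∀ i, Al d (cty g i)) (hc : #Tᶜ ≤ 4 * (gam d).1)
    {C : Finset (Fin n)} (h1 : ∀ y ∈ C, y ∉ T) (h2 : ∀ y ∈ C, ∀ z ∈ C, x y = x z) : #C < 5 := by
  have h3 : C ⊆ Tᶜ := fun y hy => mem_compl.2 (h1 y hy)
  by_cases h4 : d = 4
  · have h5 : C.map g.π.toEmbedding ⊆ Tᶜ := fun y hy => by
      obtain ⟨z, hz, rfl⟩ := mem_map.1 hy
      exact mem_compl.2 (mt (H.stab (not_dvd hd) hg z).1 (h1 z hz))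
    have h6 : Disjoint C (C.map g.π.toEmbedding) := disjoint_left.2 fun y hy hy' => by
      obtain ⟨z, hz, rfl⟩ := mem_map.1 hy'
      exact H.ne_four hd hg ha (h1 z hz) (h2 _ hy z hz) h4
    have h7 := card_le_card (union_subset h3 h5)
    rw [card_union_of_disjoint h6, card_map] at h7
    rw [h4, show (gam 4).1 = 2 from rfl] at hc
    omega
  · have h5 : (gam d).1 = 1 := by
      rcases hd with h | h | h
      · rw [h.1]; rfl
      · rw [h.1]; rfl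
      · exact absurd h.1 h4
    have h6 := card_le_card h3
    omega

end Pure

open Cfsg.Agent.DL Cfsg.Agent.DL.PP Cfsg.Agent.KZ.Lie Cfsg.Agent.Tits.Core Cfsg.Agent.LV.Blk Cfsg.Agent.LV.Lab

variable {p : ℕ} [Fact p.Prime] {k : Type} [Field k] [CharP k p] {Y : Type} [Group Y] {N : Type} [Fintype N]
  [DecidableEq N] {ρ : Y →* GL N k} {F : MulAut Y} {G : Subgroup Y} [IsAlgClosed k] {D : Datum p ρ F G}
  {n : ℕ} {b : Bool} {q d : ℕ}

theorem sy_al (Φ : Fm D n b q) (hd : Od d q) {w : D.W} (h : Φ.Sy d w) (i : Fin n) : Al d (cty (Φ.E.g w) i) := by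
  obtain ⟨L, hL, h1⟩ := h
  exact (syl_al' d (od_mem hd) b n (List.mem_range.2 (Nat.lt_succ_of_le Φ.E.ten)) _ (unit_mem _) L hL _
    (cty_mem h1 (mem_univ i))).2

theorem sgn_g (Φ : Fm D n b q) (hb : b = false) (w : D.W) : sgn (Φ.E.g w) = sgn Φ.E.τ := by
  rw [Em.g, map_mul, Φ.E.even hb, one_mul]

theorem fus_of (Φ : Fm D n b q) (hd : Od d q) {w : D.W} {c : Lbl D} {T : Finset (Fin n)} (H : Nm (Φ.co c) T)
    (hs : Φ.Sy d w) (hx : Fx D w c) : Fus D w c := fun w' v h1 h2 => by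
  obtain ⟨u, h3, h4, h5⟩ := H.fus hd (Φ.fx_iff.1 hx) (sy_al Φ hd hs) (Φ.fx_iff.1 h1) (Φ.tc_iff.1 h2)
  obtain ⟨u, rfl⟩ := Φ.E.surj u fun _ => h3
  exact ⟨u, Φ.rel_iff.2 h4, Φ.tc_iff.2 h5⟩

theorem fine_of (Φ : Fm D n b q) (hd : Od d q) {w : D.W} {j : ℕ} (hs : Φ.Sy d w) (h : Stab (Tk n j) (Φ.E.g w).π) :
    Φ.E.Fine j w := fun _ hj => fine h (Φ.E.lst_mem hj) (sy_al Φ hd hs _)

/-- the conclusions for a sorted label -/
theorem core (Φ : Fm D n b q) (hd : Od d q) (hr : Rg d b n (sgn Φ.E.τ)) {w : D.W} {c : Lbl D} (hs : Φ.Sy d w)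
    (hx : Fx D w c) {j : ℕ} {f : Fin n → ℕ} (S : Srt (Φ.co c) (Φ.E.g w) j f) :
    (j = n ↔ c = 1) ∧ St D c = WJ D.cs (Φ.E.K j f ∪ Φ.E.J j) ∧ Φ.E.NF 5 j f w ∧
      Rg d b j (Φ.E.ε j w) ∧ (c ≠ 1 → ¬ (j = 5 ∧ d ≠ 4) ∧ j ≠ 10) ∧ Φ.E.Fine j w ∧
      ∀ L ∈ syl d b j (Φ.E.ε j w), ∃ x ∈ WJ D.cs (Φ.E.J j),
        HasTy (Φ.E.g (x * w)) (Tk n j) L ∧ Φ.E.Fine j (x * w) ∧ Φ.Sy d (x * w) ∧ Fus D (x * w) c := by
  have H := S.nm
  have hg := Φ.fx_iff.1 hx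
  have ha := sy_al Φ hd hs
  have hq := not_dvd hd
  have hT := H.stab hq hg
  have hj := S.le
  have h10 := Φ.E.ten
  have h1 : j = n ↔ c = 1 := by
    rw [← Φ.co_eq_one]
    refine ⟨fun e => funext fun i => (H.one i).2 (Ey.mem_Tk.2 (by omega)), fun e => ?_⟩
    have h2 : Tk n j = univ := eq_univ_of_forall fun i => (H.one i).1 (congrFun e i)
    rw [← Ey.card_Tk hj, h2, card_univ, Fintype.card_fin]
  have hc : ∀ x y z : Fin n, x ≤ y → y ≤ z → z ∉ Tk n j → f x = f z → f y = f x := fun x y z h1 h2 _ h3 =>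
    le_antisymm (h3 ▸ S.mono h2) (S.mono h1)
  obtain ⟨m, hm⟩ := hasTy_rep (stab_compl hT) fun i hi => H.cty_eq hd hg ha (mem_compl.1 hi)
  obtain ⟨-, m1, m2⟩ := of_hasTy hm
  rw [List.map_replicate, List.prod_replicate] at m1
  rw [List.map_replicate, List.sum_replicate, smul_eq_mul, card_compl, Ey.card_Tk hj, Fintype.card_fin] at m2
  have m3 : b = false → sgn Φ.E.τ = Φ.E.ε j w * (gam d).2 ^ m := fun hb => by
    rw [← sgn_g Φ hb w, sgn_split _ (Tk n j), m1, Em.ε]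
  have m4 : j = 0 → Φ.E.ε j w = 1 := fun e => by rw [Em.ε, e, Ey.Tk_zero, prod_empty]
  have m5 := gam_pos d
  have hj' : j ∈ List.range 11 := List.mem_range.2 (by omega)
  refine ⟨h1, Subgroup.ext fun u => ?_, ⟨hT, hc, fun y hy => ?_, fun y _ => H.invol hd hg ha y, fun y z hy hz e => ?_⟩,
    ?_, fun e => ?_, fine_of Φ hd hs hT, fun L hL => ?_⟩
  · rw [Φ.mem_St, H.rl_iff, Φ.E.mem_KJ hc]
    exact and_congr_right fun h => forall_congr' fun y => forall_congr' fun hy =>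
      and_congr_left' (S.cls _ _ (mt (h y).1 hy) hy).symm
  · obtain ⟨L, hL, h2⟩ := hs
    refine small H hd hg ha ((card_le h2 (subset_univ _) fun i hi => H.cty_eq hd hg ha (mem_compl.1 hi)).trans
      (syl_cnt' d (od_mem hd) b n (List.mem_range.2 (by omega)) _ (unit_mem _) L hL hr)) (fun z hz => (mem_filter.1 hz).2.1)
      fun z hz z' hz' => (S.cls _ _ (mem_filter.1 hz).2.1 (mem_filter.1 hz').2.1).1 ?_
    rw [(mem_filter.1 hz).2.2, (mem_filter.1 hz').2.2]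
  · have e1 := (S.cls _ _ hy hz).1 e
    have e2 := H.det hq hg hg hy e1
    exact ⟨(S.cls _ _ (mt (hT y).1 hy) (mt (hT z).1 hz)).2 e2.1, e2.2, S.inc y z hy e1⟩
  · rcases hj.eq_or_lt with e | e
    · have e1 : m = 0 := (Nat.mul_eq_zero.1 (show m * (gam d).1 = 0 by omega)).resolve_right m5.ne'
      cases b
      · subst e
        rwa [m3 rfl, e1, pow_zero, mul_one] at hr
      · subst e
        simpa [Rg] using hr
    · unfold Rg at hr ⊢
      omega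
  · have e1 := mt h1.1 e
    unfold Rg at hr
    omega
  · obtain ⟨l1, l2⟩ := syl_sum' d (od_mem hd) b j hj' _ (unit_mem _) L hL m4
    obtain ⟨u, hu, h2⟩ := exists_mul hT (fun c hc => (syl_al' d (od_mem hd) b j hj' _ (unit_mem _) L hL c hc).1)
      ((Ey.card_Tk hj).trans l1.symm)
    obtain ⟨x, hx', rfl⟩ := Φ.E.exists_mem_J hu fun hb => by
      have h3 := (of_hasTy h2).2.1
      simp only [mul_s, prod_mul_distrib] at h3
      rw [l2 hb, Ey.prod_stab hT, ← Ey.sgn_On hu] at h3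
      exact mul_right_cancel (h3.trans (one_mul _).symm)
    rw [← Φ.E.g_mul] at h2
    have h3 : Φ.Sy d (x * w) := by
      have h4 := hasTy_append (hasTy_congr hm fun i hi => Φ.E.g_mul x w ▸ mul_out hu hT (mem_compl.1 hi)) h2 disjoint_compl_left
      rw [union_comm, union_compl] at h4
      refine ⟨_, ?_, h4⟩
      have h5 := syl_append' d (od_mem hd) b j hj' m (List.mem_range.2 (by
        have := Nat.le_mul_of_pos_right m m5
        omega)) _ (unit_mem _) _ (unit_mem _) m4 m3 L hL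
      rwa [show j + m * (gam d).1 = n by omega] at h5
    exact ⟨x, hx', h2, fine_of Φ hd h3 (Φ.E.stab_mul_J hT hx'), h3,
      fus_of Φ hd H h3 (hx.mul (Φ.rel_iff.2 (H.rl_iff.2 (Ey.On_le_Par _ _ hu))))⟩

theorem sy_tc (Φ : Fm D n b q) {v w w' : D.W} (h : Tc D v w w') (hs : Φ.Sy d w) : Φ.Sy d w' := by
  obtain ⟨L, hL, h1⟩ := hs
  refine ⟨L, hL, ?_⟩
  rw [Φ.tc_iff.1 h, ← map_univ_equiv (Φ.E.emb v).π]
  exact hasTy_conj _ h1

/-- the normal form in the frame `Ψ` -/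
theorem lab_of (Ψ : Fm D n b q) {w₀ : D.W} {c : Lbl D} (hx : Fx D w₀ c) {h : SG n} (hh : b = false → sgn h = 1)
    {x' : Fin n → ℂˣ} (h1 : Rl h (Ψ.co c) x') {j : ℕ} {f : Fin n → ℕ} (S : Srt x' (h * Ψ.E.g w₀ * h⁻¹) j f) :
    ∃ (v w : D.W) (c' : Lbl D), Rel D v c c' ∧ Tc D v w₀ w ∧ Fx D w c' ∧ Srt (Ψ.co c') (Ψ.E.g w) j f := by
  obtain ⟨v, rfl⟩ := Ψ.E.surj h hh
  obtain ⟨c', rfl⟩ := Ψ.co_surj x'
  exact ⟨v, v * w₀ * (D.Fw v)⁻¹, c', Ψ.rel_iff.2 h1, inv_mul_cancel_right _ _, hx.rel (Ψ.rel_iff.2 h1), Ψ.E.g_conj v w₀ ▸ S⟩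

/-- the frame with the last two nodes interchanged -/
noncomputable def flp (Φ : Fm D n false q) : Fm D n false q :=
  Φ.cj Φ.E.flip (tt Φ.E.lst) Φ.E.flip_emb (by rw [Φ.E.tt_τ.eq, mul_inv_cancel_right]; rfl)

theorem co_cj (Φ : Fm D n b q) (E' : Em D.cs D.Fw n b) (t : SG n) (h : ∀ w, E'.emb w = t * Φ.E.emb w * t⁻¹)
    (hτ : E'.τ = t * Φ.E.τ * t⁻¹) (c : Lbl D) : Rl t (Φ.co c) ((Φ.cj E' t h hτ).co c) := fun j => by
  rw [← co_single, Φ.co_def, (Φ.cj E' t h hτ).chr_co]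
  congr 2
  show _ = Matrix.mulVec (sm t * Φ.P) _
  rw [← Matrix.mulVec_mulVec, Φ.P_P', sm_apply, KZ.Dat.spm_mulVec_single, mul_one]

theorem sy_flp (Φ : Fm D n false q) {w : D.W} : (flp Φ).Sy d w ↔ Φ.Sy d w := by
  refine exists_congr fun L => and_congr_right fun _ => ⟨fun h => ?_, fun h => ?_⟩
  · have h1 := hasTy_conj (tt Φ.E.lst)⁻¹ h
    rwa [map_univ_equiv, show (flp Φ).E.g w = _ from Φ.E.flip_g w, inv_inv, ← mul_assoc, ← mul_assoc, inv_mul_cancel, one_mul,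
      inv_mul_cancel_right] at h1
  · have h1 := hasTy_conj (tt Φ.E.lst) h
    rwa [map_univ_equiv, ← Φ.E.flip_g] at h1

theorem exists_frame (Φ : Fm D n b q) (hd : Od d q) {w₀ : D.W} {c : Lbl D} (hs : Φ.Sy d w₀) (hc : IsL 5 c) (hx : Fx D w₀ c) :
    ∃ (Ψ : Fm D n b q) (j : ℕ) (f : Fin n → ℕ) (v w : D.W) (c' : Lbl D), Ψ.E.τ = Φ.E.τ ∧ (∀ w, Ψ.Sy d w ↔ Φ.Sy d w) ∧
      (c = 1 → Ψ.E = Φ.E) ∧ Rel D v c c' ∧ Tc D v w₀ w ∧ Fx D w c' ∧ Srt (Ψ.co c') (Ψ.E.g w) j f := by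
  obtain ⟨h, x', T, h1, H, h2⟩ := exists_nm (Φ.isL_co.2 hc)
  obtain ⟨h', x'', j, f, h3, h4, S⟩ := exists_srt H hd (Fq.conj (Φ.fx_iff.1 hx) h1) (al_conj h (sy_al Φ hd hs))
  have h5 := Rl.trans h1 h4
  rw [show h' * (h * Φ.E.g w₀ * h⁻¹) * h'⁻¹ = h' * h * Φ.E.g w₀ * (h' * h)⁻¹ by group] at S
  by_cases e : b = false → sgn (h' * h) = 1
  · obtain ⟨v, w, c', r⟩ := lab_of Φ hx e h5 S
    exact ⟨Φ, j, f, v, w, c', rfl, fun _ => Iff.rfl, fun _ => rfl, r⟩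
  · obtain ⟨rfl, e2⟩ := Classical.not_imp.1 e
    obtain ⟨v, w, c', r⟩ := lab_of (flp Φ) hx (h := h' * h * (tt Φ.E.lst)⁻¹)
      (fun _ => by rw [map_mul, map_inv, Ey.sgn_tt, Int.units_ne_iff_eq_neg.1 e2, mul_inv_cancel])
      (Rl.trans (Rl.symm (co_cj Φ _ _ _ _ c)) h5) (j := j) (f := f) (by
        rw [show (flp Φ).E.g w₀ = _ from Φ.E.flip_g w₀]
        convert S using 1
        group)
    refine ⟨flp Φ, j, f, v, w, c', rfl, fun _ => sy_flp Φ, fun e1 => absurd ?_ e2, r⟩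
    rw [map_mul, h3, h2 (Φ.co_eq_one.2 e1), mul_one]

end Cfsg.Agent.LV.Cl.Lb

namespace Cfsg.Agent.LV.Cl

open Lb Cfsg.Agent.DL.PP

/-- **The normal form of a label.** -/
theorem boxLab : BoxLab := by
  intro p _ k _ _ Y _ N _ _ ρ F G _ D n b q d Φ hd hr w₀ c hs hc hx
  obtain ⟨Ψ, j, f, v, w, c', h1, h2, h3, h4, h5, h6, S⟩ := exists_frame Φ hd hs hc hx
  obtain ⟨k1, k2, k3, k4, k5, k6, k7⟩ := core Ψ hd (h1 ▸ hr) (sy_tc Ψ h5 ((h2 _).2 hs)) h6 S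
  have e : c' = 1 ↔ c = 1 :=
    ⟨fun e => eq_of_chr D fun y => by rw [← h4 y, e, map_one, map_one],
      fun e => eq_of_chr D fun y => by rw [← h4.symm y, e, map_one, map_one]⟩
  refine ⟨Ψ.E, j, f, v, w, c', h4, h5, S.le, fun e1 => e.1 (k1.1 e1), fun e1 => ⟨k1.2 (e.2 e1), h3 e1⟩, k2, k3, k4,
    fun e1 => k5 (mt e.1 e1), k6, fun L hL => ?_⟩
  obtain ⟨x, l1, l2, l3, l4, l5⟩ := k7 L hL
  exact ⟨x, l1, l2, l3, (h2 _).1 l4, l5⟩

end Cfsg.Agent.LV.Cl
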