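import Cfsg.Agent.LV.Cl.Par
import Cfsg.Agent.LV.Cl.Conj

/-!
# LV, classical groups: the Murnaghan-Nakayama rule (helper75)

* `ty_congr`, `tyO_step`, `Ph` (the characters for arbitrary tuples), `Ph_split`, `Ph_congr`, `phi_step`;
* `boxMN : BoxMN`.
-/

set_option autoImplicit false
set_option linter.unusedSectionVars false
set_option linter.dupNamespace false

namespace Cfsg.Agent.LV.Cl.MN

open Equiv Equiv.Perm Finset Cfsg.Agent.H614 Cj

theorem ty_congr {α β : Type} [Fintype α] [DecidableEq α] [Fintype β] [DecidableEq β] (e : α ≃ β) {g : Perm α} {g' : Perm β}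
    (h : ∀ x, e (g x) = g' (e x)) : ty g = ty g' := by
  have h1 : g' = g.extendDomain (e.trans (Equiv.subtypeUnivEquiv (p := fun _ => True) fun _ => trivial).symm) := by
    ext y
    obtain ⟨x, rfl⟩ := e.surjective y
    exact (h x).symm.trans (extendDomain_apply_image g (e.trans (Equiv.subtypeUnivEquiv fun _ => trivial).symm) x).symm
  rw [ty_eq, ty_eq, h1, cycleType_extendDomain, Fintype.card_congr e]

variable {n : ℕ} {π : Perm (Fin n)} {A T T' : Finset (Fin n)} {x : Fin n} {g g' : SG n}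

theorem tyO_empty (π : Perm (Fin n)) : tyO π ∅ = 0 := by
  rw [tyO]
  split_ifs
  · exact (congrArg ty (Subsingleton.elim _ 1)).trans (ty_one.trans (by simp))
  · rfl

theorem tyO_step (h : Stab A π) (hx : x ∈ A) : tyO π A = #(cyc π x) ::ₘ tyO π (A \ cyc π x) := by
  rw [tyO, dif_pos h, tyO, dif_pos (stab_sdiff h (stab_cyc π x)), ty_step _ ⟨x, hx⟩]
  congr 1
  · exact card_bij (fun y _ => y.1) (fun y hy => mem_cyc.2 (sameCycle_subtypePerm.1 (mem_filter.1 hy).2))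
      (fun _ _ _ _ => Subtype.ext) fun y hy =>
      ⟨⟨y, cyc_subset h hx hy⟩, mem_filter.2 ⟨mem_univ _, sameCycle_subtypePerm.2 (mem_cyc.1 hy)⟩, rfl⟩
  · exact ty_congr ⟨fun y => ⟨y.1.1, mem_sdiff.2 ⟨y.1.2, fun h1 => y.2 (sameCycle_subtypePerm.2 (mem_cyc.1 h1))⟩⟩,
      fun y => ⟨⟨y.1, (mem_sdiff.1 y.2).1⟩, fun h1 => (mem_sdiff.1 y.2).2 (mem_cyc.2 (sameCycle_subtypePerm.1 h1))⟩,
      fun _ => rfl, fun _ => rfl⟩ fun _ => rfl

/-- the function `phi` for arbitrary tuples -/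
noncomputable def Ph (T : Finset (Fin n)) (β γ : Fin 10 → ℕ) (g : SG n) : ℤ :=
  ∑ A ∈ T.powerset with Stab A g.π, FM (tyO g.π A) β * FM (tyO g.π (T \ A)) γ * ∏ j ∈ T \ A, (g.s j : ℤ)

theorem phi_eq (T : Finset (Fin n)) (i : Bip) (g : SG n) : phi T i g = Ph T (tp i.1) (tp i.2) g := rfl

theorem Ph_empty (β γ : Fin 10 → ℕ) (g : SG n) : Ph ∅ β γ g = vac β * vac γ := by
  rw [Ph, powerset_empty, filter_singleton, if_pos (show Stab ∅ g.π from fun _ => by simp), sum_singleton, sdiff_self, bot_eq_empty, tyO_empty,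
    prod_empty, mul_one, FM_zero, FM_zero]

theorem Ph_split (hT : Stab T g.π) (hx : x ∈ T) (β γ : Fin 10 → ℕ) : Ph T β γ g =
    ∑ A ∈ (T \ cyc g.π x).powerset with Stab A g.π, (FM (#(cyc g.π x) ::ₘ tyO g.π A) β * FM (tyO g.π ((T \ cyc g.π x) \ A)) γ +
      ((∏ j ∈ cyc g.π x, g.s j : ℤˣ) : ℤ) * (FM (tyO g.π A) β * FM (#(cyc g.π x) ::ₘ tyO g.π ((T \ cyc g.π x) \ A)) γ)) *
        ∏ j ∈ (T \ cyc g.π x) \ A, (g.s j : ℤ) := by
  have hc := stab_cyc g.π x
  have hm := self_mem g.π x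
  simp only [add_mul, sum_add_distrib]
  rw [Ph, ← sum_filter_add_sum_filter_not _ fun A => x ∈ A]
  congr 1
  · refine sum_bij' (fun A _ => A \ cyc g.π x) (fun A _ => A ∪ cyc g.π x) (fun A hA => ?_) (fun A hA => ?_) (fun A hA => ?_)
      (fun A hA => ?_) fun A hA => ?_ <;> simp only [mem_filter, mem_powerset] at hA ⊢
    · exact ⟨sdiff_subset_sdiff_left _ hA.1.1, stab_sdiff hA.1.2 hc⟩
    · exact ⟨⟨union_subset (hA.1.trans sdiff_subset) (cyc_subset hT hx), fun y => by rw [mem_union, mem_union, hA.2, hc]⟩, mem_union_right _ hm⟩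
    · exact sdiff_union_of_subset (cyc_subset hA.1.2 hA.2)
    · exact union_sdiff_cancel_right (subset_sdiff.1 hA.1).2
    · have h1 : (T \ cyc g.π x) \ (A \ cyc g.π x) = T \ A := by
        rw [sdiff_sdiff_left, sup_eq_union, union_sdiff_of_subset (cyc_subset hA.1.2 hA.2)]
      rw [h1, tyO_step hA.1.2 hA.2]
  · refine sum_congr (Finset.ext fun A => ?_) fun A hA => ?_ <;> simp only [mem_filter, mem_powerset] at *
    · refine ⟨fun h => ⟨subset_sdiff.2 ⟨h.1.1, disjoint_left.2 fun y hy hy' => h.2 ?_⟩, h.1.2⟩,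
        fun h => ⟨⟨h.1.trans sdiff_subset, h.2⟩, fun h1 => (mem_sdiff.1 (h.1 h1)).2 hm⟩⟩
      exact cyc_subset h.1.2 hy (cyc_eq hy' ▸ hm)
    · have h1 : x ∈ T \ A := mem_sdiff.2 ⟨hx, fun h1 => (mem_sdiff.1 (hA.1 h1)).2 hm⟩
      have h2 := stab_sdiff hT hA.2
      rw [tyO_step h2 h1, ← prod_sdiff (cyc_subset h2 h1), sdiff_right_comm, Units.coe_prod]
      ring

theorem Ph_step (hT : Stab T g.π) (hx : x ∈ T) (β γ : Fin 10 → ℕ) : Ph T β γ g =
    ∑ j, (if #(cyc g.π x) ≤ β j then Ph (T \ cyc g.π x) (dn β j #(cyc g.π x)) γ g else 0) +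
      ((∏ j ∈ cyc g.π x, g.s j : ℤˣ) : ℤ) *
        ∑ j, if #(cyc g.π x) ≤ γ j then Ph (T \ cyc g.π x) β (dn γ j #(cyc g.π x)) g else 0 := by
  rw [Ph_split hT hx]
  simp only [FM_cons, Ph, add_mul, sum_add_distrib, sum_mul, mul_sum, ite_mul, mul_ite, zero_mul, mul_zero]
  congr 1 <;> rw [sum_comm] <;> refine sum_congr rfl fun j _ => ?_ <;> split_ifs
  · rfl
  · exact sum_const_zero
  · exact sum_congr rfl fun _ _ => mul_assoc _ _ _
  · exact sum_const_zero

theorem Ph_congr : ∀ {L : List (ℕ × ℤˣ)} {T T' : Finset (Fin n)}, HasTy g T L → HasTy g' T' L →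
    ∀ β γ, Ph T β γ g = Ph T' β γ g'
  | [], _, _, h, h', _, _ => by rw [show _ = ∅ from h, show _ = ∅ from h', Ph_empty, Ph_empty]
  | _ :: _, _, _, h, h', _, _ => by
    have hT := stab_of_hasTy h
    have hT' := stab_of_hasTy h'
    obtain ⟨x, hx, -, h2, h3, h4⟩ := h
    obtain ⟨x', hx', -, h5, h6, h7⟩ := h'
    rw [Ph_step hT hx, Ph_step hT' hx', h2, h3, h5, h6]
    simp only [Ph_congr h4 h7]

theorem phi_step (hT : Stab T g.π) (hx : x ∈ T) {k : ℕ} {i : Bip} (hi : i ∈ bips k) : phi T i g =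
    ((hk2 #(cyc g.π x) (∏ j ∈ cyc g.π x, g.s j) i).map fun y => y.1 * phi (T \ cyc g.π x) y.2 g).sum := by
  obtain ⟨a, b, -, h1, h2⟩ := mem_bips.1 hi
  have h3 : Alt fun β => Ph (T \ cyc g.π x) β (tp i.2) g := fun σ β => by
    simp only [Ph, FM_alt _ σ, smul_eq_mul, mul_sum, mul_assoc]
  have h4 : Alt fun γ => Ph (T \ cyc g.π x) (tp i.1) γ g := fun σ β => by
    simp only [Ph, FM_alt _ σ, smul_eq_mul, mul_sum, mul_assoc, mul_left_comm (sg σ)]
  rw [phi_eq, Ph_step hT hx, alt_hk h3 (card_pos.2 ⟨x, self_mem _ x⟩) h1, alt_hk h4 (card_pos.2 ⟨x, self_mem _ x⟩) h2, hk2, List.map_append,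
    List.sum_append, List.map_map, List.map_map, ← List.sum_map_mul_left]
  simp only [← mul_assoc]
  rfl

theorem sum_ite_mul {ι : Type} [DecidableEq ι] {s : List ι} (hs : s.Nodup) (f : ι → ℂ) : ∀ H : List (ℤ × ι), (∀ x ∈ H, x.2 ∈ s) →
    (s.map fun i => (((H.map fun x => if x.2 = i then x.1 else 0).sum : ℤ) : ℂ) * f i).sum = (H.map fun x => x.1 * f x.2).sum
  | [], _ => by simp
  | a :: H, h => by
    simp only [List.map_cons, List.sum_cons, Int.cast_add, add_mul, List.sum_map_add]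
    rw [sum_ite_mul hs f H fun x hx => h x (List.mem_cons_of_mem _ hx), ← List.sum_toFinset _ hs,
      sum_eq_single_of_mem a.2 (List.mem_toFinset.2 (h a List.mem_cons_self)) fun b _ hb => by
        rw [if_neg hb.symm, Int.cast_zero, zero_mul], if_pos rfl]

theorem cf_step (hT : Stab T g.π) (hx : x ∈ T) (a : Bip → ℂ) :
    cf T a g = cf (T \ cyc g.π x) (rs #T #(cyc g.π x) (∏ j ∈ cyc g.π x, g.s j) a) g := by
  simp only [cf, rs, pr]
  rw [← List.sum_toFinset _ (nodup_bips _), ← List.sum_toFinset _ (nodup_bips _)]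
  simp only [← List.sum_toFinset _ (nodup_bips _), sum_mul]
  rw [sum_comm]
  refine sum_congr rfl fun i hi => ?_
  have h1 := List.mem_toFinset.1 hi
  simp only [mul_assoc]
  rw [← mul_sum, List.sum_toFinset _ (nodup_bips _), sum_ite_mul (nodup_bips _) _ _ fun y hy =>
    card_sdiff_of_subset (cyc_subset hT hx) ▸ (hk2_mem h1 hy).2, phi_step hT hx h1, Int.cast_list_sum, List.map_map]
  simp only [Function.comp_def, Int.cast_mul]

theorem phi_eq_val : ∀ {L : List (ℕ × ℤˣ)} {T : Finset (Fin n)}, HasTy g T L → ∀ i ∈ bips #T, phi T i g = val L i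
  | [], _, h, i, hi => by
    rw [show _ = ∅ from h] at hi ⊢
    rw [show i = (vc, vc) from List.mem_singleton.1 hi, phi_eq, Ph_empty, vac_tp vc_mem, val, if_pos rfl, if_pos rfl, mul_one]
  | _ :: _, _, h, i, hi => by
    have hT := stab_of_hasTy h
    obtain ⟨x, hx, h1, h2, h3, h4⟩ := h
    rw [phi_step hT hx hi, val, ← h2, ← h3]
    exact congrArg List.sum (List.map_congr_left fun y hy => by
      rw [phi_eq_val h4 _ (card_sdiff_of_subset h1 ▸ (hk2_mem hi hy).2)])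

theorem phi_swap (hT : Stab T g.π) (i : Bip) : phi T (i.2, i.1) g = ((∏ j ∈ T, g.s j : ℤˣ) : ℤ) * phi T i g := by
  rw [phi, phi, mul_sum]
  refine sum_bij' (fun A _ => T \ A) (fun A _ => T \ A) (fun A hA => ?_) (fun A hA => ?_) (fun A hA => ?_)
    (fun A hA => ?_) fun A hA => ?_ <;> simp only [mem_filter, mem_powerset] at hA ⊢
  · exact ⟨sdiff_subset, stab_sdiff hT hA.2⟩
  · exact ⟨sdiff_subset, stab_sdiff hT hA.2⟩
  · exact Finset.sdiff_sdiff_eq_self hA.1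
  · exact Finset.sdiff_sdiff_eq_self hA.1
  · have h1 : ((∏ j ∈ A, g.s j : ℤˣ) : ℤ) * ((∏ j ∈ A, g.s j : ℤˣ) : ℤ) = 1 := by
      rw [← Units.val_mul, Int.units_mul_self, Units.val_one]
    rw [Finset.sdiff_sdiff_eq_self hA.1, ← prod_sdiff hA.1, Units.val_mul, ← Units.coe_prod, ← Units.coe_prod]
    linear_combination -(FM (tyO g.π A) (tp i.2) * FM (tyO g.π (T \ A)) (tp i.1) * ((∏ j ∈ T \ A, g.s j : ℤˣ) : ℤ)) * h1

end Cfsg.Agent.LV.Cl.MN

namespace Cfsg.Agent.LV.Cl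

open Cj MN

/-- **Murnaghan-Nakayama.** -/
theorem boxMN : BoxMN := by
  intro n T g _ hT
  obtain ⟨L, hL⟩ := exists_hasTy hT
  refine ⟨fun x hx a => cf_step hT hx a, fun L h => phi_eq_val h, fun g' h i => Ph_congr (hasTy_congr hL h) hL _ _,
    fun h hh i => Ph_congr ?_ hL _ _, phi_swap hT, L, hL⟩
  have h2 := hasTy_conj h hL
  rwa [map_stab hh] at h2

end Cfsg.Agent.LV.Cl
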