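import Cfsg.Agent.LV.Cl.Fm

/-!
# LV, classical groups: the orders of the tori (helper20)
-/

set_option autoImplicit false
set_option linter.unusedSectionVars false

namespace Cfsg.Agent.LV.Cl.Ord

open Cfsg Cfsg.Agent.DL Cfsg.Agent.KZ.Lie Cfsg.Agent.KZ.Dat Matrix Equiv Finset

variable {n : ℕ} (q : ℤ) (g : SG n)

/-- `q g - 1` on the columns in `T`, the identity on the other columns -/
def pad (T : Finset (Fin n)) : Matrix (Fin n) (Fin n) ℤ :=
  of fun i j => if j ∈ T then (if i = g.π j then q * g.s j else 0) - (if i = j then 1 else 0) else if i = j then 1 else 0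

variable {q g}

theorem stab_cyc (x : Fin n) : Stab (cyc g.π x) g.π := fun y => by
  simp only [cyc, mem_filter, mem_univ, true_and, Perm.sameCycle_apply_right]

theorem stab_of_ty : ∀ {L : List (ℕ × ℤˣ)} {T : Finset (Fin n)}, HasTy g T L → Stab T g.π
  | [], _, h => fun y => by rw [show _ = ∅ from h]; simp
  | _ :: _, T, ⟨x, _, h1, _, _, h2⟩ => fun y => by
    have h3 := stab_of_ty h2 y
    have h4 := stab_cyc (g := g) x y
    rw [mem_sdiff, mem_sdiff] at h3
    have h5 := @h1 y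
    have h6 := @h1 (g.π y)
    tauto

theorem pad_mul {A B : Finset (Fin n)} (hB : Stab B g.π) (h : Disjoint A B) : pad q g (A ∪ B) = pad q g A * pad q g B := by
  ext i j
  rw [mul_apply]
  by_cases hj : j ∈ B
  · have h1 : j ∉ A := disjoint_right.1 h hj
    have h2 : g.π j ∉ A := disjoint_right.1 h ((hB j).2 hj)
    simp only [pad, of_apply, hj, mem_union, or_true, if_true, mul_sub, sum_sub_distrib, mul_ite, mul_zero, mul_one,
      sum_ite_eq', mem_univ, h1, h2, if_false, ite_mul, one_mul, zero_mul]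
  · simp only [pad, of_apply, hj, mem_union, or_false, if_false, mul_ite, mul_zero, mul_one, sum_ite_eq', mem_univ, if_true]

theorem det_cyc (x : Fin n) :
    (pad q g (cyc g.π x)).det.natAbs = (q ^ #(cyc g.π x) - (∏ j ∈ cyc g.π x, g.s j : ℤˣ)).natAbs := by
  have hm : ∀ {y}, y ∈ cyc g.π x ↔ g.π.SameCycle x y := by simp [cyc]
  have h0 : ∀ (a : ℤ) (e : ℤˣ), (a * e - 1).natAbs = (a - e).natAbs := fun a e => by
    rcases Int.units_eq_one_or e with rfl | rfl
    · simp
    · rw [← Int.natAbs_neg]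
      congr 1
      simp only [Units.val_neg, Units.val_one]
      ring
  by_cases hx : g.π x = x
  · have h1 : cyc g.π x = {x} := by
      ext y
      rw [hm, mem_singleton]
      exact ⟨fun h => (h.eq_of_left hx).symm, fun h => h ▸ Perm.SameCycle.refl _ _⟩
    have h2 : pad q g {x} = diagonal fun j => if j = x then q * g.s x - 1 else 1 := by
      ext i j
      rw [pad, of_apply, diagonal_apply]
      by_cases hj : j = x
      · subst hj
        by_cases hi : i = j <;> simp [hi, hx]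
      · by_cases hi : i = j <;> simp [hi, hj]
    rw [h1, h2, det_diagonal, card_singleton, prod_singleton, pow_one, prod_ite_eq', if_pos (mem_univ _), h0]
  have h1 : ∀ y ∈ cyc g.π x, g.π y ≠ y := fun y hy h => hx (((hm.1 hy).eq_of_right h).symm ▸ h)
  have h2 : (g.π.cycleOf x).support = cyc g.π x := by
    ext y
    rw [Perm.mem_support_cycleOf_iff, hm, Perm.mem_support]
    exact and_iff_left hx
  have h3 : ∀ y ∈ cyc g.π x, g.π.cycleOf x y = g.π y := fun y hy => (hm.1 hy).cycleOf_apply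
  have h4 : ∀ y, y ∉ cyc g.π x → g.π.cycleOf x y = y := fun y hy => Perm.cycleOf_apply_of_not_sameCycle (mt hm.2 hy)
  rw [det_apply, Fintype.sum_eq_add 1 (g.π.cycleOf x) (Perm.isCycle_cycleOf _ hx).ne_one.symm]
  · have h5 : ∏ i, pad q g (cyc g.π x) ((1 : Perm (Fin n)) i) i = (-1) ^ #(cyc g.π x) := by
      rw [← prod_const, ← prod_ite_mem_eq (cyc g.π x)]
      refine prod_congr rfl fun y _ => ?_
      by_cases hy : y ∈ cyc g.π x
      · simp [pad, hy, (h1 y hy).symm]
      · simp [pad, hy]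
    have h6 : ∏ i, pad q g (cyc g.π x) (g.π.cycleOf x i) i = q ^ #(cyc g.π x) * (∏ j ∈ cyc g.π x, g.s j : ℤˣ) := by
      rw [Units.coe_prod, ← prod_const, ← prod_mul_distrib, ← prod_ite_mem_eq (cyc g.π x)]
      refine prod_congr rfl fun y _ => ?_
      by_cases hy : y ∈ cyc g.π x
      · simp [pad, hy, h3 y hy, h1 y hy]
      · simp [pad, hy, h4 y hy]
    rw [h5, h6, (Perm.isCycle_cycleOf _ hx).sign, h2, Perm.sign_one, one_smul, ← h0, ← Int.natAbs_neg (_ - 1), Units.smul_def]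
    rcases neg_one_pow_eq_or ℤ #(cyc g.π x) with h | h
    all_goals
      simp only [Units.val_neg, Units.val_pow_eq_pow_val, Units.val_one, h, smul_eq_mul]
    · congr 1
      ring
    · rw [Int.natAbs_neg]
      congr 1
      ring
  rintro σ ⟨hσ1, hσ2⟩
  by_contra h5
  have h6 : ∀ y, pad q g (cyc g.π x) (σ y) y ≠ 0 := fun y h =>
    h5 (smul_eq_zero_of_right _ (prod_eq_zero (mem_univ y) h))
  have h7 : ∀ y, y ∉ cyc g.π x → σ y = y := fun y hy => by simpa [pad, hy] using h6 y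
  have h8 : ∀ y ∈ cyc g.π x, σ y ≠ y → σ y = g.π y := fun y hy h => by
    by_contra h9
    simpa [pad, hy, h, h9] using h6 y
  obtain ⟨y, hy⟩ : ∃ y, σ y ≠ y := by
    by_contra h
    exact hσ1 (Equiv.ext fun y => not_not.1 fun h9 => h ⟨y, h9⟩)
  have h9 : y ∈ cyc g.π x := not_not.1 fun h => hy (h7 y h)
  have h10 : ∀ k : ℕ, (g.π ^ k) y ∈ cyc g.π x ∧ σ ((g.π ^ k) y) ≠ (g.π ^ k) y := by
    intro k
    induction k with
    | zero => exact ⟨h9, hy⟩
    | succ k ih =>
      rw [pow_succ', Perm.mul_apply]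
      refine ⟨(stab_cyc x _).2 ih.1, fun h => h1 _ ih.1 (σ.injective (h.trans (h8 _ ih.1 ih.2).symm))⟩
  refine hσ2 (Equiv.ext fun z => ?_)
  by_cases hz : z ∈ cyc g.π x
  · obtain ⟨k, -, rfl⟩ := ((hm.1 h9).symm.trans (hm.1 hz)).exists_pow_eq'
    rw [h3 _ hz, h8 _ hz (h10 k).2]
  · rw [h4 z hz, h7 z hz]

theorem det_pad : ∀ {L : List (ℕ × ℤˣ)} {T : Finset (Fin n)}, HasTy g T L →
    (pad q g T).det.natAbs = (L.map fun c => (q ^ c.1 - c.2).natAbs).prod
  | [], _, h => by
    have h1 : pad q g ∅ = 1 := by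
      ext i j
      simp [pad, one_apply]
    rw [show _ = ∅ from h, h1, det_one]
    rfl
  | _ :: _, T, ⟨x, _, h1, h2, h3, h4⟩ => by
    rw [← union_sdiff_of_subset h1, pad_mul (stab_of_ty h4) disjoint_sdiff, det_mul, Int.natAbs_mul, det_cyc, det_pad h4, h2, h3,
      List.map_cons, List.prod_cons]

theorem pad_univ : pad q g univ = q • spm g.π g.s - 1 := by
  ext i j
  rw [pad, of_apply, if_pos (mem_univ _), Matrix.sub_apply, Matrix.smul_apply, spm_apply, one_apply, smul_eq_mul, mul_ite, mul_zero]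

end Cfsg.Agent.LV.Cl.Ord

namespace Cfsg.Agent.LV.Cl

open Cfsg Cfsg.Agent.DL Cfsg.Agent.KZ.Lie Cfsg.Agent.KZ.Dat Matrix Equiv Finset

theorem boxOrd : BoxOrd := by
  intro p _ k _ _ Y _ N _ _ ρ F G _ D n b q Φ w L h
  have h1 : Φ.P * (D.Wm w * D.Mx - 1) * Φ.P' = (q : ℤ) • spm (Φ.E.g w).π (Φ.E.g w).s - 1 := by
    rw [Matrix.mul_sub, Matrix.sub_mul, Matrix.mul_one, Φ.PP', ← Matrix.mul_assoc, Φ.hW, Matrix.mul_assoc _ Φ.P, Φ.hM,
      Matrix.mul_assoc, Matrix.mul_assoc, Φ.PP', Matrix.mul_one, Matrix.mul_smul, spm_mul]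
    rfl
  rw [← Ord.det_pad h, Ord.pad_univ, ← h1, Matrix.mul_assoc, det_comm' Φ.PP' Φ.P'P, Matrix.mul_assoc, Φ.P'P, Matrix.mul_one, ordT]

end Cfsg.Agent.LV.Cl
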