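import Cfsg.Agent.LV.Cl.PeelA
import Cfsg.Agent.LV.Cl.Em

/-!
# LV, classical groups: the factors of type `A` (helper45)

`boxPeel : BoxAvg → BoxChain → BoxHalf → BoxPeel`.
-/

set_option autoImplicit false
set_option linter.unusedSectionVars false
set_option linter.dupNamespace false

namespace Cfsg.Agent.LV.Cl

open Equiv Finset Cfsg Cfsg.Agent.Tits.Exchange Cfsg.Agent.Tits.Core Ey

namespace Pl

variable {I W : Type} {M : CoxeterMatrix I} [Group W] {cs : CoxeterSystem M W} [Fintype W] {ψ : MulAut W} {n : ℕ} {b : Bool}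
  (E : Em cs ψ n b)

/-- the permutations as elements of `W` -/
noncomputable def lift : Perm (Fin n) →* W :=
  (MonoidHom.ofInjective E.inj).symm.toMonoidHom.comp (pm.codRestrict E.emb.range fun p => E.surj _ fun _ => sgn_pm p)

theorem emb_lift (p : Perm (Fin n)) : E.emb (lift E p) = pm p := MonoidHom.apply_ofInjective_symm E.inj _

theorem tw_lift {w : W} {p : Perm (Fin n)} (h : ∀ y, (E.g w).s (p y) = (E.g w).s y) :
    w * ψ (lift E p) * w⁻¹ = lift E ((E.g w).π * p * (E.g w).π⁻¹) := E.inj (by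
  rw [E.emb_tw, emb_lift, emb_lift]
  refine SG.ext rfl (funext fun j => ?_)
  show (E.g w).s (p _) * 1 * _ = 1
  rw [h, mul_one, inv_s, inv_π, Int.units_mul_self])

theorem simple_lift {x y : Fin n} (h : (y : ℕ) = x + 1) : cs.simple (E.nd x) = lift E (swap x y) :=
  E.inj (by rw [E.simple x y h, emb_lift, pm_swap])

theorem comm_lift {T : Finset (Fin n)} {p : Perm (Fin n)} {v : W} (hp : ∀ j ∈ T, p j = j) (hv : E.emb v ∈ On T) :
    Commute (lift E p) v := E.inj (by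
  rw [map_mul, map_mul, emb_lift]
  exact (commute_On (h := pm p) (fun j hj => ⟨hp j hj, rfl⟩) hv).symm.eq)

/-- the nodes of `K` in `R` -/
def KR (k : ℕ) (f : Fin n → ℕ) (R : Finset (Fin n)) : Set I := {i | i ∈ E.K k f ∧ E.nd.symm i ∈ R}

/-- a union of orbits of classes -/
structure Sat (k : ℕ) (f : Fin n → ℕ) (w : W) (R : Finset (Fin n)) : Prop where
  out : ∀ x ∈ R, x ∉ Tk n k
  sat : ∀ x ∈ R, ∀ y, y ∉ Tk n k → f x = f y → y ∈ R
  map : ∀ x ∈ R, (E.g w).π x ∈ R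

variable {E} {l k : ℕ} {f : Fin n → ℕ} {w : W} {R : Finset (Fin n)}

theorem out_of_le {x y : Fin n} (h : x ≤ y) (hy : y ∉ Tk n k) : x ∉ Tk n k := fun hx =>
  hy (mem_Tk.2 (by have := mem_Tk.1 hx; omega))

theorem succ_of (H : E.NF l k f w) {x y : Fin n} (hy : y ∉ Tk n k) (h : f x = f y) (hlt : x < y)
    (h1 : ∀ z, z ∉ Tk n k → f z = f x → x < z → ¬ z < y) : (y : ℕ) = x + 1 := by
  by_contra h2
  have h3 : (x : ℕ) + 1 < y := by omega
  let z : Fin n := ⟨x + 1, by omega⟩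
  have h4 : x < z := Nat.lt_succ_self _
  exact h1 z (out_of_le (le_of_lt h3) hy) (H.conv x z y h4.le (le_of_lt h3) hy h) h4 h3

/-- the class of a point -/
def Cs (k : ℕ) (f : Fin n → ℕ) (x₀ : Fin n) : Finset (Fin n) := {y | y ∉ Tk n k ∧ f y = f x₀}

theorem mem_Cs {x₀ y : Fin n} : y ∈ Cs k f x₀ ↔ y ∉ Tk n k ∧ f y = f x₀ := by simp [Cs]

theorem exists_st (H : E.NF l k f w) (hR : Sat E k f w R) {x₀ : Fin n} (hx : x₀ ∈ R) :
    ∃ R' ⊂ R, Sat E k f w R' ∧ ∃ ι κ : Perm (Cs k f x₀) →* W, St cs ψ (KR E k f R ∪ E.J k) (KR E k f R' ∪ E.J k) w ι κ := by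
  have h0 := hR.out x₀ hx
  set π := (E.g w).π with hπ
  have hs : ∀ {x}, x ∉ Tk n k → π x ∉ Tk n k := fun h h' => h ((H.stab _).1 h')
  have hs' : ∀ {x}, π x ∉ Tk n k → x ∉ Tk n k := fun h h' => h ((H.stab _).2 h')
  have hi : ∀ {x}, x ∉ Tk n k → π (π x) = x := fun h => H.invol _ h
  have hf : ∀ {x y}, x ∉ Tk n k → y ∉ Tk n k → f x = f y → f (π x) = f (π y) := fun h h' e => (H.cls _ _ h h' e).1
  have hq : ∀ {z}, π⁻¹ z ∈ Cs k f x₀ → π⁻¹ z = π z := fun {z} h => by rw [← hi (mem_Cs.1 h).1, ap_inv]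
  have hP : ∀ (h : Perm (Cs k f x₀)) {z}, z ∉ Cs k f x₀ → Perm.ofSubtype h z = z := fun h z hz =>
    Perm.ofSubtype_apply_of_not_mem h hz
  have hP' : ∀ (h : Perm (Cs k f x₀)) {z}, z ∈ Cs k f x₀ → Perm.ofSubtype h z ∈ Cs k f x₀ := fun h z hz =>
    (Perm.ofSubtype_apply_mem_iff_mem h z).2 hz
  have hQ : ∀ (h : Perm (Cs k f x₀)) {z}, π z ∉ Cs k f x₀ → (π * Perm.ofSubtype h * π⁻¹) z = z := fun h z hz => by
    rw [Perm.mul_apply, Perm.mul_apply, hP h fun h1 => hz (hq h1 ▸ h1), ap_inv]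
  have hd : ∀ (h : Perm (Cs k f x₀)) {ρ : Perm (Fin n)}, (∀ z ∈ Cs k f x₀, ρ z = z) → Commute (Perm.ofSubtype h) ρ :=
    fun h ρ h1 => Perm.Disjoint.commute fun z => (em (z ∈ Cs k f x₀)).symm.imp (hP h) (h1 z)
  let T : Finset (Fin n) := {z | z ∉ Cs k f x₀ ∧ π z ∉ Cs k f x₀}
  have hT : ∀ {z}, z ∈ T ↔ z ∉ Cs k f x₀ ∧ π z ∉ Cs k f x₀ := by simp [T]
  have hT' : ∀ {x y}, x ∈ T → x ∉ Tk n k → y ∉ Tk n k → f x = f y → y ∈ T := fun h1 h2 h3 h4 =>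
    hT.2 ⟨fun h => (hT.1 h1).1 (mem_Cs.2 ⟨h2, h4.trans (mem_Cs.1 h).2⟩),
      fun h => (hT.1 h1).2 (mem_Cs.2 ⟨hs h2, (hf h2 h3 h4).trans (mem_Cs.1 h).2⟩)⟩
  refine ⟨R ∩ T, (ssubset_iff_of_subset inter_subset_left).2 ⟨x₀, hx, fun h => (hT.1 (mem_inter.1 h).2).1 (mem_Cs.2 ⟨h0, rfl⟩)⟩,
    ⟨fun x h => hR.out x (mem_inter.1 h).1, fun x h y h1 h2 => ?_, fun x h => ?_⟩, (lift E).comp Perm.ofSubtype,
    (lift E).comp ((MulAut.conj π).toMonoidHom.comp Perm.ofSubtype), fun i h => ?_, fun h => tw_lift E fun y => ?_,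
    fun h => (tw_lift E (p := π * Perm.ofSubtype h * π⁻¹) fun y => ?_).trans (congrArg (lift E) ?_), ?_, fun j hj h => ?_,
    fun i h => ?_, fun x y h => ?_⟩
  · rw [mem_inter] at h ⊢
    exact ⟨hR.sat x h.1 y h1 h2, hT' h.2 (hR.out x h.1) h1 h2⟩
  · rw [mem_inter] at h ⊢
    exact ⟨hR.map x h.1, hT.2 ⟨(hT.1 h.2).2, by rw [hi (hR.out x h.1)]; exact (hT.1 h.2).1⟩⟩
  · exact h.imp_left fun h => ⟨h.1, (mem_inter.1 h.2).1⟩
  · by_cases h1 : y ∈ Cs k f x₀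
    · have h2 := mem_Cs.1 (hP' h h1)
      exact (H.cls _ _ h2.1 (mem_Cs.1 h1).1 (h2.2.trans (mem_Cs.1 h1).2.symm)).2.1
    · rw [hP h h1]
  · by_cases h1 : π y ∈ Cs k f x₀
    · have h2 := mem_Cs.1 (hP' h h1)
      have h3 := mem_Cs.1 h1
      have h4 := hf h2.1 h3.1 (h2.2.trans h3.2.symm)
      rw [hi (hs' h3.1)] at h4
      rw [Perm.mul_apply, Perm.mul_apply, Perm.inv_eq_iff_eq.2 (hi (hs' h3.1)).symm]
      exact (H.cls _ _ (hs h2.1) (hs' h3.1) h4).2.1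
    · rw [hQ h h1]
  · have h1 := (hd h (ρ := π * π) fun z hz => hi (mem_Cs.1 hz).1).eq
    show π * (π * Perm.ofSubtype h * π⁻¹) * π⁻¹ = Perm.ofSubtype h
    rw [← mul_assoc, ← mul_assoc, ← h1]
    group
  · by_cases h1 : f (π x₀) = f x₀
    · refine .inl (MonoidHom.ext fun h => congrArg (lift E) ?_)
      have h2 := (hd h (ρ := π) fun z hz => by
        obtain ⟨h2, h3⟩ := mem_Cs.1 hz
        have h4 : f z = f (π z) := h3.trans ((hf h2 h0 h3).trans h1).symm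
        rcases lt_trichotomy z (π z) with h5 | h5 | h5
        · exact absurd (((H.cls _ _ h2 (hs h2) h4).2.2 h5).trans_eq (hi h2)) h5.not_gt
        · exact h5.symm
        · exact absurd ((hi h2).symm.trans_lt ((H.cls _ _ (hs h2) h2 h4.symm).2.2 h5)) h5.not_gt).eq
      exact eq_mul_inv_of_mul_eq h2
    · exact .inr fun h h' => (hd h fun z hz => hQ h' fun h2 =>
        h1 ((hf (mem_Cs.1 hz).1 h0 (mem_Cs.1 hz).2).symm.trans (mem_Cs.1 h2).2)).map (lift E)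
  · have h1 : E.emb (cs.simple j) ∈ On T := by
      rcases hj with ⟨⟨x, y, rfl, h1, h2, h3, h4⟩, h5⟩ | hj
      · rw [E.nd.symm_apply_apply, mem_inter] at h5
        rw [E.simple x y h1]
        exact sw_mem_On _ h5.2 (hT' h5.2 h2 h3 h4)
      · exact On_mono (fun z hz => hT.2 ⟨fun h => (mem_Cs.1 h).1 hz, fun h => hs' (mem_Cs.1 h).1 hz⟩) (E.simple_mem_On hj)
    exact ⟨comm_lift E (fun z hz => hP h (hT.1 hz).1) h1, comm_lift E (fun z hz => hQ h (hT.1 hz).2) h1⟩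
  · rcases h with ⟨⟨x, y, rfl, h1, h2, h3, h4⟩, h5⟩ | h
    · rw [E.nd.symm_apply_apply] at h5
      by_cases h6 : x ∈ Cs k f x₀
      · refine .inr ⟨swap ⟨x, h6⟩ ⟨y, mem_Cs.2 ⟨h3, h4 ▸ (mem_Cs.1 h6).2⟩⟩, .inl ?_⟩
        rw [simple_lift E h1, MonoidHom.comp_apply, Perm.ofSubtype_swap_eq]
      · by_cases h7 : π x ∈ Cs k f x₀
        · refine .inr ⟨swap ⟨π x, h7⟩ ⟨π y, mem_Cs.2 ⟨hs h3, hf h2 h3 h4 ▸ (mem_Cs.1 h7).2⟩⟩, .inr ?_⟩
          rw [simple_lift E h1, MonoidHom.comp_apply, MonoidHom.comp_apply, Perm.ofSubtype_swap_eq]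
          refine congrArg (lift E) (Eq.trans ?_ (swap_apply_apply π _ _))
          rw [hi h2, hi h3]
        · exact .inl (.inl ⟨⟨x, y, rfl, h1, h2, h3, h4⟩, by
            rw [E.nd.symm_apply_apply]; exact mem_inter.2 ⟨h5, hT.2 ⟨h6, h7⟩⟩⟩)
    · exact .inl (.inr h)
  · obtain ⟨h1, h2⟩ := mem_Cs.1 x.2
    obtain ⟨h3, h4⟩ := mem_Cs.1 y.2
    have h5 := h2.trans h4.symm
    have h6 : ∀ z, z ∉ Tk n k → f z = f x → x.1 < z → ¬ z < y.1 := fun z h6 h7 h8 =>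
      h.2 (c := ⟨z, mem_Cs.2 ⟨h6, h7.trans h2⟩⟩) h8
    have h7 := succ_of H h3 h5 h.1 h6
    have h8 := succ_of H (hs h3) (hf h1 h3 h5) ((H.cls _ _ h1 h3 h5).2.2 h.1) fun z h8 h9 h10 h11 =>
      h6 (π z) (hs h8) (by rw [hf h8 (hs h1) h9, hi h1]) (hi h1 ▸ (H.cls _ _ (hs h1) h8 h9.symm).2.2 h10)
        (hi h3 ▸ (H.cls _ _ h8 (hs h3) (h9.trans (hf h1 h3 h5))).2.2 h11)
    have h9 := hR.sat x₀ hx x h1 h2.symm
    have h10 : ∀ d : DecidableEq (Cs k f x₀), Perm.ofSubtype (@swap _ d x y) = swap x.1 y.1 := fun d => by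
      convert Perm.ofSubtype_swap_eq x y
    refine ⟨⟨E.nd x, .inl ⟨⟨_, _, rfl, h7, h1, h3, h5⟩, by rwa [E.nd.symm_apply_apply]⟩, ?_⟩,
      E.nd (π x), .inl ⟨⟨_, _, rfl, h8, hs h1, hs h3, hf h1 h3 h5⟩, by rw [E.nd.symm_apply_apply]; exact hR.map _ h9⟩, ?_⟩
    · rw [simple_lift E h7, MonoidHom.comp_apply, h10]
    · rw [simple_lift E h8, MonoidHom.comp_apply, MonoidHom.comp_apply, h10]
      exact congrArg (lift E) (swap_apply_apply π _ _)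

theorem dec (hA : BoxAvg) (hl : l.Prime) (H : E.NF l k f w) (R : Finset (Fin n)) : Sat E k f w R → ∀ y : W → ℂ,
    T.Lv cs ψ (KR E k f R ∪ E.J k) w y → E.Inv (KR E k f R ∪ E.J k) w y →
    Dec E (fun m => ¬ (l : ℤ) ∣ m) (KR E k f R ∪ E.J k) (E.J k) w y := by
  induction R using Finset.strongInduction with
  | H R ih =>
    intro hR y h1 h2
    rcases R.eq_empty_or_nonempty with rfl | ⟨x₀, hx⟩
    · have h3 : KR E k f ∅ ∪ E.J k = E.J k := by simp [KR]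
      rw [h3] at h1 h2 ⊢
      exact Dec.refl (fun h => hl.one_lt.ne' (by exact_mod_cast Int.eq_one_of_dvd_one (by simp) h)) h1 h2
    · obtain ⟨R', h3, h4, ι, κ, S⟩ := exists_st H hR hx
      refine Dec.trans (fun a a' h h' h'' => ((Nat.prime_iff_prime_int.1 hl).dvd_or_dvd h'').elim h h')
        Set.subset_union_right (S.step hA E.aut hl ?_ h1 h2) (ih R' h3 h4)
      rw [Fintype.card_coe]
      exact H.small x₀ (hR.out x₀ hx)

theorem N_nonneg (J : Set I) (w : W) (y : W → ℂ) : 0 ≤ E.N J w y :=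
  mul_nonneg (by positivity) (finsum_nonneg fun _ => by positivity)

end Pl

open Pl in
/-- **the factors of type `A`** -/
theorem boxPeel (hA : BoxAvg) (hC : BoxChain) (hH : BoxHalf) : BoxPeel := by
  intro I W M _ cs _ ψ n b E l k hl hk hk' f w y H hε h1 h2 h3
  have hD : Dec E (fun m => ¬ (l : ℤ) ∣ m ∧ (k = n → m = 1)) (E.K k f ∪ E.J k) (E.J k) w y := by
    by_cases e : k = n
    · have h4 : E.K k f ∪ E.J k = E.J k := by rw [e, E.J_self, Set.union_univ]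
      rw [h4] at h1 h2 ⊢
      exact Dec.refl ⟨fun h => hl.one_lt.ne' (by exact_mod_cast Int.eq_one_of_dvd_one (by simp) h), fun _ => rfl⟩ h1 h2
    · have h4 : E.K k f = KR E k f (Tk n k)ᶜ := Set.ext fun i => ⟨fun h => ⟨h, by
        obtain ⟨x, -, rfl, -, h, -⟩ := h
        rwa [E.nd.symm_apply_apply, mem_compl]⟩, fun h => h.1⟩
      rw [h4] at h1 h2 ⊢
      obtain ⟨ι, _, _, m, z, h5, h6⟩ := dec hA hl H _ ⟨fun x hx => mem_compl.1 hx, fun x _ y hy _ => mem_compl.2 hy,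
        fun x hx => mem_compl.2 fun h => mem_compl.1 hx ((H.stab x).1 h)⟩ y h1 h2
      exact ⟨ι, _, ‹_›, m, z, fun i => ⟨⟨(h5 i).1, fun h => absurd h e⟩, (h5 i).2⟩, h6⟩
  obtain ⟨ι, _, ⟨i₁⟩, m, z, h4, h5, h6⟩ := hD
  choose a a1 a2 a3 a4 a5 using fun i => hC E k hk w (z i) H.stab (h4 i).2.1 (h4 i).2.2
  have h7 : ∀ i, E.N (E.J k) w (z i) ≤ E.N (E.K k f ∪ E.J k) w y := fun i =>
    (single_le_sum (f := fun i => E.N (E.J k) w (z i)) (fun _ _ => N_nonneg _ _ _) (mem_univ i)).trans h6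
  have h8 : ∀ i, Sh b k (E.ε k w) (a i) := fun i => ⟨a1 i, a2 i, (a3 i).trans ((h7 i).trans h3), fun hb e j hj h =>
    a5 i hb e j hj (le_antisymm (a3 i) (h ▸ (h7 i).trans h3))⟩
  have h9 : ∀ i, (∀ j ∈ bips k, a i j = 0) ∨ 1 / 2 < E.N (E.J k) w (z i) := fun i =>
    (hH b k _ _ hk' hε (h8 i)).imp_right fun h => h.elim (fun h => h.trans_le (a3 i)) fun ⟨hb, e, h, j, hj, h'⟩ =>
      h ▸ lt_of_le_of_ne (a3 i) fun h'' => h' (a5 i hb e j hj h'')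
  obtain ⟨i₀, h10⟩ : ∃ i₀, ∀ i, i ≠ i₀ → ∀ j ∈ bips k, a i j = 0 := by
    classical
    by_cases h : ∃ i₀, 1 / 2 < E.N (E.J k) w (z i₀)
    · obtain ⟨i₀, h⟩ := h
      refine ⟨i₀, fun i hi => (h9 i).resolve_right fun h' => ?_⟩
      have h10 := sum_le_sum_of_subset_of_nonneg (f := fun i => E.N (E.J k) w (z i)) (subset_univ {i, i₀})
        fun _ _ _ => N_nonneg _ _ _
      rw [sum_pair hi] at h10
      linarith
    · exact ⟨i₁, fun i _ => (h9 i).resolve_right fun h' => h ⟨i, h'⟩⟩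
  refine ⟨m i₀, a i₀, (h4 i₀).1.1, h8 i₀, fun x hx hF => ⟨?_, a4 i₀ x hx hF ▸ (h4 i₀).2.1.int hx⟩, (h4 i₀).1.2,
    (h9 i₀).imp_right fun h => h.trans_le (h7 i₀), (a3 i₀).trans (h7 i₀)⟩
  rw [h5 x hx, Fintype.sum_eq_single i₀ fun i hi => ?_, a4 i₀ x hx hF]
  rw [a4 i x hx hF, cf, Ey.card_Tk hk, List.sum_eq_zero, mul_zero]
  intro t ht
  obtain ⟨j, hj, rfl⟩ := List.mem_map.1 ht
  rw [h10 i hi j hj, zero_mul]

end Cfsg.Agent.LV.Cl
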