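import Cfsg.Agent.LV.Cl.Fm

/-!
# LV, classical groups: the Sylow tori (helper35)

* `nl q L` the order of a torus of type `L`, `ordP b n ε q` the part of the group order prime to `q`;
* `val_syl`, `val_Lx` : the `5`-parts agree for the types `syl` and `Lx`;
* `sylT_of`, `sylT_Lx`.
-/

set_option autoImplicit false
set_option linter.unusedSectionVars false
set_option linter.dupNamespace false

namespace Cfsg.Agent.LV.Cl

open Cfsg Cfsg.Agent.DL Cfsg.Agent.DL.PP Cfsg.Agent.KZ.Lie Cfsg.Agent.LV.Blk Finset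

/-- the order of a torus of type `L` -/
def nl (q : ℕ) (L : List (ℕ × ℤˣ)) : ℕ := (L.map fun c => ((q : ℤ) ^ c.1 - c.2).natAbs).prod

/-- the part of the order of the classical group which is prime to `q` -/
def ordP (b : Bool) (n : ℕ) (ε : ℤˣ) (q : ℕ) : ℕ :=
  if b then ∏ i ∈ range n, (q ^ (2 * (i + 1)) - 1)
  else ((q : ℤ) ^ n - ε).natAbs * ∏ i ∈ range (n - 1), (q ^ (2 * (i + 1)) - 1)

namespace Sy5

/-- the list of the degrees -/
def ordL (b : Bool) (n : ℕ) (ε : ℤˣ) : List (ℕ × ℤˣ) :=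
  if b then (List.range n).map fun i => (2 * (i + 1), 1) else (n, ε) :: (List.range (n - 1)).map fun i => (2 * (i + 1), 1)

theorem nl_rg {q : ℕ} (hq : 1 ≤ q) (n : ℕ) :
    nl q ((List.range n).map fun i => (2 * (i + 1), 1)) = ∏ i ∈ range n, (q ^ (2 * (i + 1)) - 1) := by
  induction n with
  | zero => rfl
  | succ n ih =>
    rw [prod_range_succ, ← ih, List.range_succ, nl, nl, List.map_append, List.map_append, List.prod_append]
    congr 1
    have h := Nat.one_le_pow (2 * (n + 1)) q hq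
    simp only [List.map_cons, List.map_nil, List.prod_cons, List.prod_nil, mul_one, Units.val_one]
    zify [h]
    exact abs_of_nonneg (by exact_mod_cast sub_nonneg.2 (show (1 : ℤ) ≤ (q : ℤ) ^ (2 * (n + 1)) by exact_mod_cast h))

theorem nl_ordL {q : ℕ} (hq : 1 ≤ q) (b : Bool) (n : ℕ) (ε : ℤˣ) : nl q (ordL b n ε) = ordP b n ε q := by
  cases b
  · rw [ordP, if_neg Bool.false_ne_true, ← nl_rg hq]
    rfl
  · rw [ordP, if_pos rfl, ← nl_rg hq]
    rfl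

/-- the factor is divisible by `5` -/
def dv (r : ℕ) (c : ℕ × ℤˣ) : Bool := ((r : ℤ) ^ c.1 - c.2) % 5 == 0

/-- the number of factors divisible by `5` -/
def c1 (r : ℕ) (L : List (ℕ × ℤˣ)) : ℕ := (L.map fun c => if dv r c then 1 else 0).sum

/-- the additional valuation -/
def c2 (r : ℕ) (L : List (ℕ × ℤˣ)) : ℕ := (L.map fun c => if dv r c && c.1 % 5 == 0 then 1 else 0).sum

theorem fac_ne {q : ℕ} (hq : 2 ≤ q) {c : ℕ × ℤˣ} (hc : 0 < c.1) : (q : ℤ) ^ c.1 - c.2 ≠ 0 := by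
  have h : (2 : ℤ) ≤ (q : ℤ) ^ c.1 := by exact_mod_cast hq.trans (Nat.le_self_pow hc.ne' q)
  rcases Int.units_eq_one_or c.2 with e | e <;> rw [e] <;> simp <;> omega

theorem lte {x y : ℤ} (h : ((5 : ℕ) : ℤ) ∣ x - y) (hx : ¬ ((5 : ℕ) : ℤ) ∣ x) {n : ℕ} (hn : n ≠ 0) (h1 : x - y ≠ 0)
    (h2 : x ^ n - y ^ n ≠ 0) : padicValNat 5 (x ^ n - y ^ n).natAbs = padicValNat 5 (x - y).natAbs + padicValNat 5 n := by
  have : Fact (Nat.Prime 5) := ⟨Nat.prime_five⟩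
  rw [← Nat.cast_inj (R := ℕ∞), Nat.cast_add, padicValNat_eq_emultiplicity (Int.natAbs_ne_zero.2 h2),
    padicValNat_eq_emultiplicity (Int.natAbs_ne_zero.2 h1), padicValNat_eq_emultiplicity hn,
    Int.emultiplicity_natAbs, Int.emultiplicity_natAbs]
  exact Int.emultiplicity_pow_sub_pow Nat.prime_five (by decide) h hx n

theorem val_one {q : ℕ} (hq : 2 ≤ q) (h5 : ¬ 5 ∣ q) {c : ℕ × ℤˣ} (hc : 0 < c.1) (hc' : c.1 < 25) :
    (((q : ℤ) ^ c.1 - c.2).natAbs).factorization 5 =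
      padicValNat 5 ((q : ℤ) ^ 4 - 1).natAbs * (if dv (q % 5) c then 1 else 0) +
        if dv (q % 5) c && c.1 % 5 == 0 then 1 else 0 := by
  have : Fact (Nat.Prime 5) := ⟨Nat.prime_five⟩
  have h5' : ∀ j, ¬ ((5 : ℕ) : ℤ) ∣ (q : ℤ) ^ j := fun j h =>
    h5 (by exact_mod_cast (Nat.prime_iff_prime_int.1 Nat.prime_five).dvd_of_dvd_pow h)
  have hd : dv (q % 5) c = true ↔ ((5 : ℕ) : ℤ) ∣ (q : ℤ) ^ c.1 - c.2 := by
    rw [dv, beq_iff_eq, ← Int.dvd_iff_emod_eq_zero]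
    have h : (5 : ℤ) ∣ (q : ℤ) ^ c.1 - ((q % 5 : ℕ) : ℤ) ^ c.1 :=
      (show (5 : ℤ) ∣ (q : ℤ) - ((q % 5 : ℕ) : ℤ) by omega).trans (sub_dvd_pow_sub_pow _ _ _)
    exact ⟨fun h1 => by simpa using h.add h1, fun h1 => by simpa using Dvd.dvd.sub h1 h⟩
  rw [Nat.factorization_def _ Nat.prime_five]
  by_cases h : dv (q % 5) c = true
  · have h3 : ((5 : ℕ) : ℤ) ∣ (q : ℤ) ^ 4 - 1 := (ZMod.intCast_zmod_eq_zero_iff_dvd ((q : ℤ) ^ 4 - 1) 5).1 (by
      push_cast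
      exact sub_eq_zero.2 (ZMod.pow_card_sub_one_eq_one (fun h => h5 ((ZMod.natCast_eq_zero_iff q 5).1 h))))
    have e3 : ((c.2 : ℤ)) ^ 4 = 1 := by rcases Int.units_eq_one_or c.2 with e | e <;> rw [e] <;> rfl
    have n1 : (q : ℤ) ^ (4 * c.1) - 1 ≠ 0 := fac_ne hq (c := (4 * c.1, 1)) (by omega)
    have e1 := lte (hd.1 h) (h5' _) (n := 4) (by decide) (fac_ne hq hc) (by rw [e3, ← pow_mul, mul_comm]; exact n1)
    have e2 := lte h3 (h5' _) hc.ne' (fac_ne hq (c := (4, 1)) (by decide)) (by rw [one_pow, ← pow_mul]; exact n1)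
    rw [e3, ← pow_mul, mul_comm, pow_mul, padicValNat.eq_zero_of_not_dvd (n := 4) (by decide), add_zero] at e1
    rw [one_pow, e1] at e2
    rw [e2, if_pos h, mul_one, h, Bool.true_and]
    congr 1
    generalize c.1 = j at hc hc'
    by_cases h4 : j % 5 = 0
    · rw [if_pos (by simpa using h4)]
      obtain ⟨i, rfl⟩ := Nat.dvd_of_mod_eq_zero h4
      rw [padicValNat.mul (by decide) (by omega), padicValNat.self (by decide),
        padicValNat.eq_zero_of_not_dvd fun h => by have := Nat.le_of_dvd (by omega) h; omega]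
    · rw [if_neg (by simpa using h4), padicValNat.eq_zero_of_not_dvd fun h => h4 (Nat.mod_eq_zero_of_dvd h)]
  · rw [if_neg h, if_neg (by simp [h]), padicValNat.eq_zero_of_not_dvd fun h1 => h (hd.2 (Int.natCast_dvd.2 h1))]
    rfl

theorem nl_ne {q : ℕ} (hq : 2 ≤ q) {L : List (ℕ × ℤˣ)} (h : ∀ c ∈ L, 0 < c.1) : nl q L ≠ 0 :=
  List.prod_ne_zero fun h1 => by
    obtain ⟨c, hc, e⟩ := List.mem_map.1 h1
    exact fac_ne hq (h c hc) (Int.natAbs_eq_zero.1 e)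

theorem val_nl {q : ℕ} (hq : 2 ≤ q) (h5 : ¬ 5 ∣ q) {L : List (ℕ × ℤˣ)} (h : ∀ c ∈ L, 0 < c.1 ∧ c.1 < 25) :
    (nl q L).factorization 5 = padicValNat 5 ((q : ℤ) ^ 4 - 1).natAbs * c1 (q % 5) L + c2 (q % 5) L := by
  induction L with
  | nil => simp [nl, c1, c2]
  | cons c L ih =>
    have h1 := h c List.mem_cons_self
    have h2 : ∀ c' ∈ L, 0 < c'.1 ∧ c'.1 < 25 := fun c' hc' => h c' (List.mem_cons_of_mem _ hc')
    rw [show nl q (c :: L) = ((q : ℤ) ^ c.1 - c.2).natAbs * nl q L from rfl,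
      Nat.factorization_mul (Int.natAbs_ne_zero.2 (fac_ne hq h1.1)) (nl_ne hq fun c' hc' => (h2 c' hc').1), Finsupp.add_apply,
      ih h2, val_one hq h5 h1.1 h1.2]
    simp only [c1, c2, List.map_cons, List.sum_cons]
    ring

/-- the check for one list -/
def ok (r : ℕ) (b : Bool) (n : ℕ) (ε : ℤˣ) (L : List (ℕ × ℤˣ)) : Bool :=
  (L.all fun c => decide (0 < c.1) && decide (c.1 < 25)) && ((ordL b n ε).all fun c => decide (0 < c.1) && decide (c.1 < 25)) &&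
    (c1 r L == c1 r (ordL b n ε)) && (c2 r L == c2 r (ordL b n ε))

theorem of_ok {q : ℕ} (hq : 2 ≤ q) (h5 : ¬ 5 ∣ q) {b : Bool} {n : ℕ} {ε : ℤˣ} {L : List (ℕ × ℤˣ)}
    (h : ok (q % 5) b n ε L = true) : (nl q L).factorization 5 = (ordP b n ε q).factorization 5 := by
  simp only [ok, Bool.and_eq_true, List.all_eq_true, decide_eq_true_eq, beq_iff_eq] at h
  rw [← nl_ordL (by omega), val_nl hq h5 h.1.1.1, val_nl hq h5 h.1.1.2, h.1.2, h.2]

/-- the decidable form of `Rg` -/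
def rg (d : ℕ) (b : Bool) (k : ℕ) (ε : ℤˣ) : Bool :=
  (d == 1 && (decide (k ≤ 4) || (!b && k == 5 && ε == -1))) || (d == 2 && (decide (k ≤ 4) || (!b && k == 5 && ε == 1))) ||
    (d == 4 && (decide (k ≤ 9) || (!b && k == 10 && ε == 1)))

theorem all_ok : ∀ x ∈ [(1, 1), (2, 4), (4, 2), (4, 3)], ∀ b ∈ [true, false], ∀ n ∈ List.range 10, ∀ ε ∈ [(1 : ℤˣ), -1],
    rg x.1 b (n + 1) ε = true → ((syl x.1 b (n + 1) ε).all fun L => ok x.2 b (n + 1) ε L) = true := by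
  decide +kernel

end Sy5

open Sy5

theorem Od.not_dvd {d q : ℕ} (h : Od d q) : ¬ 5 ∣ q := by
  unfold Od at h
  omega

theorem exists_od {q : ℕ} (h : ¬ 5 ∣ q) : ∃ d, Od d q := by
  have : q % 5 = 1 ∨ q % 5 = 4 ∨ q % 5 = 2 ∨ q % 5 = 3 := by omega
  rcases this with h | h | h
  exacts [⟨1, .inl ⟨rfl, h⟩⟩, ⟨2, .inr (.inl ⟨rfl, h⟩)⟩, ⟨4, .inr (.inr ⟨rfl, h⟩)⟩]

/-- **the types `syl` are the types of Sylow tori** -/
theorem val_syl {d q n : ℕ} {b : Bool} {ε : ℤˣ} (hq : 2 ≤ q) (hn : 1 ≤ n) (hd : Od d q) (hr : Rg d b n ε)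
    {L : List (ℕ × ℤˣ)} (hL : L ∈ syl d b n ε) : (nl q L).factorization 5 = (ordP b n ε q).factorization 5 := by
  obtain ⟨n, rfl⟩ : ∃ m, n = m + 1 := ⟨n - 1, by omega⟩
  refine of_ok hq hd.not_dvd (List.all_eq_true.1 (all_ok (d, q % 5) ?_ b ?_ n ?_ ε ?_ ?_) L hL)
  · rcases hd with ⟨rfl, h⟩ | ⟨rfl, h⟩ | ⟨rfl, h | h⟩ <;> rw [h] <;> decide
  · cases b <;> decide
  · unfold Rg at hr
    rw [List.mem_range]
    omega
  · rcases Int.units_eq_one_or ε with rfl | rfl <;> decide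
  · simpa [rg, Rg, and_assoc, or_assoc] using hr

/-- the extra torus of `D₁₀` -/
theorem val_Lx {q : ℕ} (hd : Od 4 q) : (nl q Lx).factorization 5 = (ordP false 10 1 q).factorization 5 := by
  refine of_ok (by unfold Od at hd; omega) hd.not_dvd ?_
  rcases hd with ⟨h, -⟩ | ⟨h, -⟩ | ⟨-, h | h⟩
  · omega
  · omega
  all_goals
    rw [h]
    decide +kernel

variable {p : ℕ} [Fact p.Prime] {k : Type} [Field k] [CharP k p] {Y : Type} [Group Y] {N : Type} [Fintype N]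
  [DecidableEq N] {ρ : Y →* GL N k} {F : MulAut Y} {G : Subgroup Y} [IsAlgClosed k] {D : Datum p ρ F G} {n : ℕ} {b : Bool}
  {q d : ℕ}

/-- **the elements of Sylow type give Sylow tori** -/
theorem sylT_of (hO : BoxOrd) (Φ : Fm D n b q) (hq : 2 ≤ q) (hd : Od d q) (hr : Rg d b n (sgn Φ.E.τ))
    (h : (Nat.card ↥(GF F G)).factorization 5 = (ordP b n (sgn Φ.E.τ) q).factorization 5) (w : D.W) (hw : Φ.Sy d w) :
    SylT D 5 w := by
  obtain ⟨L, h1, h2⟩ := hw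
  rw [SylT, h, hO Φ w L h2]
  exact (val_syl hq (le_trans one_le_two Φ.E.two) hd hr h1).symm

/-- all types `syl` have the same `5`-part -/
theorem val_syl_eq {ε : ℤˣ} (hq : 2 ≤ q) (hn : 1 ≤ n) (hd : Od d q) (hr : Rg d b n ε) {L L' : List (ℕ × ℤˣ)}
    (hL : L ∈ syl d b n ε) (hL' : L' ∈ syl d b n ε) : (nl q L).factorization 5 = (nl q L').factorization 5 :=
  (val_syl hq hn hd hr hL).trans (val_syl hq hn hd hr hL').symm

/-- the extra torus of `D₁₀` is a Sylow torus -/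
theorem sylT_Lx (hO : BoxOrd) (Φ : Fm D 10 false q) (hd : Od 4 q) (hε : sgn Φ.E.τ = 1) {w₀ w : D.W}
    (h0 : Φ.Sy 4 w₀) (h1 : SylT D 5 w₀) (hw : HasTy (Φ.E.g w) Finset.univ Lx) : SylT D 5 w := by
  obtain ⟨L, h2, h3⟩ := h0
  rw [hε] at h2
  rw [SylT, h1, hO Φ w Lx hw, hO Φ w₀ L h3]
  exact (val_syl (by unfold Od at hd; omega) (by decide) hd (.inr (.inr ⟨rfl, .inr ⟨rfl, rfl, rfl⟩⟩)) h2).trans
    (val_Lx hd).symm

end Cfsg.Agent.LV.Cl
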