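import Cfsg.Agent.LV.Cl.Defs

/-!
# LV, classical groups: the Fourier transform in the signs (helper89)
-/

set_option autoImplicit false
set_option linter.unusedSectionVars false
set_option linter.dupNamespace false

namespace Cfsg.Agent.LV.Cl.Bas

open Equiv Finset Cfsg.Agent.H614

variable {n : ℕ} {T A A' : Finset (Fin n)} {π h : Perm (Fin n)} {s u : Fin n → ℤˣ} {Y : SG n → ℂ}

/-- the permutations supported on `T` -/
def P (T : Finset (Fin n)) : Finset (Perm (Fin n)) := {π | ∀ j, j ∉ T → π j = j}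

/-- the signs supported on `T` -/
def S (T : Finset (Fin n)) : Finset (Fin n → ℤˣ) := {s | ∀ j, j ∉ T → s j = 1}

theorem mem_P : π ∈ P T ↔ ∀ j, j ∉ T → π j = j := by simp [P]

theorem mem_S : s ∈ S T ↔ ∀ j, j ∉ T → s j = 1 := by simp [S]

theorem mk_mem : (⟨π, s⟩ : SG n) ∈ On T ↔ π ∈ P T ∧ s ∈ S T := by
  rw [mem_On, mem_P, mem_S]
  exact ⟨fun h => ⟨fun j hj => (h j hj).1, fun j hj => (h j hj).2⟩, fun h j hj => ⟨h.1 j hj, h.2 j hj⟩⟩

theorem one_mem_S : 1 ∈ S T := mem_S.2 fun _ _ => rfl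

theorem card_S_ne : ((#(S T) : ℕ) : ℂ) ≠ 0 := Nat.cast_ne_zero.2 (card_ne_zero_of_mem one_mem_S)

theorem sum_On {V : Type*} [AddCommMonoid V] (f : SG n → V) :
    ∑ᶠ g : On T, f g = ∑ π ∈ P T, ∑ s ∈ S T, f ⟨π, s⟩ := by
  have := Fintype.ofFinite (On T)
  rw [finsum_eq_sum_of_fintype, ← sum_product']
  exact sum_bij' (fun g _ => (g.1.π, g.1.s)) (fun x hx => ⟨⟨x.1, x.2⟩, mk_mem.2 (mem_product.1 hx)⟩)
    (fun g _ => mem_product.2 (mk_mem.1 g.2)) (fun _ _ => mem_univ _) (fun _ _ => rfl) (fun _ _ => rfl) fun _ _ => rfl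

theorem stab_of_mem (hπ : π ∈ P T) : Stab T π := fun x => by
  rw [mem_P] at hπ
  refine ⟨fun h1 => by_contra fun h2 => h2 (hπ x h2 ▸ h1), fun h1 => by_contra fun h2 => h2 ?_⟩
  rwa [π.injective (hπ _ h2)]

theorem stab_sdiff (hπ : π ∈ P T) (hA : Stab A π) : Stab (T \ A) π := fun x => by
  rw [mem_sdiff, mem_sdiff, stab_of_mem hπ x, hA x]

theorem inv_mem_P (hπ : π ∈ P T) : π⁻¹ ∈ P T := mem_P.2 fun j hj => by rw [Perm.inv_eq_iff_eq, mem_P.1 hπ j hj]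

theorem mul_mem_P (hπ : π ∈ P T) (hh : h ∈ P T) : π * h ∈ P T :=
  mem_P.2 fun j hj => by rw [Perm.mul_apply, mem_P.1 hh j hj, mem_P.1 hπ j hj]

/-- the character of the group of signs -/
noncomputable def χ (B : Finset (Fin n)) (s : Fin n → ℤˣ) : ℂ := ∏ j ∈ B, ((s j : ℤ) : ℂ)

theorem χ_mul (B : Finset (Fin n)) (s u : Fin n → ℤˣ) : χ B (s * u) = χ B s * χ B u := by
  simp only [χ, Pi.mul_apply, Units.val_mul, Int.cast_mul, prod_mul_distrib]

theorem χ_sq (B : Finset (Fin n)) (s : Fin n → ℤˣ) : χ B s * χ B s = 1 := by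
  rw [← χ_mul, χ]
  exact prod_eq_one fun j _ => by rw [Pi.mul_apply, Int.units_mul_self]; simp

theorem χ_tt (B : Finset (Fin n)) (j : Fin n) : χ B (tt j).s = if j ∈ B then -1 else 1 := by
  have : ∀ x, ((((tt j).s x : ℤˣ) : ℤ) : ℂ) = if x = j then -1 else 1 := fun x => by
    simp only [tt]
    split_ifs <;> simp
  simp only [χ, this, prod_ite_eq']

theorem tt_mem {j : Fin n} (hj : j ∈ T) : (tt j).s ∈ S T := mem_S.2 fun x hx => if_neg fun e : x = j => hx (e ▸ hj)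

theorem sum_shift (hu : u ∈ S T) (f : (Fin n → ℤˣ) → ℂ) : ∑ s ∈ S T, f (s * u) = ∑ s ∈ S T, f s := by
  refine sum_equiv (Equiv.mulRight u) (fun s => ?_) fun _ _ => rfl
  rw [mem_S, mem_S]
  refine forall₂_congr fun j hj => ?_
  show _ ↔ s j * u j = 1
  rw [mem_S.1 hu j hj, mul_one]

theorem sum_eq_zero_of_shift (hu : u ∈ S T) {f : (Fin n → ℤˣ) → ℂ} (h : ∀ s ∈ S T, f (s * u) = -f s) :
    ∑ s ∈ S T, f s = 0 := by
  have h1 := sum_shift hu f
  rw [sum_congr rfl h, sum_neg_distrib] at h1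
  exact CharZero.neg_eq_self_iff.1 h1

theorem χ_ortho (hA : A ⊆ T) (hA' : A' ⊆ T) :
    ∑ s ∈ S T, χ (T \ A) s * χ (T \ A') s = if A = A' then (#(S T) : ℂ) else 0 := by
  split_ifs with e
  · simp only [e, χ_sq, sum_const, nsmul_eq_mul, mul_one]
  obtain ⟨j, hj⟩ : ∃ j, ¬ (j ∈ A ↔ j ∈ A') := by
    by_contra h1
    exact e (Finset.ext fun j => by_contra fun h2 => h1 ⟨j, h2⟩)
  have hT : j ∈ T := by_contra fun h1 => hj ⟨fun h2 => absurd (hA h2) h1, fun h2 => absurd (hA' h2) h1⟩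
  refine sum_eq_zero_of_shift (tt_mem hT) fun s _ => ?_
  rw [χ_mul, χ_mul, χ_tt, χ_tt]
  by_cases h1 : j ∈ A <;> by_cases h2 : j ∈ A' <;> simp [h1, h2, hT] at hj ⊢

/-- the Fourier transform -/
noncomputable def hat (T : Finset (Fin n)) (Y : SG n → ℂ) (A : Finset (Fin n)) (π : Perm (Fin n)) : ℂ :=
  ∑ s ∈ S T, Y ⟨π, s⟩ * χ (T \ A) s

theorem eq_zero_of_hat (H : ∀ A ⊆ T, hat T Y A π = 0) (hs : s ∈ S T) : Y ⟨π, s⟩ = 0 := by
  have h1 : ∑ A ∈ T.powerset, hat T Y A π * χ (T \ A) s = 0 :=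
    sum_eq_zero fun A hA => by rw [H A (mem_powerset.1 hA), zero_mul]
  have h2 : ∀ u : Fin n → ℤˣ, ∑ A ∈ T.powerset, χ (T \ A) u = ∏ j ∈ T, (1 + ((u j : ℤ) : ℂ)) := fun u => by
    rw [prod_add]
    simp only [prod_const_one, one_mul, χ]
  simp only [hat, sum_mul, mul_assoc, ← χ_mul] at h1
  rw [sum_comm] at h1
  simp only [← mul_sum, h2] at h1
  rw [sum_eq_single_of_mem s hs] at h1
  · refine (mul_eq_zero.1 h1).resolve_right (prod_ne_zero_iff.2 fun j _ => ?_)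
    rw [Pi.mul_apply, Int.units_mul_self]
    norm_num
  · intro u hu hne
    obtain ⟨j, hj⟩ := Function.ne_iff.1 hne
    have hT : j ∈ T := by_contra fun h3 => hj (by rw [mem_S.1 hu j h3, mem_S.1 hs j h3])
    refine mul_eq_zero_of_right _ (prod_eq_zero hT ?_)
    rw [Pi.mul_apply]
    rcases Int.units_eq_one_or (u j) with e | e <;> rcases Int.units_eq_one_or (s j) with e' | e' <;>
      simp [e, e'] at hj ⊢

/-- class functions -/
def Cf (T : Finset (Fin n)) (Y : SG n → ℂ) : Prop := ∀ g ∈ On T, ∀ h ∈ On T, Y (h * g * h⁻¹) = Y g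

theorem hat_conj (H : Cf T Y) (hπ : π ∈ P T) (hh : h ∈ P T) (hA : ∀ x, h x ∈ A' ↔ x ∈ A) :
    hat T Y A' (h * π * h⁻¹) = hat T Y A π := by
  symm
  refine sum_equiv (Equiv.arrowCongr h (Equiv.refl _)) (fun s => ?_) fun s hs => ?_
  · rw [mem_S, mem_S]
    refine forall₂_congr fun j hj => ?_
    show _ ↔ s (h⁻¹ j) = 1
    rw [mem_P.1 (inv_mem_P hh) j hj]
  · rw [← H _ (mk_mem.2 ⟨hπ, hs⟩) ⟨h, 1⟩ (mk_mem.2 ⟨hh, one_mem_S⟩)]
    congr 1
    · exact congrArg Y (SG.ext rfl (funext fun j => by simp [Equiv.arrowCongr, Perm.inv_def]))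
    · refine prod_equiv h (fun x => ?_) fun x _ => by simp [Equiv.arrowCongr]
      rw [mem_sdiff, mem_sdiff, hA, stab_of_mem hh x]

theorem hat_zero (H : Cf T Y) (hπ : π ∈ P T) (hA : ¬ Stab A π) : hat T Y A π = 0 := by
  obtain ⟨x, hx⟩ := not_forall.1 hA
  have hT : x ∈ T := by_contra fun h1 => hx (by rw [mem_P.1 hπ x h1])
  have hT' : π x ∈ T := (stab_of_mem hπ x).2 hT
  have e : ∀ y, (tt (π x)).s (π y) = (tt x).s y := fun y => by simp only [tt, π.injective.eq_iff]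
  have hu : (tt x).s * (tt (π x)).s ∈ S T :=
    mem_S.2 fun j hj => by rw [Pi.mul_apply, mem_S.1 (tt_mem hT) j hj, mem_S.1 (tt_mem hT') j hj, mul_one]
  refine sum_eq_zero_of_shift hu fun s hs => ?_
  have h1 : Y ⟨π, s * ((tt x).s * (tt (π x)).s)⟩ = Y ⟨π, s⟩ := by
    rw [← H _ (mk_mem.2 ⟨hπ, hs⟩) (tt (π x)) (mk_mem.2 ⟨mem_P.2 fun _ _ => rfl, tt_mem hT'⟩)]
    refine congrArg Y (SG.ext (by simp [tt]) (funext fun j => ?_))
    show s j * ((tt x).s j * (tt (π x)).s j) = (tt (π x)).s (π j) * s j * (tt (π x)).s j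
    rw [e, mul_left_comm, mul_assoc]
  rw [h1, χ_mul, χ_mul, χ_tt, χ_tt]
  by_cases h1 : x ∈ A <;> by_cases h2 : π x ∈ A <;> simp [h1, h2, hT, hT'] at hx ⊢

theorem exists_move (hA : A ⊆ T) (hA' : A' ⊆ T) (e : #A = #A') : ∃ h ∈ P T, ∀ x, h x ∈ A' ↔ x ∈ A := by
  have f : A ≃ A' := Finset.equivOfCardEq e
  have key : ∀ {B : Finset (Fin n)}, B ⊆ T → ∀ g : A → B, Function.Injective g →
      Function.Injective (Sum.elim (fun x => (g x).1) Subtype.val : A ⊕ {x // x ∉ T} → Fin n) := by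
    rintro B hB g hg (x | x) (y | y) h1 <;> simp only [Sum.elim_inl, Sum.elim_inr] at h1
    · rw [hg (Subtype.ext h1)]
    · exact absurd (h1 ▸ hB (g x).2) y.2
    · exact absurd (h1 ▸ hB (g y).2) x.2
    · rw [Subtype.ext h1]
  obtain ⟨h, hh⟩ := Perm.exists_extending_pair _ _ (key hA id Function.injective_id) (key hA' f f.injective)
  refine ⟨h, mem_P.2 fun j hj => hh (Sum.inr ⟨j, hj⟩), fun x => ⟨fun h1 => ?_, fun h1 => ?_⟩⟩
  · have h2 : h (f.symm ⟨_, h1⟩).1 = (f (f.symm ⟨_, h1⟩)).1 := hh (Sum.inl _)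
    rw [f.apply_symm_apply] at h2
    exact h.injective h2 ▸ (f.symm ⟨_, h1⟩).2
  · have h2 : h x = (f ⟨x, h1⟩).1 := hh (Sum.inl ⟨x, h1⟩)
    exact h2 ▸ (f ⟨x, h1⟩).2

/-! ### Young subgroups -/

/-- the product of two permutations of disjoint sets -/
def jn (σ : Perm A) (τ : Perm ↥(T \ A)) : Perm (Fin n) := Perm.ofSubtype σ * Perm.ofSubtype τ

theorem jn_left (σ : Perm A) (τ : Perm ↥(T \ A)) (x : A) : jn σ τ x = σ x := by
  rw [jn, Perm.mul_apply, Perm.ofSubtype_apply_of_not_mem τ (fun h => (mem_sdiff.1 h).2 x.2), Perm.ofSubtype_apply_coe]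

theorem jn_right (σ : Perm A) (τ : Perm ↥(T \ A)) (x : ↥(T \ A)) : jn σ τ x = τ x := by
  rw [jn, Perm.mul_apply, Perm.ofSubtype_apply_coe, Perm.ofSubtype_apply_of_not_mem σ (mem_sdiff.1 (τ x).2).2]

theorem jn_out (σ : Perm A) (τ : Perm ↥(T \ A)) {x : Fin n} (h1 : x ∉ A) (h2 : x ∉ T) : jn σ τ x = x := by
  rw [jn, Perm.mul_apply, Perm.ofSubtype_apply_of_not_mem τ (fun h => h2 (mem_sdiff.1 h).1),
    Perm.ofSubtype_apply_of_not_mem σ h1]

theorem jn_mem (hA : A ⊆ T) (σ : Perm A) (τ : Perm ↥(T \ A)) : jn σ τ ∈ P T :=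
  mem_P.2 fun _ hj => jn_out σ τ (fun h => hj (hA h)) hj

theorem jn_stab (σ : Perm A) (τ : Perm ↥(T \ A)) : Stab A (jn σ τ) := fun x => by
  by_cases h1 : x ∈ A
  · rw [jn_left σ τ ⟨x, h1⟩]
    exact iff_of_true (σ _).2 h1
  by_cases h2 : x ∈ T
  · rw [jn_right σ τ ⟨x, mem_sdiff.2 ⟨h2, h1⟩⟩]
    exact iff_of_false (mem_sdiff.1 (τ _).2).2 h1
  · rw [jn_out σ τ h1 h2]

theorem sum_jn {V : Type*} [AddCommMonoid V] (hA : A ⊆ T) (f : Perm (Fin n) → V) :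
    ∑ π ∈ P T with Stab A π, f π = ∑ σ : Perm A, ∑ τ : Perm ↥(T \ A), f (jn σ τ) := by
  rw [← Fintype.sum_prod_type']
  symm
  refine sum_bij' (fun x _ => jn x.1 x.2) (fun π hπ => (π.subtypePerm (mem_filter.1 hπ).2,
    π.subtypePerm (stab_sdiff (mem_filter.1 hπ).1 (mem_filter.1 hπ).2)))
    (fun x _ => mem_filter.2 ⟨jn_mem hA _ _, jn_stab _ _⟩) (fun _ _ => mem_univ _) (fun x _ => Prod.ext
      (Equiv.ext fun y => Subtype.ext (jn_left _ _ y)) (Equiv.ext fun y => Subtype.ext (jn_right _ _ y))) (fun π hπ => ?_)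
    fun _ _ => rfl
  refine Equiv.ext fun x => ?_
  by_cases h1 : x ∈ A
  · exact jn_left _ _ ⟨x, h1⟩
  by_cases h2 : x ∈ T
  · exact jn_right _ _ ⟨x, mem_sdiff.2 ⟨h2, h1⟩⟩
  · rw [jn_out _ _ h1 h2, mem_P.1 (mem_filter.1 hπ).1 x h2]

theorem tyO_left (σ : Perm A) (τ : Perm ↥(T \ A)) : tyO (jn σ τ) A = ty σ := by
  rw [tyO, dif_pos (jn_stab σ τ)]
  exact congrArg ty (Equiv.ext fun y => Subtype.ext (jn_left _ _ y))

theorem tyO_right (hA : A ⊆ T) (σ : Perm A) (τ : Perm ↥(T \ A)) : tyO (jn σ τ) (T \ A) = ty τ := by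
  rw [tyO, dif_pos (stab_sdiff (jn_mem hA σ τ) (jn_stab σ τ))]
  exact congrArg ty (Equiv.ext fun y => Subtype.ext (jn_right _ _ y))

theorem jn_mul (σ σ' : Perm A) (τ τ' : Perm ↥(T \ A)) : jn (σ * σ') (τ * τ') = jn σ τ * jn σ' τ' := by
  have h : Commute (Perm.ofSubtype τ : Perm (Fin n)) (Perm.ofSubtype σ') := Perm.Disjoint.commute fun x => by
    by_cases h1 : x ∈ A
    · exact Or.inl (Perm.ofSubtype_apply_of_not_mem τ fun h => (mem_sdiff.1 h).2 h1)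
    · exact Or.inr (Perm.ofSubtype_apply_of_not_mem σ' h1)
  simp only [jn, map_mul, mul_assoc]
  rw [← mul_assoc (Perm.ofSubtype τ), h.eq, mul_assoc]

theorem jn_conj (σ σ' : Perm A) (τ τ' : Perm ↥(T \ A)) :
    jn (σ' * σ * σ'⁻¹) (τ' * τ * τ'⁻¹) = jn σ' τ' * jn σ τ * (jn σ' τ')⁻¹ := by
  rw [eq_mul_inv_iff_mul_eq, ← jn_mul, ← jn_mul, inv_mul_cancel_right, inv_mul_cancel_right]

theorem card_P : #(P T) = (#T).factorial := by
  have h1 := sum_jn (T := T) Subset.rfl fun _ => (1 : ℕ)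
  rw [filter_true_of_mem fun _ => stab_of_mem] at h1
  simpa [Fintype.card_perm] using h1

theorem card_On : (Nat.card (On T) : ℂ) = (#T).factorial * #(S T) := by
  have := Fintype.ofFinite (On T)
  have h1 := sum_On (T := T) fun _ => (1 : ℂ)
  rw [finsum_eq_sum_of_fintype] at h1
  simpa [card_P] using h1

end Cfsg.Agent.LV.Cl.Bas
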