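import Cfsg.Agent.LV.Cl.Defs

/-!
# LV, classical groups: the certificates, tables and sparse vectors (helper58)

Pairs of beta lists are coded by numbers (`dc`); `En` is a row of the table of rank `k` (levels, rim hooks of length one and two);
`In b k ε s`: the sparse vector `s` pairs integrally with every `Dual` vector.
-/

set_option autoImplicit false
set_option linter.dupNamespace false

namespace Cfsg.Agent.LV.Cl.Cert

/-- the set bits -/
def d1 (m : ℕ) : List ℕ := (List.range (m.log2 + 1)).filter m.testBit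

/-- the pair with the code `m` -/
def dc (m : ℕ) : Bip := (d1 (m % 1048576), d1 (m / 1048576))

/-- the code of the swapped pair -/
def sw (m : ℕ) : ℕ := m / 1048576 + 1048576 * (m % 1048576)

theorem mem_d1 (m j : ℕ) : j ∈ d1 m ↔ m.testBit j = true := by
  rw [d1, List.mem_filter, List.mem_range]
  refine ⟨fun h => h.2, fun h => ⟨?_, h⟩⟩
  have h1 := Nat.ge_two_pow_of_testBit h
  have h0 : m ≠ 0 := by have := Nat.two_pow_pos j; omega
  exact Nat.lt_succ_of_le ((Nat.le_log2 h0).2 h1)

theorem d1_inj {m m' : ℕ} (h : d1 m = d1 m') : m = m' :=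
  Nat.eq_of_testBit_eq fun j => Bool.eq_iff_iff.2 (by rw [← mem_d1, ← mem_d1, h])

theorem dc_inj {m m' : ℕ} (h : dc m = dc m') : m = m' := by
  have h1 := d1_inj (congrArg Prod.fst h)
  have h2 := d1_inj (congrArg Prod.snd h)
  omega

theorem dc_sw {m : ℕ} (h : m < 1099511627776) : dc (sw m) = ((dc m).2, (dc m).1) := by
  have h1 : sw m % 1048576 = m / 1048576 := by unfold sw; omega
  have h2 : sw m / 1048576 = m % 1048576 := by unfold sw; omega
  simp only [dc, h1, h2]

/-- the sign of a flag -/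
def us (f : Bool) : ℤˣ := bif f then -1 else 1

/-- the sign of a flag as an integer -/
def zs (f : Bool) : ℤ := bif f then -1 else 1

theorem us_coe (f : Bool) : ((us f : ℤˣ) : ℤ) = zs f := by cases f <;> rfl

theorem us_xor (f g : Bool) : us (xor f g) = us f * us g := by cases f <;> cases g <;> simp [us]

/-- the coefficient of `m` in a sparse vector -/
def look (m : ℕ) : List (ℕ × ℤ) → ℤ
  | [] => 0
  | p :: s => bif Nat.beq p.1 m then Int.add p.2 (look m s) else look m s

example := @look.eq_def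

theorem look_cons (m : ℕ) (p : ℕ × ℤ) (s : List (ℕ × ℤ)) : look m (p :: s) = (if p.1 = m then p.2 else 0) + look m s := by
  rw [look]
  by_cases h : p.1 = m
  · rw [Nat.beq_eq.mpr h, if_pos h]; rfl
  · rw [if_neg h, zero_add, Bool.eq_false_iff.2 (fun h' => h (Nat.eq_of_beq_eq_true h'))]; rfl

/-- the pairing with a sparse vector -/
noncomputable def sp (a : Bip → ℂ) (s : List (ℕ × ℤ)) : ℂ := (s.map fun p => a (dc p.1) * p.2).sum

theorem sp_cons (a : Bip → ℂ) (p : ℕ × ℤ) (s : List (ℕ × ℤ)) : sp a (p :: s) = a (dc p.1) * p.2 + sp a s := by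
  simp [sp]

theorem sum_ite_nodup (A : ℕ → ℂ) (x : ℤ) (m : ℕ) : ∀ F : List ℕ, F.Nodup → (m ∈ F ∨ A m = 0) →
    (F.map fun n => A n * ((if m = n then x else 0 : ℤ) : ℂ)).sum = A m * x
  | [], _, h => by simpa using Or.inl (h.resolve_left (by simp))
  | n :: F, hF, h => by
    rw [List.nodup_cons] at hF
    rw [List.map_cons, List.sum_cons]
    by_cases e : m = n
    · subst e
      rw [if_pos rfl, List.sum_eq_zero, add_zero]
      intro z hz
      obtain ⟨n, hn, rfl⟩ := List.mem_map.1 hz
      rw [if_neg (fun e : m = n => hF.1 (e ▸ hn))]; simp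
    · rw [if_neg e, sum_ite_nodup A x m F hF.2 (h.imp_left fun h => (List.mem_cons.1 h).resolve_left e)]; simp

theorem sp_eq (a : Bip → ℂ) (F : List ℕ) (hF : F.Nodup) : ∀ s : List (ℕ × ℤ), (∀ p ∈ s, p.1 ∈ F ∨ a (dc p.1) = 0) →
    sp a s = (F.map fun m => a (dc m) * look m s).sum
  | [], _ => by simp [sp, look]
  | p :: s, h => by
    rw [sp_cons, sp_eq a F hF s fun q hq => h q (List.mem_cons_of_mem _ hq),
      ← sum_ite_nodup (fun m => a (dc m)) p.2 p.1 F hF (h p List.mem_cons_self), ← List.sum_map_add]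
    simp only [look_cons, Int.cast_add, mul_add]

/-- a row of a table -/
structure En where
  m : ℕ
  lt : ℤ
  lf : ℤ
  a1 : List (ℤ × ℕ)
  b1 : List (ℤ × ℕ)
  a2 : List (ℤ × ℕ)
  b2 : List (ℤ × ℕ)

/-- a signed sum -/
def hs (f : ℕ → ℤ) : List (ℤ × ℕ) → ℤ
  | [] => 0
  | x :: h => Int.add (Int.mul x.1 (f x.2)) (hs f h)

example := @hs.eq_def

theorem hs_eq (f : ℕ → ℤ) : ∀ h : List (ℤ × ℕ), hs f h = (h.map fun x => x.1 * f x.2).sum
  | [] => rfl
  | x :: h => by rw [hs, hs_eq f h]; rfl

/-- the sum over the rim hooks -/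
def En.hv (e : En) (two : Bool) (η : ℤ) (f : ℕ → ℤ) : ℤ :=
  bif two then Int.add (hs f e.a2) (Int.mul η (hs f e.b2)) else Int.add (hs f e.a1) (Int.mul η (hs f e.b1))

/-- decoded hooks -/
def dh (h : List (ℤ × ℕ)) : List (ℤ × Bip) := h.map fun x => (x.1, dc x.2)

/-- hooks in the first component -/
def h1 (r : ℕ) (i : Bip) : List (ℤ × Bip) := (hk r i.1).map fun x => (x.1, (x.2, i.2))

/-- hooks in the second component -/
def h2 (r : ℕ) (i : Bip) : List (ℤ × Bip) := (hk r i.2).map fun x => (x.1, (i.1, x.2))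

/-- the check of a row -/
def enChk (e : En) : Bool :=
  Nat.blt e.m 1099511627776 && (lev true (dc e.m) == e.lt) && (lev false (dc e.m) == e.lf) && (h1 1 (dc e.m) == dh e.a1) &&
    (h2 1 (dc e.m) == dh e.b1) && (h1 2 (dc e.m) == dh e.a2) && (h2 2 (dc e.m) == dh e.b2)

/-- the check of a table -/
def tabChk (k : ℕ) (T : List En) : Bool := (bips k == T.map fun e => dc e.m) && T.all enChk

/-- the length of a hook -/
def rr (two : Bool) : ℕ := bif two then 2 else 1

theorem en_lt {e : En} (h : enChk e = true) : e.m < 1099511627776 := by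
  simp only [enChk, Bool.and_eq_true, Nat.blt_eq] at h; exact h.1.1.1.1.1.1

theorem en_lev {e : En} (h : enChk e = true) (b : Bool) : lev b (dc e.m) = bif b then e.lt else e.lf := by
  simp only [enChk, Bool.and_eq_true, beq_iff_eq] at h
  cases b
  · exact h.1.1.1.1.2
  · exact h.1.1.1.1.1.2

theorem en_hv {e : En} (h : enChk e = true) (two : Bool) (η : ℤˣ) (F : Bip → ℤ) :
    ((hk2 (rr two) η (dc e.m)).map fun x => x.1 * F x.2).sum = e.hv two η fun m => F (dc m) := by
  have key : ∀ r i, ((hk2 r η i).map fun x => x.1 * F x.2).sum =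
      ((h1 r i).map fun x => x.1 * F x.2).sum + η * ((h2 r i).map fun x => x.1 * F x.2).sum := by
    intro r i
    simp only [hk2, h1, h2, List.map_append, List.sum_append, List.map_map, Function.comp_def, mul_assoc, List.sum_map_mul_left]
  simp only [enChk, Bool.and_eq_true, beq_iff_eq] at h
  rw [key]
  cases two
  · rw [show rr false = 1 from rfl, h.1.1.1.2, h.1.1.2]
    simp only [En.hv, hs_eq, dh, List.map_map, Function.comp_def]; rfl
  · rw [show rr true = 2 from rfl, h.1.2, h.2]
    simp only [En.hv, hs_eq, dh, List.map_map, Function.comp_def]; rfl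

theorem tab_bips {k : ℕ} {T : List En} (h : tabChk k T = true) : bips k = T.map fun e => dc e.m := by
  simp only [tabChk, Bool.and_eq_true, beq_iff_eq] at h; exact h.1

theorem tab_en {k : ℕ} {T : List En} (h : tabChk k T = true) : ∀ e ∈ T, enChk e = true := by
  simp only [tabChk, Bool.and_eq_true, List.all_eq_true] at h; exact h.2

theorem sp_fub (k r : ℕ) (η : ℤˣ) (a : Bip → ℂ) : ∀ s : List (ℕ × ℤ), sp (rs k r η a) s =
    ((bips k).map fun i => a i *
      (((hk2 r η i).map fun x => x.1 * (s.map fun p => if x.2 = dc p.1 then p.2 else 0).sum).sum : ℤ)).sum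
  | [] => by simp [sp]
  | p :: s => by
    rw [sp_cons, sp_fub k r η a s]
    simp only [List.map_cons, List.sum_cons, mul_add, List.sum_map_add, Int.cast_add]
    congr 1
    rw [show rs k r η a (dc p.1) = ((bips k).map fun i =>
      a i * (((hk2 r η i).map fun x => if x.2 = dc p.1 then x.1 else 0).sum : ℤ)).sum from rfl, ← List.sum_map_mul_right]
    refine congrArg List.sum (List.map_congr_left fun i _ => ?_)
    rw [mul_assoc, ← Int.cast_mul, ← List.sum_map_mul_right]
    simp only [ite_mul, mul_ite, zero_mul, mul_zero]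

/-- The adjoint of the restriction. -/
theorem sp_rs {k : ℕ} {T : List En} (h : tabChk k T = true) (two : Bool) (η : ℤˣ) (a : Bip → ℂ) (s : List (ℕ × ℤ)) :
    sp (rs k (rr two) η a) s = (T.map fun e => a (dc e.m) * (e.hv two η fun m => look m s : ℤ)).sum := by
  have hF : ∀ (s : List (ℕ × ℤ)) m, (s.map fun p => if dc m = dc p.1 then p.2 else 0).sum = look m s := by
    intro s m
    induction s with
    | nil => rfl
    | cons p s ih =>
      rw [look_cons, ← ih, List.map_cons, List.sum_cons]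
      congr 1
      exact if_congr ⟨fun e => (dc_inj e).symm, fun e => by rw [e]⟩ rfl rfl
  rw [sp_fub, tab_bips h, List.map_map]
  refine congrArg List.sum (List.map_congr_left fun e he => ?_)
  simp only [Function.comp_def]
  rw [en_hv (tab_en h e he) two η fun i => (s.map fun p => if i = dc p.1 then p.2 else 0).sum]
  simp only [hF]

/-- the nonzero values on the level `c` -/
def stp (b : Bool) (c : ℤ) (g : En → ℤ) : List En → List (ℕ × ℤ)
  | [] => []
  | e :: T => bif (bif b then e.lt else e.lf) == c then (bif g e == 0 then stp b c g T else (e.m, g e) :: stp b c g T)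
      else stp b c g T

example := @stp.eq_def

/-- the nonzero values -/
def nz (g : En → ℤ) : List En → List (ℕ × ℤ)
  | [] => []
  | e :: T => bif g e == 0 then nz g T else (e.m, g e) :: nz g T

example := @nz.eq_def

theorem sp_nz (a : Bip → ℂ) (g : En → ℤ) : ∀ T : List En, sp a (nz g T) = (T.map fun e => a (dc e.m) * g e).sum
  | [] => rfl
  | e :: T => by
    rw [nz, List.map_cons, List.sum_cons, ← sp_nz a g T]
    by_cases h : g e = 0
    · simp [h]
    · rw [beq_eq_false_iff_ne.2 h, cond_false, sp_cons]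

theorem sp_stp (a : Bip → ℂ) (b : Bool) (c : ℤ) (g : En → ℤ) : ∀ T : List En, (∀ e ∈ T, enChk e = true) →
    sp a (stp b c g T) = (T.map fun e => cut b c a (dc e.m) * g e).sum
  | [], _ => rfl
  | e :: T, hT => by
    rw [stp, List.map_cons, List.sum_cons, ← sp_stp a b c g T fun e he => hT e (List.mem_cons_of_mem _ he),
      ← en_lev (hT e List.mem_cons_self), show cut b c a (dc e.m) = if lev b (dc e.m) = c then a (dc e.m) else 0 from rfl]
    by_cases h0 : lev b (dc e.m) = c
    · rw [beq_iff_eq.2 h0, cond_true, if_pos h0]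
      by_cases h : g e = 0
      · simp [h]
      · rw [beq_eq_false_iff_ne.2 h, cond_false, sp_cons]
    · rw [beq_eq_false_iff_ne.2 h0, cond_false, if_neg h0, zero_mul, zero_add]

/-- integral pairing with the `Dual` vectors -/
def In (b : Bool) (k : ℕ) (f : Bool) (s : List (ℕ × ℤ)) : Prop :=
  ∀ (ε : ℤˣ) (a : Bip → ℂ), (b = false → ε = us f) → Dual b k ε a → ∃ z : ℤ, sp a s = z

/-- all vectors of a list -/
def AllIn (b : Bool) (k : ℕ) (f : Bool) (V : List (List (ℕ × ℤ))) : Prop := ∀ s ∈ V, In b k f s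

theorem AllIn.getD {b : Bool} {k : ℕ} {f : Bool} {V : List (List (ℕ × ℤ))} (h : AllIn b k f V) (j : ℕ) :
    In b k f (V.getD j []) := by
  rw [List.getD_eq_getElem?_getD]
  cases e : V[j]? with
  | none => exact fun _ _ _ _ => ⟨0, by simp [sp]⟩
  | some s => exact h s (List.mem_of_getElem? e)

theorem dc_vc : dc 1072694271 = (vc, vc) := by decide +kernel

theorem allIn_zero (b : Bool) : AllIn b 0 false [[(1072694271, 1)]] := by
  intro s hs ε a hε ha
  obtain rfl := List.mem_singleton.1 hs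
  obtain ⟨z, hz⟩ : ∃ z : ℤ, a (vc, vc) = z := ha (by cases b; exacts [Or.inr (hε rfl), Or.inl rfl])
  exact ⟨z, by simp [sp, dc_vc, hz]⟩

theorem allIn_nil (b : Bool) (k : ℕ) (f : Bool) : AllIn b k f [] := fun _ h => absurd h List.not_mem_nil

theorem In.step {b : Bool} {k : ℕ} {f g f' : Bool} {s : List (ℕ × ℤ)} {T : List En} (h : In b k f s)
    (hT : tabChk (k + 1) T = true) (c : ℤ) (hf : b = false → f = xor f' g) :
    In b (k + 1) f' (stp b c (fun e => e.hv false (zs g) fun m => look m s) T) := by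
  intro ε a hε ha
  have hd : Dual b k (ε * us g) (rs (k + 1) 1 (us g) (cut b c a)) := ha c (us g)
  obtain ⟨z, hz⟩ := h _ _ (fun hb => by rw [hε hb, hf hb, us_xor]) hd
  refine ⟨z, ?_⟩
  rw [← hz, sp_stp a b c _ T (tab_en hT), ← us_coe]
  exact (sp_rs hT false (us g) (cut b c a) s).symm

/-- the check of the vectors of the next rank -/
def vChk (T : List En) (b f : Bool) (Vp Vm : List (List (ℕ × ℤ))) (P : List (ℕ × ℤ × Bool)) (V : List (List (ℕ × ℤ))) : Bool :=
  (P.map fun p => stp b p.2.1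
    (fun e => e.hv false (zs p.2.2) fun m => look m ((bif !b && xor f p.2.2 then Vm else Vp).getD p.1 [])) T) == V

theorem allIn_step {b f : Bool} {k : ℕ} {T : List En} {Vp Vm V : List (List (ℕ × ℤ))} {P : List (ℕ × ℤ × Bool)}
    (hT : tabChk (k + 1) T = true) (hp : AllIn b k false Vp) (hm : AllIn b k true Vm) (h : vChk T b f Vp Vm P V = true) :
    AllIn b (k + 1) f V := by
  intro s hs
  rw [vChk, beq_iff_eq] at h
  rw [← h] at hs
  obtain ⟨p, -, rfl⟩ := List.mem_map.1 hs
  cases e : (!b && xor f p.2.2)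
  · exact (hp.getD p.1).step hT _ fun hb => by simpa [hb] using e
  · exact (hm.getD p.1).step hT _ fun hb => by simpa [hb] using e

/-- integral pairing with the `Dual2` vectors -/
def All2 (j : ℕ) (W : List (List (ℕ × ℤ))) : Prop := ∀ w ∈ W, ∀ a : Bip → ℂ, Dual2 j a → ∃ z : ℤ, sp a w = z

theorem all2_zero : All2 0 [[(1072694271, 1)]] := by
  intro s hs a ha
  obtain rfl := List.mem_singleton.1 hs
  obtain ⟨z, hz⟩ : ∃ z : ℤ, a (vc, vc) = z := ha
  exact ⟨z, by simp [sp, dc_vc, hz]⟩

/-- twice the vector of the next rank -/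
def st2 (T1 T2 : List En) (c : ℤ) (w : List (ℕ × ℤ)) : List (ℕ × ℤ) :=
  stp false c (fun e => Int.add (e.hv false 1 fun m => look m (nz (fun e => e.hv false 1 fun m => look m w) T1))
    (e.hv true 1 fun m => look m w)) T2

/-- the check of the vectors for `Dual2` -/
def wChk (T1 T2 : List En) (W : List (List (ℕ × ℤ))) (P : List (ℕ × ℤ)) (W' : List (List (ℕ × ℤ))) : Bool :=
  (P.map fun p => st2 T1 T2 p.2 (W.getD p.1 [])) == W'.map fun w => w.map fun x => (x.1, Int.mul 2 x.2)

theorem all2_step {j : ℕ} {T1 T2 : List En} {W W' : List (List (ℕ × ℤ))} {P : List (ℕ × ℤ)}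
    (hT1 : tabChk (2 * j + 1) T1 = true) (hT2 : tabChk (2 * j + 2) T2 = true) (hW : All2 j W)
    (h : wChk T1 T2 W P W' = true) : All2 (j + 1) W' := by
  intro w' hw' a ha
  rw [wChk, beq_iff_eq] at h
  have h1 := List.mem_map_of_mem (f := fun w : List (ℕ × ℤ) => w.map fun x => (x.1, Int.mul 2 x.2)) hw'
  rw [← h] at h1
  obtain ⟨p, -, hp⟩ := List.mem_map.1 h1
  have hd : Dual2 j fun i => (rs (2 * j + 1) 1 1 (rs (2 * j + 2) 1 1 (cut false p.2 a)) i +
    rs (2 * j + 2) 2 1 (cut false p.2 a) i) / 2 := ha p.2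
  obtain ⟨z, hz⟩ : ∃ z : ℤ, sp (fun i => (rs (2 * j + 1) 1 1 (rs (2 * j + 2) 1 1 (cut false p.2 a)) i +
      rs (2 * j + 2) 2 1 (cut false p.2 a) i) / 2) (W.getD p.1 []) = z := by
    rw [List.getD_eq_getElem?_getD]
    cases e : W[p.1]? with
    | none => exact ⟨0, by simp [sp]⟩
    | some s => exact hW s (List.mem_of_getElem? e) _ hd
  refine ⟨z, ?_⟩
  have e1 : ∀ (X Y : Bip → ℂ) (s : List (ℕ × ℤ)), sp (fun i => (X i + Y i) / 2) s = (sp X s + sp Y s) / 2 := by
    intro X Y s
    induction s with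
    | nil => simp [sp]
    | cons q s ih => rw [sp_cons, sp_cons, sp_cons, ih]; ring
  have e2 : ∀ s : List (ℕ × ℤ), sp a (s.map fun x => (x.1, Int.mul 2 x.2)) = 2 * sp a s := by
    intro s
    induction s with
    | nil => simp [sp]
    | cons q s ih =>
      rw [List.map_cons, sp_cons, sp_cons, ih, show Int.mul 2 q.2 = 2 * q.2 from rfl]; push_cast; ring
  have e3 := sp_rs hT1 false 1 (rs (2 * j + 2) 1 1 (cut false p.2 a)) (W.getD p.1 [])
  rw [← sp_nz] at e3
  have e4 := sp_rs hT2 false 1 (cut false p.2 a)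
    (nz (fun e => e.hv false ((1 : ℤˣ) : ℤ) fun m => look m (W.getD p.1 [])) T1)
  have e5 := sp_rs hT2 true 1 (cut false p.2 a) (W.getD p.1 [])
  have e6 := e2 w'
  rw [← hp, st2, sp_stp a false p.2 _ T2 (tab_en hT2)] at e6
  rw [e1] at hz
  have e7 : ∀ x y : ℤ, Int.add x y = x + y := fun _ _ => rfl
  simp only [e7, Int.cast_add, mul_add, List.sum_map_add] at e6
  simp only [rr, cond_true, cond_false, Units.val_one] at e3 e4 e5
  rw [e3, e4, e5, e6] at hz
  rw [← hz]; ring

/-- first match -/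
def lk (x : ℤ) (m : ℕ) : List (ℕ × ℤ) → ℤ
  | [] => x
  | p :: s => bif Nat.beq p.1 m then p.2 else lk x m s

example := @lk.eq_def

/-- signed cycle types -/
abbrev Ty : Type := List (ℕ × ℤˣ)

/-- the table of the type `L` -/
def fd (L : Ty) : List (Ty × List (ℕ × ℤ)) → List (ℕ × ℤ)
  | [] => []
  | x :: X => bif x.1 == L then x.2 else fd L X

example := @fd.eq_def

/-- the value from the tables -/
def lv (X : List (Ty × List (ℕ × ℤ))) (L : Ty) (m : ℕ) : ℤ := lk (val L (dc m)) m (fd L X)

/-- the tables of values are correct -/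
def ValOK (X : List (Ty × List (ℕ × ℤ))) : Prop := ∀ x ∈ X, ∀ p ∈ x.2, val x.1 (dc p.1) = p.2

theorem lv_eq {X : List (Ty × List (ℕ × ℤ))} (h : ValOK X) (L : Ty) (m : ℕ) : lv X L m = val L (dc m) := by
  have h1 : ∀ s : List (ℕ × ℤ), (∀ p ∈ s, val L (dc p.1) = p.2) → lk (val L (dc m)) m s = val L (dc m) := by
    intro s hs
    induction s with
    | nil => rfl
    | cons p s ih =>
      rw [lk]
      cases e : Nat.beq p.1 m
      · exact ih fun q hq => hs q (List.mem_cons_of_mem _ hq)
      · rw [cond_true, ← hs p List.mem_cons_self, Nat.eq_of_beq_eq_true e]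
  refine h1 _ ?_
  induction X with
  | nil => exact fun _ h => absurd h List.not_mem_nil
  | cons x X ih =>
    rw [fd]
    cases e : x.1 == L
    · exact ih fun y hy => h y (List.mem_cons_of_mem _ hy)
    · rw [cond_true, ← beq_iff_eq.1 e]; exact h x List.mem_cons_self

theorem ValOK.append {X Y : List (Ty × List (ℕ × ℤ))} (hX : ValOK X) (hY : ValOK Y) : ValOK (X ++ Y) :=
  fun x hx => (List.mem_append.1 hx).elim (hX x) (hY x)

theorem valOK_nil : ValOK [] := fun _ h => absurd h List.not_mem_nil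

/-- the check of new tables of values; the keys are (two, sign, tail) -/
def xChk (T : List En) (X : List (Ty × List (ℕ × ℤ))) (N : List ((Bool × Bool × Ty) × List ℤ)) : Bool :=
  N.all fun x => (T.map fun e => e.hv x.1.1 (zs x.1.2.1) (lv X x.1.2.2)) == x.2

/-- the new tables -/
def xNew (T : List En) (N : List ((Bool × Bool × Ty) × List ℤ)) : List (Ty × List (ℕ × ℤ)) :=
  N.map fun x => ((rr x.1.1, us x.1.2.1) :: x.1.2.2, (T.map fun e => e.m).zip x.2)

theorem valOK_new {k : ℕ} {T : List En} {X : List (Ty × List (ℕ × ℤ))} {N : List ((Bool × Bool × Ty) × List ℤ)}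
    (hT : tabChk k T = true) (hX : ValOK X) (h : xChk T X N = true) : ValOK (xNew T N) := by
  intro y hy p hp
  obtain ⟨x, hx, rfl⟩ := List.mem_map.1 hy
  have h1 := beq_iff_eq.1 (List.all_eq_true.1 h x hx)
  dsimp only at hp ⊢
  rw [← h1, List.zip_map'] at hp
  obtain ⟨e, he, rfl⟩ := List.mem_map.1 hp
  dsimp only
  rw [show val ((rr x.1.1, us x.1.2.1) :: x.1.2.2) (dc e.m) =
    ((hk2 (rr x.1.1) (us x.1.2.1) (dc e.m)).map fun z => z.1 * val x.1.2.2 z.2).sum from rfl, en_hv (tab_en hT e he), us_coe]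
  congr 1
  exact funext fun m => (lv_eq hX _ m).symm

end Cfsg.Agent.LV.Cl.Cert
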