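import Cfsg.Agent.LV.Cl.Cert0

/-!
# LV, classical groups: the certificates, short vectors of a block (helper58)

`enum t H` lists the integer vectors of norm at most `16` which satisfy the triangular congruences `H` modulo `t`.
-/

set_option autoImplicit false
set_option linter.dupNamespace false

namespace Cfsg.Agent.LV.Cl.Cert

/-- the scalar product -/
def dot : List ℤ → List ℤ → ℤ
  | x :: u, y :: v => Int.add (Int.mul x y) (dot u v)
  | _, _ => 0

example := @dot.eq_def

theorem dot_cons (x y : ℤ) (u v : List ℤ) : dot (x :: u) (y :: v) = x * y + dot u v := rfl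
theorem dot_nil_left (v : List ℤ) : dot [] v = 0 := rfl
theorem dot_nil_right (u : List ℤ) : dot u [] = 0 := by cases u <;> rfl

/-- the scalar product with a complex vector -/
noncomputable def dotC (r : List ℤ) (x : List ℂ) : ℂ := (List.zipWith (fun (c : ℤ) (z : ℂ) => c * z) r x).sum

theorem dotC_cons (c : ℤ) (z : ℂ) (r : List ℤ) (x : List ℂ) : dotC (c :: r) (z :: x) = c * z + dotC r x := by simp [dotC]

theorem dotC_map (A : ℕ → ℂ) (g : ℕ → ℤ) (B : List ℕ) : dotC (B.map g) (B.map A) = (B.map fun m => A m * g m).sum := by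
  simp [dotC, List.zipWith_map, mul_comm]

theorem dotC_scale (t : ℂ) : ∀ (r : List ℤ) (x : List ℂ) (y : List ℤ), (x.map fun z => t * z) = y.map (fun c : ℤ => (c : ℂ)) →
    t * dotC r x = (dot r y : ℤ)
  | [], _, _, _ => by simp [dotC, dot_nil_left]
  | _ :: _, [], y, h => by
    obtain rfl : y = [] := by simpa using h
    simp [dotC, dot_nil_right]
  | _ :: _, _ :: _, [], h => by simp at h
  | c :: r, z :: x, w :: y, h => by
    simp only [List.map_cons, List.cons.injEq] at h
    rw [dotC_cons, dot_cons, Int.cast_add, Int.cast_mul, ← dotC_scale t r x y h.2, ← h.1]; ring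

theorem dot_comm : ∀ u v : List ℤ, dot u v = dot v u
  | [], v => by rw [dot_nil_left, dot_nil_right]
  | _ :: _, [] => rfl
  | x :: u, y :: v => by rw [dot_cons, dot_cons, dot_comm u v, mul_comm]

/-- the rows of a triangular matrix -/
def pad : List (List ℤ) → List (List ℤ)
  | [] => []
  | r :: H => r :: (pad H).map fun r => 0 :: r

example := @pad.eq_def

/-- a scalar matrix in triangular form -/
def idm (t : ℤ) : ℕ → List (List ℤ)
  | 0 => []
  | s + 1 => (t :: List.replicate s 0) :: idm t s

example := @idm.eq_def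

theorem int_of_idm (t : ℤ) : ∀ x : List ℂ, (∀ r ∈ pad (idm t x.length), ∃ z : ℤ, dotC r x = z) →
    ∃ y : List ℤ, (x.map fun z => (t : ℂ) * z) = y.map fun c : ℤ => (c : ℂ)
  | [], _ => ⟨[], rfl⟩
  | z :: x, h => by
    rw [List.length_cons, idm, pad] at h
    obtain ⟨w, hw⟩ := h _ List.mem_cons_self
    have h0 : ∀ (s : ℕ) (x : List ℂ), dotC (List.replicate s 0) x = 0 := by
      intro s
      induction s with
      | zero => intro x; simp [dotC]
      | succ s ih => intro x; cases x <;> simp [List.replicate_succ, dotC_cons, ih]; simp [dotC]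
    rw [dotC_cons, h0, add_zero] at hw
    obtain ⟨y, hy⟩ := int_of_idm t x fun r hr => by
      obtain ⟨v, hv⟩ := h (0 :: r) (List.mem_cons_of_mem _ (List.mem_map_of_mem hr))
      exact ⟨v, by rw [← hv, dotC_cons]; simp⟩
    exact ⟨w :: y, by rw [List.map_cons, List.map_cons, hw, hy]⟩

/-- the candidates with their squares -/
def cand : List (ℤ × ℕ) := [(0, 0), (1, 1), (-1, 1), (2, 4), (-2, 4), (3, 9), (-3, 9), (4, 16), (-4, 16)]

/-- the extensions of a partial vector -/
def ext (t h s : ℤ) (p : List ℤ × ℕ) : List (ℤ × ℕ) → List (List ℤ × ℕ)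
  | [] => []
  | x :: c => bif Nat.ble (Nat.add x.2 p.2) 16 && Int.emod (Int.add (Int.mul h x.1) s) t == 0 then
      (x.1 :: p.1, Nat.add x.2 p.2) :: ext t h s p c else ext t h s p c

example := @ext.eq_def

/-- the short vectors -/
def enum (t : ℤ) : List (List ℤ) → List (List ℤ × ℕ)
  | [] => [([], 0)]
  | r :: H => (enum t H).flatMap fun p => ext t (r.headD 0) (dot r.tail p.1) p cand

example := @enum.eq_def

/-- the norm -/
def nrm (y : List ℤ) : ℕ := (y.map fun x => x.natAbs * x.natAbs).sum

theorem mem_ext (t h s : ℤ) (p : List ℤ × ℕ) (x : ℤ × ℕ) (h1 : x.2 + p.2 ≤ 16) (h2 : (h * x.1 + s) % t = 0) :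
    ∀ c : List (ℤ × ℕ), x ∈ c → (x.1 :: p.1, x.2 + p.2) ∈ ext t h s p c
  | [], hc => absurd hc List.not_mem_nil
  | x' :: c, hc => by
    rw [ext]
    rcases List.mem_cons.1 hc with rfl | hc
    · have e : (Nat.ble (Nat.add x.2 p.2) 16 && Int.emod (Int.add (Int.mul h x.1) s) t == 0) = true :=
        Bool.and_eq_true_iff.2 ⟨Nat.ble_eq.mpr h1, beq_iff_eq.2 h2⟩
      rw [e]; exact List.mem_cons_self
    · have := mem_ext t h s p x h1 h2 c hc
      cases (Nat.ble (Nat.add x'.2 p.2) 16 && Int.emod (Int.add (Int.mul h x'.1) s) t == 0)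
      · exact this
      · exact List.mem_cons_of_mem _ this

theorem mem_enum (t : ℤ) : ∀ (H : List (List ℤ)) (y : List ℤ), y.length = H.length → (∀ r ∈ pad H, dot r y % t = 0) →
    nrm y ≤ 16 → (y, nrm y) ∈ enum t H
  | [], y, h, _, _ => by
    obtain rfl : y = [] := by simpa using h
    exact List.mem_singleton.2 rfl
  | _ :: _, [], h, _, _ => by simp at h
  | r :: H, x :: y, h, hr, hn => by
    rw [pad] at hr
    have e : nrm (x :: y) = x.natAbs * x.natAbs + nrm y := by simp [nrm]
    rw [e] at hn ⊢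
    have ih := mem_enum t H y (by simpa using h) (fun r' h' => by
      simpa [dot_cons] using hr (0 :: r') (List.mem_cons_of_mem _ (List.mem_map_of_mem h'))) (by omega)
    rw [enum]
    refine List.mem_flatMap.2 ⟨_, ih, mem_ext t _ _ (y, nrm y) (x, x.natAbs * x.natAbs) hn ?_ cand ?_⟩
    · have := hr r List.mem_cons_self
      cases r with
      | nil => simp [dot_nil_left]
      | cons c r => exact this
    · have h4 : x.natAbs ≤ 4 := by nlinarith
      have : -4 ≤ x ∧ x ≤ 4 := by omega
      obtain ⟨h5, h6⟩ := this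
      interval_cases x <;> decide

theorem norm_scale (t : ℂ) : ∀ (x : List ℂ) (y : List ℤ), (x.map fun z => t * z) = y.map (fun c : ℤ => (c : ℂ)) →
    ‖t‖ ^ 2 * (x.map fun z => ‖z‖ ^ 2).sum = nrm y
  | [], y, h => by
    obtain rfl : y = [] := by simpa using h
    simp [nrm]
  | _ :: _, [], h => by simp at h
  | z :: x, w :: y, h => by
    simp only [List.map_cons, List.cons.injEq] at h
    have e : nrm (w :: y) = w.natAbs * w.natAbs + nrm y := by simp [nrm]
    rw [e, List.map_cons, List.sum_cons, mul_add, norm_scale t x y h.2, ← mul_pow, ← norm_mul, h.1]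
    simp [sq]

/-- the coefficient for an unordered pair -/
def rw2 (sy : Bool) (e : ℤ) (g : ℕ → ℤ) (m : ℕ) : ℤ := bif sy then Int.add (g m) (Int.mul e (g (sw m))) else g m

/-- all codes of a block -/
def full (sy : Bool) (B : List ℕ) : List ℕ := bif sy then B ++ B.map sw else B

/-- the denominator -/
def den (sy : Bool) : ℤ := bif sy then 8 else 4

theorem full_sum {sy : Bool} {e : ℤ} {A : ℕ → ℂ} {B : List ℕ} (hA : sy = true → ∀ m ∈ B, A (sw m) = e * A m) (g : ℕ → ℤ) :
    ((full sy B).map fun m => A m * g m).sum = (B.map fun m => A m * rw2 sy e g m).sum := by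
  cases sy
  · rfl
  · rw [full, cond_true, List.map_append, List.sum_append, List.map_map, ← List.sum_map_add]
    refine congrArg List.sum (List.map_congr_left fun m hm => ?_)
    rw [show rw2 true e g m = g m + e * g (sw m) from rfl, Function.comp_apply, hA rfl m hm]; push_cast; ring

theorem full_norm {sy f : Bool} {A : ℕ → ℂ} {B : List ℕ} (hA : sy = true → ∀ m ∈ B, A (sw m) = zs f * A m) {y : List ℤ}
    (hy : ((B.map A).map fun z => (den sy : ℂ) * z) = y.map fun c : ℤ => (c : ℂ)) :
    ((full sy B).map fun m => (bif sy then 32 else 16 : ℝ) * ‖A m‖ ^ 2).sum = nrm y := by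
  rw [← norm_scale _ _ _ hy, List.sum_map_mul_left, List.map_map]
  cases sy
  · simp [full, den, Function.comp_def]; norm_num
  · have : (B.map fun m => ‖A (sw m)‖ ^ 2) = B.map fun m => ‖A m‖ ^ 2 :=
      List.map_congr_left fun m hm => by rw [hA rfl m hm]; cases f <;> simp [zs]
    simp only [full, cond_true, List.map_append, List.sum_append, List.map_map, Function.comp_def, this, den]
    norm_num; ring

/-- a block with its certificate -/
structure Blk where
  B : List ℕ
  js : List ℕ
  U : List (List ℤ)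
  G : List (List ℤ)
  H : List (List ℤ)

/-- no repetition -/
def ndp : List ℕ → Bool
  | [] => true
  | m :: l => !(l.contains m) && ndp l

example := @ndp.eq_def

theorem ndp_sound : ∀ l : List ℕ, ndp l = true → l.Nodup
  | [], _ => List.nodup_nil
  | m :: l, h => by
    rw [ndp, Bool.and_eq_true] at h
    exact List.nodup_cons.2 ⟨by simpa using h.1, ndp_sound l h.2⟩

/-- the columns of the matrix of a block -/
def cols (sy : Bool) (e : ℤ) (V : List (List (ℕ × ℤ))) (β : Blk) : List (List ℤ) :=
  β.B.map fun m => β.js.map fun j => rw2 sy e (fun n => look n (V.getD j [])) m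

/-- the check of the lattice of a block -/
def lChk (sy : Bool) (e : ℤ) (V : List (List (ℕ × ℤ))) (β : Blk) : Bool :=
  ndp (full sy β.B) && (β.js.all fun j => (V.getD j []).all fun p => (full sy β.B).contains p.1) &&
    ((β.U.map fun u => (cols sy e V β).map (dot u)) == pad β.H) &&
    ((β.G.map fun u => (cols sy e V β).map (dot u)) == pad (idm (den sy) β.B.length)) && Nat.beq β.B.length β.H.length

theorem comb_int (A : ℕ → ℂ) (B : List ℕ) (g : ℕ → ℕ → ℤ) : ∀ (u : List ℤ) (js : List ℕ),
    (∀ j ∈ js, ∃ z : ℤ, (B.map fun m => A m * g j m).sum = z) →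
    ∃ z : ℤ, (B.map fun m => A m * (dot u (js.map fun j => g j m) : ℤ)).sum = z
  | [], _, _ => ⟨0, by simp [dot_nil_left]⟩
  | _ :: _, [], _ => ⟨0, by simp [dot_nil_right]⟩
  | c :: u, j :: js, h => by
    obtain ⟨z, hz⟩ := h j List.mem_cons_self
    obtain ⟨w, hw⟩ := comb_int A B g u js fun j hj => h j (List.mem_cons_of_mem _ hj)
    refine ⟨c * z + w, ?_⟩
    simp only [List.map_cons, dot_cons, Int.cast_add, Int.cast_mul, mul_add, List.sum_map_add]
    rw [hw, ← hz, ← List.sum_map_mul_left]
    simp only [mul_left_comm]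

theorem blk_sound {b f sy : Bool} {k : ℕ} {V : List (List (ℕ × ℤ))} (hV : AllIn b k f V) {ε : ℤˣ} {a : Bip → ℂ}
    (hε : b = false → ε = us f) (ha : Dual b k ε a) {β : Blk} (hA : sy = true → ∀ m ∈ β.B, a (dc (sw m)) = zs f * a (dc m))
    (h : lChk sy (zs f) V β = true) :
    ∃ y : List ℤ, (((β.B.map fun m => a (dc m)).map fun z => (den sy : ℂ) * z) = y.map fun c : ℤ => (c : ℂ)) ∧
      (nrm y ≤ 16 → (y, nrm y) ∈ enum (den sy) β.H) := by
  simp only [lChk, Bool.and_eq_true, beq_iff_eq, List.all_eq_true, List.contains_iff_mem, Nat.beq_eq] at h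
  obtain ⟨⟨⟨⟨h1, h2⟩, h3⟩, h4⟩, h5⟩ := h
  have key : ∀ u : List ℤ, ∃ z : ℤ, dotC ((cols sy (zs f) V β).map (dot u)) (β.B.map fun m => a (dc m)) = z := by
    intro u
    rw [cols, List.map_map, dotC_map]
    refine comb_int _ _ (fun j => rw2 sy (zs f) fun n => look n (V.getD j [])) u β.js fun j hj => ?_
    rw [← full_sum hA, ← sp_eq a _ (ndp_sound _ h1) _ fun p hp => Or.inl (h2 j hj p hp)]
    exact hV.getD j ε a hε ha
  obtain ⟨y, hy⟩ := int_of_idm (den sy) (β.B.map fun m => a (dc m)) fun r hr => by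
    rw [List.length_map, ← h4] at hr
    obtain ⟨u, -, rfl⟩ := List.mem_map.1 hr
    exact key u
  refine ⟨y, hy, mem_enum _ _ _ ?_ fun r hr => ?_⟩
  · have := congrArg List.length hy
    simp only [List.length_map] at this
    omega
  · rw [← h3] at hr
    obtain ⟨u, -, rfl⟩ := List.mem_map.1 hr
    obtain ⟨z, hz⟩ := key u
    have := dotC_scale _ ((cols sy (zs f) V β).map (dot u)) _ y hy
    rw [hz, ← Int.cast_mul, Int.cast_inj] at this
    rw [← this, Int.mul_emod_right]

end Cfsg.Agent.LV.Cl.Cert
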