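import Cfsg.Agent.LV.Cl.Cert1

/-!
# LV, classical groups: the certificates, the check of one rank (helper58)
-/

set_option autoImplicit false
set_option linter.dupNamespace false

namespace Cfsg.Agent.LV.Cl.Cert

/-- `x / t` is not a nonzero multiple of five -/
def g5 (t x : ℤ) : Bool := x == 0 || !(Int.emod x (Int.mul 5 t) == 0)

/-- `y` is `x0` at `m0` and zero elsewhere -/
def one (m0 : ℕ) (x0 : ℤ) : List ℕ → List ℤ → Bool
  | m :: B, x :: y => (bif Nat.beq m m0 then x == x0 else x == 0) && one m0 x0 B y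
  | _, _ => true

example := @one.eq_def

/-- the check of a short vector -/
def gd (k : ℕ) (t : ℤ) (vs : List (List (List ℤ) × Bool)) (vx : List ℤ) (bads B : List ℕ) (p : List ℤ × ℕ) : Bool :=
  Nat.beq p.2 0 || (Nat.blt 8 p.2 && vs.all fun d => (d.1.any fun v => g5 t (dot p.1 v)) || (d.2 && Nat.beq p.2 16 &&
    ((Nat.beq k 10 && g5 t (dot p.1 vx)) || bads.any fun m0 => B.contains m0 && (one m0 4 B p.1 || one m0 (-4) B p.1))))

/-- the range -/
def rgb (d : ℕ) (b : Bool) (k : ℕ) (ε : ℤˣ) : Bool :=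
  decide ((d = 1 ∧ (k ≤ 4 ∨ (b = false ∧ k = 5 ∧ ε = -1))) ∨ (d = 2 ∧ (k ≤ 4 ∨ (b = false ∧ k = 5 ∧ ε = 1))) ∨
    (d = 4 ∧ (k ≤ 9 ∨ (b = false ∧ k = 10 ∧ ε = 1))))

/-- the Sylow types in the range, with the flag for the exceptions -/
def dss (b : Bool) (k : ℕ) (f : Bool) : List (List Ty × Bool) :=
  ([1, 2, 4].filter fun d => rgb d b k (us f)).map fun d =>
    (syl d b k (us f), decide (b = false ∧ ((k = 5 ∧ d ≠ 4) ∨ k = 10)))

/-- pairs are unordered -/
def syb (b : Bool) (k : ℕ) : Bool := !b && Nat.ble 1 k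

/-- the check of a block -/
def bChk (b : Bool) (k : ℕ) (f : Bool) (V : List (List (ℕ × ℤ))) (X : List (Ty × List (ℕ × ℤ))) (bads : List ℕ) (β : Blk) :
    Bool :=
  lChk (syb b k) (zs f) V β && (enum (den (syb b k)) β.H).all (gd k (den (syb b k))
    ((dss b k f).map fun d => (d.1.map fun L => β.B.map (rw2 (syb b k) (zs f) (lv X L)), d.2))
    (β.B.map (rw2 (syb b k) (zs f) (lv X Lx))) bads β.B)

/-- the check of the degenerate pairs -/
def dChk (b : Bool) (k : ℕ) (f : Bool) (T : List En) (V W : List (List (ℕ × ℤ))) (X : List (Ty × List (ℕ × ℤ)))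
    (dg : List ℕ) : Bool :=
  dg.isEmpty || (syb b k && ndp dg && (dg.all fun m => Nat.beq (sw m) m) && (f || (Nat.beq (2 * (k / 2)) k &&
    (W.all fun w => w.all fun p => (T.map fun e => e.m).contains p.1) && dg.all fun m0 =>
      (V.any fun s => s == [(m0, 2)] || s == [(m0, -2)]) &&
      (W.any fun w => dg.all fun m => Int.emod (look m w) 2 == bif Nat.beq m m0 then 1 else 0) &&
      (dss b k f).all fun d => d.1.any fun L => g5 2 (lv X L m0) && g5 2 (-lv X L m0))))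

/-- the check of the partition into blocks and of the bad codes -/
def pChk (b : Bool) (k : ℕ) (T : List En) (bl : List Blk) (dg bads : List ℕ) : Bool :=
  (T.map fun e => e.m).isPerm ((bl.flatMap fun β => full (syb b k) β.B) ++ dg) &&
    bads.all fun m => (dc m).1 == vc && (bad k).contains (dc m).2 && !((dc m).2 == vc)

/-- the conclusion of `BoxHalf` -/
def HalfC (b : Bool) (k : ℕ) (ε : ℤˣ) (a : Bip → ℂ) : Prop :=
  (∀ i ∈ bips k, a i = 0) ∨ 1 / 2 < ix b k * nr k a ∨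
    (b = false ∧ ε = 1 ∧ ix b k * nr k a = 1 / 2 ∧ ∃ j, k = 2 * j ∧ ¬ Dual2 j a)

/-- the conclusion of `BoxGood` -/
def GoodC (d : ℕ) (b : Bool) (k : ℕ) (ε : ℤˣ) (a : Bip → ℂ) : Prop :=
  (∃ L ∈ syl d b k ε, Gd k a L) ∨ (b = false ∧ ix b k * nr k a = 1 ∧ ((k = 5 ∧ d ≠ 4) ∨ k = 10) ∧
    ((k = 10 ∧ Gd k a Lx) ∨ ∃ β ∈ bad k, ∃ σ : ℤˣ, ∀ i ∈ bips k,
      a i = ((σ : ℤ) : ℂ) / 2 * ((if i = (vc, β) then 1 else 0) + if i = (β, vc) then ((ε : ℤ) : ℂ) else 0)))

/-- both conclusions -/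
def Both (b : Bool) (k : ℕ) (f : Bool) : Prop :=
  ∀ (ε : ℤˣ) (a : Bip → ℂ), (b = false → ε = us f) → Sh b k ε a → HalfC b k ε a ∧ ∀ d, Rg d b k ε → GoodC d b k ε a

end Cfsg.Agent.LV.Cl.Cert
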