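import Cfsg.Agent.LV.Cl.Cert2

/-!
# LV, classical groups: the certificates, soundness of the check of one rank (helper58)
-/

set_option autoImplicit false
set_option linter.dupNamespace false

namespace Cfsg.Agent.LV.Cl.Cert

theorem all_app {α : Type} {p : α → Bool} {l l' : List α} (h : l.all p = true) (h' : l'.all p = true) :
    (l ++ l').all p = true := by rw [List.all_append, h, h']; rfl

theorem all2_nil (j : ℕ) : All2 j [] := fun _ h => absurd h List.not_mem_nil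

theorem gd_of {k : ℕ} {a : Bip → ℂ} {L : Ty} {t x : ℤ} (ht : t ≠ 0) (h : (t : ℂ) * pr k a (val L) = x) (hg : g5 t x = true) :
    Gd k a L := by
  intro m hm h5
  rw [hm, ← Int.cast_mul, Int.cast_inj] at h
  obtain ⟨n, rfl⟩ := h5
  simp only [g5, Bool.or_eq_true, beq_iff_eq, Bool.not_eq_true', beq_eq_false_iff_ne] at hg
  rcases hg with hg | hg
  · exact (mul_eq_zero.1 (h.trans hg)).resolve_left ht
  · refine absurd ?_ hg
    rw [← h, show t * (5 * n) = 5 * t * n by ring]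
    exact Int.mul_emod_right (5 * t) n

theorem one_sound (A : ℕ → ℂ) (t : ℂ) (m0 : ℕ) (x0 : ℤ) : ∀ (B : List ℕ) (y : List ℤ),
    (((B.map A).map fun z => t * z) = y.map fun c : ℤ => (c : ℂ)) → one m0 x0 B y = true →
    ∀ m ∈ B, t * A m = if m = m0 then (x0 : ℂ) else 0
  | [], _, _, _ => fun _ h => absurd h List.not_mem_nil
  | _ :: _, [], h, _ => by simp at h
  | n :: B, x :: y, h, h1 => by
    rw [one, Bool.and_eq_true] at h1
    simp only [List.map_cons, List.cons.injEq] at h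
    intro m hm
    rcases List.mem_cons.1 hm with rfl | hm
    · rw [h.1]
      by_cases e : m = m0
      · rw [Nat.beq_eq.mpr e, cond_true, beq_iff_eq] at h1; rw [if_pos e, h1.1]
      · rw [Bool.eq_false_iff.2 (fun h' => e (Nat.eq_of_beq_eq_true h')), cond_false, beq_iff_eq] at h1
        rw [if_neg e, h1.1, Int.cast_zero]
    · exact one_sound A t m0 x0 B y h.2 h1.2 m hm

theorem syl_true (d k : ℕ) (ε ε' : ℤˣ) : syl d true k ε = syl d true k ε' := by simp [syl]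

theorem syl_ne (d : ℕ) (b : Bool) (k : ℕ) (ε : ℤˣ) : ∃ L, L ∈ syl d b k ε := by
  unfold syl
  split_ifs <;> exact ⟨_, List.mem_cons_self⟩

theorem mem_dss {d : ℕ} {b : Bool} {k : ℕ} {f : Bool} {ε : ℤˣ} (hε : b = false → ε = us f) (h : Rg d b k ε) :
    (syl d b k ε, decide (b = false ∧ ((k = 5 ∧ d ≠ 4) ∨ k = 10))) ∈ dss b k f := by
  refine List.mem_map.2 ⟨d, List.mem_filter.2 ⟨?_, ?_⟩, ?_⟩
  · rcases h with h | h | h <;> simp [h.1]
  · cases b
    · rw [← hε rfl]; exact decide_eq_true h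
    · simpa [Rg, rgb] using h
  · cases b
    · rw [hε rfl]
    · rw [syl_true d k ε]

theorem ix_eq (b : Bool) (k : ℕ) : 16 * ix b k = bif syb b k then 32 else 16 := by
  cases b
  · rcases Nat.eq_zero_or_pos k with rfl | h
    · rw [show syb false 0 = false from rfl]; simp [ix]
    · rw [show syb false k = true from Nat.ble_eq.mpr h, ix, if_pos ⟨rfl, h⟩]; norm_num
  · simp [ix, syb]

/-- the weight of a list of codes -/
noncomputable def wS (c : ℝ) (A : ℕ → ℂ) (F : List ℕ) : ℝ := (F.map fun m => c * ‖A m‖ ^ 2).sum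

theorem wS_append (c : ℝ) (A : ℕ → ℂ) (F R : List ℕ) : wS c A (F ++ R) = wS c A F + wS c A R := by simp [wS]

theorem wS_nonneg {c : ℝ} (hc : 0 < c) (A : ℕ → ℂ) (F : List ℕ) : 0 ≤ wS c A F :=
  List.sum_nonneg fun x hx => by obtain ⟨m, -, rfl⟩ := List.mem_map.1 hx; positivity

theorem wS_le {c : ℝ} (hc : 0 < c) (A : ℕ → ℂ) {F : List ℕ} {m : ℕ} (h : m ∈ F) : c * ‖A m‖ ^ 2 ≤ wS c A F :=
  List.single_le_sum (fun x hx => by obtain ⟨m, -, rfl⟩ := List.mem_map.1 hx; positivity) _ (List.mem_map_of_mem h)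

theorem wS_zero {c : ℝ} (hc : 0 < c) {A : ℕ → ℂ} {F : List ℕ} (h : wS c A F = 0) {m : ℕ} (hm : m ∈ F) : A m = 0 := by
  have h1 := wS_le hc A hm
  rw [h] at h1
  have h2 : ‖A m‖ ^ 2 ≤ 0 := by by_contra h3; nlinarith [mul_pos hc (not_le.1 h3)]
  simpa using le_antisymm h2 (sq_nonneg _)

theorem wS_eq_zero (c : ℝ) {A : ℕ → ℂ} {F : List ℕ} (h : ∀ m ∈ F, A m = 0) : wS c A F = 0 :=
  List.sum_eq_zero fun x hx => by obtain ⟨m, hm, rfl⟩ := List.mem_map.1 hx; simp [h m hm]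

theorem wS_flat {α : Type} {c : ℝ} (hc : 0 < c) (A : ℕ → ℂ) (g : α → List ℕ) : ∀ (l : List α) (x : α), x ∈ l →
    wS c A (g x) ≤ wS c A (l.flatMap g)
  | [], _, h => absurd h List.not_mem_nil
  | y :: l, x, h => by
    rw [List.flatMap_cons, wS_append]
    rcases List.mem_cons.1 h with rfl | h
    · linarith [wS_nonneg hc A (l.flatMap g)]
    · linarith [wS_nonneg hc A (g y), wS_flat hc A g l x h]

theorem loc_pr {k : ℕ} {C F R : List ℕ} {a : Bip → ℂ} (hb : bips k = C.map dc) (hp : C.Perm (F ++ R))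
    (hR : ∀ m ∈ R, a (dc m) = 0) (v : Bip → ℤ) : pr k a v = (F.map fun m => a (dc m) * v (dc m)).sum := by
  rw [pr, hb, List.map_map, (hp.map _).sum_eq, List.map_append, List.sum_append, List.sum_eq_zero (l := R.map _), add_zero]
  · rfl
  · intro x hx
    obtain ⟨m, hm, rfl⟩ := List.mem_map.1 hx
    simp [hR m hm]

theorem nr_eq {b : Bool} {k : ℕ} {C F : List ℕ} (a : Bip → ℂ) (hb : bips k = C.map dc) (hp : C.Perm F) :
    16 * (ix b k * nr k a) = wS (bif syb b k then 32 else 16) (fun m => a (dc m)) F := by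
  rw [← mul_assoc, ix_eq, nr, hb, List.map_map, (hp.map _).sum_eq, wS, List.sum_map_mul_left]
  rfl

theorem par_sum (u g : ℕ → ℤ) (m0 : ℕ) (l : List ℕ) (hl : l.Nodup) (h0 : m0 ∈ l)
    (hg : ∀ m ∈ l, g m % 2 = if m = m0 then 1 else 0) (h : 2 ∣ (l.map fun m => u m * g m).sum) : 2 ∣ u m0 := by
  rw [((List.perm_cons_erase h0).map _).sum_eq, List.map_cons, List.sum_cons] at h
  have h1 : 2 ∣ ((l.erase m0).map fun m => u m * g m).sum := List.dvd_sum fun x hx => by
    obtain ⟨m, hm, rfl⟩ := List.mem_map.1 hx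
    have := hg m (List.mem_of_mem_erase hm)
    rw [if_neg (hl.mem_erase_iff.1 hm).1] at this
    exact Dvd.dvd.mul_left (Int.dvd_of_emod_eq_zero this) _
  have h2 := hg m0 h0
  rw [if_pos rfl] at h2
  have h3 := (dvd_add_left h1).1 h
  exact (Int.prime_two.dvd_or_dvd h3).resolve_right (by omega)

theorem syb_true {b : Bool} {k : ℕ} (h : syb b k = true) : b = false ∧ 1 ≤ k := by
  simpa [syb] using h

theorem sym_of {b f : Bool} {k : ℕ} {ε : ℤˣ} {a : Bip → ℂ} {C : List ℕ} (hε : b = false → ε = us f) (hS : Sh b k ε a)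
    (hb : bips k = C.map dc) (hlt : ∀ m ∈ C, m < 1099511627776) (h : syb b k = true) {m : ℕ} (hm : m ∈ C) :
    a (dc (sw m)) = zs f * a (dc m) := by
  rw [dc_sw (hlt m hm), hS.sym (syb_true h).1 (syb_true h).2 _ (hb ▸ List.mem_map_of_mem hm), hε (syb_true h).1, us_coe]

theorem good_blk {b f : Bool} {k : ℕ} {ε : ℤˣ} {a : Bip → ℂ} {C B R bads : List ℕ} {X : List (Ty × List (ℕ × ℤ))}
    (hε : b = false → ε = us f) (hS : Sh b k ε a) (hb : bips k = C.map dc) (hlt : ∀ m ∈ C, m < 1099511627776) (hX : ValOK X)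
    (hp : C.Perm (full (syb b k) B ++ R)) (hR : ∀ m ∈ R, a (dc m) = 0) (hBC : ∀ m ∈ B, m ∈ C)
    (hbad : ∀ m ∈ bads, (dc m).1 = vc ∧ (dc m).2 ∈ bad k ∧ (dc m).2 ≠ vc) {y : List ℤ}
    (hy : ((B.map fun m => a (dc m)).map fun z => (den (syb b k) : ℂ) * z) = y.map fun c : ℤ => (c : ℂ))
    (hn : 16 * (ix b k * nr k a) = nrm y) (h0 : nrm y ≠ 0)
    (hg : gd k (den (syb b k)) ((dss b k f).map fun d => (d.1.map fun L => B.map (rw2 (syb b k) (zs f) (lv X L)), d.2))
      (B.map (rw2 (syb b k) (zs f) (lv X Lx))) bads B (y, nrm y) = true) (d : ℕ) (hd : Rg d b k ε) : GoodC d b k ε a := by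
  have hA : syb b k = true → ∀ m ∈ B, a (dc (sw m)) = zs f * a (dc m) := fun h m hm => sym_of hε hS hb hlt h (hBC m hm)
  have hG : ∀ L, g5 (den (syb b k)) (dot y (B.map (rw2 (syb b k) (zs f) (lv X L)))) = true → Gd k a L := by
    intro L h
    refine gd_of (by cases syb b k <;> decide) ?_ h
    rw [loc_pr hb hp hR, full_sum (A := fun m => a (dc m)) hA fun m => val L (dc m), ← dotC_map, dotC_scale _ _ _ y hy, dot_comm,
      show lv X L = fun m => val L (dc m) from funext (lv_eq hX L)]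
  simp only [gd, Bool.or_eq_true, Bool.and_eq_true, Nat.beq_eq, List.all_eq_true, List.any_eq_true] at hg
  rcases (hg.resolve_left h0).2 _ (List.mem_map_of_mem (mem_dss hε hd)) with ⟨v, hv, h⟩ | ⟨⟨h1, h2⟩, h⟩
  · obtain ⟨L, hL, rfl⟩ := List.mem_map.1 hv
    exact Or.inl ⟨L, hL, hG L h⟩
  · have h1 := of_decide_eq_true h1
    have h16 : (nrm y : ℝ) = 16 := by exact_mod_cast h2
    refine Or.inr ⟨h1.1, by linarith, h1.2, h.imp (fun h => ⟨h.1, hG _ h.2⟩) ?_⟩
    rintro ⟨m0, hm0, hm, h⟩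
    rw [List.contains_iff_mem] at hm
    have hsy : syb b k = true := by rw [h1.1]; exact Nat.ble_eq.mpr (by omega)
    obtain ⟨σ, hσ⟩ : ∃ σ : ℤˣ, ∀ m ∈ B, 8 * a (dc m) = if m = m0 then 4 * ((σ : ℤ) : ℂ) else 0 := by
      rw [hsy] at hy
      rcases h with h | h
      · exact ⟨1, fun m hm => by simpa [den] using one_sound (fun m => a (dc m)) _ m0 4 B y hy h m hm⟩
      · exact ⟨-1, fun m hm => by simpa [den] using one_sound (fun m => a (dc m)) _ m0 (-4) B y hy h m hm⟩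
    obtain ⟨e1, e2, e3⟩ := hbad m0 hm0
    have e4 : dc m0 = (vc, (dc m0).2) := Prod.ext e1 rfl
    have e5 : dc (sw m0) = ((dc m0).2, vc) := by rw [dc_sw (hlt m0 (hBC m0 hm)), e1]
    have v1 : a (dc m0) = ((σ : ℤ) : ℂ) / 2 := by
      have := hσ m0 hm
      rw [if_pos rfl] at this
      linear_combination this / 8
    have z1 : ∀ m ∈ B, m ≠ m0 → a (dc m) = 0 := fun m hm hne => by simpa [hne] using hσ m hm
    refine ⟨(dc m0).2, e2, σ, fun i hi => ?_⟩
    have hne : (vc, (dc m0).2) ≠ ((dc m0).2, vc) := fun e => e3 (congrArg Prod.snd e)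
    by_cases c1 : i = (vc, (dc m0).2)
    · rw [if_pos c1, if_neg (c1 ▸ hne), c1, ← e4, v1]; ring
    by_cases c2 : i = ((dc m0).2, vc)
    · rw [if_neg c1, if_pos c2, c2, ← e5, hA hsy m0 hm, v1, hε h1.1, us_coe]; ring
    rw [if_neg c1, if_neg c2, add_zero, mul_zero]
    rw [hb] at hi
    obtain ⟨m, hmC, rfl⟩ := List.mem_map.1 hi
    rcases List.mem_append.1 (hp.subset hmC) with h3 | h3
    · rw [hsy, full, cond_true] at h3
      rcases List.mem_append.1 h3 with h3 | h3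
      · exact z1 m h3 fun e => c1 (e ▸ e4)
      · obtain ⟨m', h4, rfl⟩ := List.mem_map.1 h3
        rw [hA hsy m' h4, z1 m' h4 fun e => c2 (e ▸ e5), mul_zero]
    · exact hR m h3

theorem zero_case {b : Bool} {k : ℕ} {ε : ℤˣ} {a : Bip → ℂ} (h : ∀ i ∈ bips k, a i = 0) :
    HalfC b k ε a ∧ ∀ d, Rg d b k ε → GoodC d b k ε a := by
  refine ⟨Or.inl h, fun d _ => ?_⟩
  obtain ⟨L, hL⟩ := syl_ne d b k ε
  refine Or.inl ⟨L, hL, fun m hm _ => ?_⟩
  rw [pr, List.sum_eq_zero] at hm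
  · exact_mod_cast hm.symm
  · intro x hx
    obtain ⟨i, hi, rfl⟩ := List.mem_map.1 hx
    rw [h i hi, zero_mul]

theorem dChk_of {b f : Bool} {k : ℕ} {T : List En} {V W : List (List (ℕ × ℤ))} {X : List (Ty × List (ℕ × ℤ))}
    {dg : List ℕ} (hD : dChk b k f T V W X dg = true) {m0 : ℕ} (h0 : m0 ∈ dg) :
    syb b k = true ∧ dg.Nodup ∧ sw m0 = m0 ∧ (f = true ∨ (2 * (k / 2) = k ∧ (∀ w ∈ W, ∀ p ∈ w, p.1 ∈ T.map fun e => e.m) ∧
      ([(m0, 2)] ∈ V ∨ [(m0, -2)] ∈ V) ∧ (∃ w ∈ W, ∀ m ∈ dg, look m w % 2 = if m = m0 then 1 else 0) ∧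
      ∀ d ∈ dss b k f, ∃ L ∈ d.1, g5 2 (lv X L m0) = true ∧ g5 2 (-lv X L m0) = true)) := by
  simp only [dChk, Bool.or_eq_true, Bool.and_eq_true, Nat.beq_eq, List.all_eq_true, List.any_eq_true, List.isEmpty_iff,
    beq_iff_eq, List.contains_iff_mem] at hD
  obtain ⟨⟨⟨h1, h2⟩, h3⟩, h4⟩ := hD.resolve_left (List.ne_nil_of_mem h0)
  refine ⟨h1, ndp_sound _ h2, h3 m0 h0, h4.imp_right fun ⟨⟨h5, h6⟩, h7⟩ => ?_⟩
  obtain ⟨⟨⟨s, hs, h8⟩, w, hw, h9⟩, h10⟩ := h7 m0 h0
  refine ⟨h5, h6, by rcases h8 with rfl | rfl; exacts [Or.inl hs, Or.inr hs], ⟨w, hw, fun m hm => (h9 m hm).trans ?_⟩, h10⟩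
  by_cases e : m = m0
  · rw [Nat.beq_eq.mpr e, if_pos e]; rfl
  · rw [Bool.eq_false_iff.2 (fun h' => e (Nat.eq_of_beq_eq_true h')), if_neg e]; rfl

theorem both_of {b f : Bool} {k : ℕ} {T : List En} {V W : List (List (ℕ × ℤ))} {X : List (Ty × List (ℕ × ℤ))}
    {bl : List Blk} {dg bads : List ℕ} (hT : tabChk k T = true) (hV : AllIn b k f V) (hW : All2 (k / 2) W) (hX : ValOK X)
    (hB : bl.all (bChk b k f V X bads) = true) (hP : pChk b k T bl dg bads = true) (hD : dChk b k f T V W X dg = true) :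
    Both b k f := by
  intro ε a hε hS
  have hb : bips k = (T.map fun e => e.m).map dc := by rw [tab_bips hT, List.map_map]; rfl
  have hlt : ∀ m ∈ T.map fun e => e.m, m < 1099511627776 := fun m hm => by
    obtain ⟨e, he, rfl⟩ := List.mem_map.1 hm
    exact en_lt (tab_en hT e he)
  have hD' := fun m0 => dChk_of hD (m0 := m0)
  simp only [pChk, Bool.and_eq_true, List.isPerm_iff, List.all_eq_true, beq_iff_eq, List.contains_iff_mem, Bool.not_eq_true',
    beq_eq_false_iff_ne] at hP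
  obtain ⟨hp, hbad⟩ := hP
  generalize (T.map fun e => e.m) = C at hb hlt hD' hp
  obtain ⟨c, hcd⟩ : ∃ c : ℝ, c = bif syb b k then 32 else 16 := ⟨_, rfl⟩
  have hc : 0 < c := by rw [hcd]; cases syb b k <;> norm_num
  have hN := nr_eq (b := b) a hb hp
  rw [← hcd, wS_append] at hN
  have hN1 := hS.norm
  have hw := wS_nonneg hc fun m => a (dc m)
  have hBC : ∀ β ∈ bl, ∀ m ∈ β.B, m ∈ C := fun β hβ m hm =>
    hp.symm.subset (List.mem_append_left _ (List.mem_flatMap.2 ⟨β, hβ, by cases syb b k <;> simp [full, hm]⟩))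
  have hblk : ∀ β ∈ bl, ∃ y : List ℤ, (((β.B.map fun m => a (dc m)).map fun z => (den (syb b k) : ℂ) * z) =
      y.map fun c : ℤ => (c : ℂ)) ∧ wS c (fun m => a (dc m)) (full (syb b k) β.B) = nrm y ∧
      gd k (den (syb b k)) ((dss b k f).map fun d => (d.1.map fun L => β.B.map (rw2 (syb b k) (zs f) (lv X L)), d.2))
        (β.B.map (rw2 (syb b k) (zs f) (lv X Lx))) bads β.B (y, nrm y) = true := by
    intro β hβ
    have h := List.all_eq_true.1 hB β hβ
    rw [bChk, Bool.and_eq_true] at h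
    have hA := fun h m hm => sym_of hε hS hb hlt h (hBC β hβ m hm)
    obtain ⟨y, hy, hy'⟩ := blk_sound hV hε hS.dual hA h.1
    have e : wS c (fun m => a (dc m)) (full (syb b k) β.B) = nrm y := by rw [hcd]; exact full_norm hA hy
    refine ⟨y, hy, e, List.all_eq_true.1 h.2 _ (hy' ?_)⟩
    have := wS_flat hc (fun m => a (dc m)) (fun β : Blk => full (syb b k) β.B) bl β hβ
    have : (nrm y : ℝ) ≤ 16 := by linarith [hw dg]
    exact_mod_cast this
  have hgap : ∀ β ∈ bl, wS c (fun m => a (dc m)) (full (syb b k) β.B) = 0 ∨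
      8 < wS c (fun m => a (dc m)) (full (syb b k) β.B) := by
    intro β hβ
    obtain ⟨y, -, e, h⟩ := hblk β hβ
    simp only [gd, Bool.or_eq_true, Bool.and_eq_true, Nat.beq_eq, Nat.blt_eq] at h
    rw [e]
    exact h.imp (fun h => by exact_mod_cast h) fun h => by exact_mod_cast h.1
  have hdC : ∀ m ∈ dg, m ∈ C := fun m hm => hp.symm.subset (List.mem_append_right _ hm)
  have hf : ∀ m ∈ dg, f = true → a (dc m) = 0 := by
    intro m hm h
    have := sym_of hε hS hb hlt (hD' m hm).1 (hdC m hm)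
    rw [(hD' m hm).2.2.1, h] at this
    simp only [zs, cond_true, Int.cast_neg, Int.cast_one] at this
    linear_combination this / 2
  have hdg : ∀ m ∈ dg, ∃ u : ℤ, 2 * a (dc m) = u := by
    intro m hm
    rcases (hD' m hm).2.2.2 with h | ⟨-, -, h | h, -⟩
    · exact ⟨0, by simp [hf m hm h]⟩
    · obtain ⟨z, hz⟩ := hV _ h ε a hε hS.dual
      exact ⟨z, by rw [← hz]; simp [sp, mul_comm]⟩
    · obtain ⟨z, hz⟩ := hV _ h ε a hε hS.dual
      exact ⟨-z, by rw [Int.cast_neg, ← hz]; simp [sp, mul_comm]⟩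
  choose! u hu using hdg
  have hu2 : ∀ m ∈ dg, c * ‖a (dc m)‖ ^ 2 = 8 * (u m : ℝ) ^ 2 := by
    intro m hm
    have := congrArg (fun z : ℂ => ‖z‖ ^ 2) (hu m hm)
    simp only [norm_mul, Complex.norm_ofNat, Complex.norm_intCast, sq_abs] at this
    rw [hcd, (hD' m hm).1, cond_true, ← this]; ring
  have hu3 : ∀ m ∈ dg, a (dc m) ≠ 0 → 8 ≤ c * ‖a (dc m)‖ ^ 2 := by
    intro m hm h
    have h1 : u m ≠ 0 := fun e => h (by simpa [e] using hu m hm)
    have h2 : (1 : ℝ) ≤ (u m : ℝ) ^ 2 := by exact_mod_cast (one_le_sq_iff_one_le_abs _).2 (Int.one_le_abs h1)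
    rw [hu2 m hm]; linarith
  by_cases h1 : ∃ β ∈ bl, wS c (fun m => a (dc m)) (full (syb b k) β.B) ≠ 0
  · obtain ⟨β, hβ, h1⟩ := h1
    have h8 := (hgap β hβ).resolve_left h1
    obtain ⟨y, hy, e, hg⟩ := hblk β hβ
    have hBβ := hBC β hβ
    obtain ⟨l1, l2, rfl⟩ := List.append_of_mem hβ
    have hq : ((l1 ++ β :: l2).flatMap fun β => full (syb b k) β.B).Perm
        (full (syb b k) β.B ++ (l1 ++ l2).flatMap fun β => full (syb b k) β.B) := List.perm_middle.flatMap_right _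
    have hp' := hp.trans (hq.append_right dg)
    rw [List.append_assoc] at hp'
    have hN' := nr_eq (b := b) a hb hp'
    rw [← hcd, wS_append, wS_append] at hN'
    have hR : ∀ m ∈ ((l1 ++ l2).flatMap fun β => full (syb b k) β.B) ++ dg, a (dc m) = 0 := by
      intro m hm
      rcases List.mem_append.1 hm with hm | hm
      · obtain ⟨γ, hγ, hm⟩ := List.mem_flatMap.1 hm
        have h3 := wS_flat hc (fun m => a (dc m)) (fun β : Blk => full (syb b k) β.B) _ γ hγ
        refine wS_zero hc ((hgap γ ?_).resolve_right (by linarith [hw dg])) hm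
        exact List.perm_middle.symm.subset (List.mem_cons_of_mem _ hγ)
      · by_contra h3
        linarith [hu3 m hm h3, wS_le hc (fun m => a (dc m)) hm, hw ((l1 ++ l2).flatMap fun β => full (syb b k) β.B)]
    have h4 := wS_eq_zero c hR
    rw [wS_append] at h4
    refine ⟨Or.inr (Or.inl (by linarith)), good_blk hε hS hb hlt hX hp' hR hBβ
      (fun m hm => ⟨(hbad m hm).1.1, (hbad m hm).1.2, (hbad m hm).2⟩) hy (by linarith) ?_ hg⟩
    intro h5
    rw [h5] at e
    exact h1 (by simpa using e)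
  have hR : ∀ m ∈ bl.flatMap fun β => full (syb b k) β.B, a (dc m) = 0 := by
    intro m hm
    obtain ⟨γ, hγ, hm⟩ := List.mem_flatMap.1 hm
    exact wS_zero hc (by_contra fun h => h1 ⟨γ, hγ, h⟩) hm
  rw [wS_eq_zero c hR, zero_add] at hN
  by_cases h2 : ∀ m ∈ dg, a (dc m) = 0
  · refine zero_case fun i hi => ?_
    rw [hb] at hi
    obtain ⟨m, hm, rfl⟩ := List.mem_map.1 hi
    exact (List.mem_append.1 (hp.subset hm)).elim (hR m) (h2 m)
  push Not at h2
  obtain ⟨m0, h0, h2⟩ := h2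
  obtain ⟨hsy, hnd, -, h3⟩ := hD' m0 h0
  have hf0 : f = false := Bool.eq_false_iff.2 fun h => h2 (hf m0 h0 h)
  obtain ⟨hk2, hWC, -, ⟨w, hw', hpar⟩, hgd⟩ := h3.resolve_left (by simp [hf0])
  have hb0 := (syb_true hsy).1
  have hε1 : ε = 1 := by rw [hε hb0, hf0]; rfl
  have hle := wS_le hc (fun m => a (dc m)) h0
  have hu0 : u m0 ≠ 0 := fun e => h2 (by simpa [e] using hu m0 h0)
  have hu1 : u m0 = 1 ∨ u m0 = -1 := by
    have : ((u m0 : ℝ)) ^ 2 ≤ 2 := by linarith [hu2 m0 h0]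
    have : u m0 ^ 2 ≤ 2 := by exact_mod_cast this
    have : -1 ≤ u m0 ∧ u m0 ≤ 1 := by constructor <;> nlinarith
    omega
  have hn2 : ¬ Dual2 (k / 2) a := by
    intro h
    obtain ⟨z, hz⟩ := hW w hw' a h
    rw [sp_eq a dg hnd w fun p hp1 => (List.mem_append.1 (hp.subset (hWC w hw' p hp1))).symm.imp_right (hR _)] at hz
    have e : (((dg.map fun m => u m * look m w).sum : ℤ) : ℂ) = ((2 * z : ℤ) : ℂ) := by
      rw [Int.cast_list_sum, List.map_map, Int.cast_mul, ← hz, ← List.sum_map_mul_left]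
      refine congrArg List.sum (List.map_congr_left fun m hm => ?_)
      simp only [Function.comp_apply, Int.cast_mul, ← hu m hm]; push_cast; ring
    have := par_sum u (fun m => look m w) m0 dg hnd h0 hpar ⟨z, Int.cast_injective e⟩
    omega
  have hne : ix b k * nr k a ≠ 1 := fun h => hn2 (hS.two hb0 hε1 _ hk2.symm h)
  have hq : C.Perm ([m0] ++ (dg.erase m0 ++ bl.flatMap fun β => full (syb b k) β.B)) :=
    hp.trans (List.perm_append_comm.trans ((List.perm_cons_erase h0).append_right _))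
  have hN' := nr_eq (b := b) a hb hq
  have h8 : wS c (fun m => a (dc m)) [m0] = 8 := by
    have := hu2 m0 h0
    rcases hu1 with e | e <;> simpa [wS, e] using this
  rw [← hcd, wS_append, wS_append, wS_eq_zero c hR, h8] at hN'
  have hz : ∀ m ∈ dg.erase m0, a (dc m) = 0 := fun m hm => by_contra fun h => hne (by
    linarith [hu3 m (List.mem_of_mem_erase hm) h, wS_le hc (fun m => a (dc m)) hm])
  rw [wS_eq_zero c hz] at hN'
  refine ⟨Or.inr (Or.inr ⟨hb0, hε1, by linarith, k / 2, hk2.symm, hn2⟩), fun d hd => Or.inl ?_⟩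
  obtain ⟨L, hL, g1, g2⟩ := hgd _ (mem_dss hε hd)
  have e : ((2 : ℤ) : ℂ) * pr k a (val L) = (u m0 * lv X L m0 : ℤ) := by
    rw [loc_pr hb hq fun m hm => (List.mem_append.1 hm).elim (hz m) (hR m), lv_eq hX, Int.cast_mul, ← hu m0 h0]
    simp [mul_assoc]
  refine ⟨L, hL, gd_of two_ne_zero e ?_⟩
  rcases hu1 with e | e <;> simpa [e]

end Cfsg.Agent.LV.Cl.Cert
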