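import Cfsg.Agent.LV.Cl.CertT8
import Cfsg.Agent.LV.Cl.CertT9
import Cfsg.Agent.LV.Cl.CertT10

/-! # LV, classical groups: certificate data (generated by `notes/LV/py/cert`; helper58) -/

set_option autoImplicit false
set_option linter.dupNamespace false
set_option maxRecDepth 100000

namespace Cfsg.Agent.LV.Cl.Cert

/-- data -/
def N1_0 : List (ℤ) := [
  -1, 1]

/-- data -/
def N1_1 : List (ℤ) := [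
  1, 1]

/-- data -/
def N1 : List ((Bool × Bool × Ty) × List ℤ) := [
  ((false, true, []), N1_0),
  ((false, false, []), N1_1)]

/-- data -/
def X1 : List (Ty × List (ℕ × ℤ)) := xNew T1 N1

theorem okX1 : ValOK X1 := valOK_new tab1 valOK_nil (by decide +kernel)

/-- data -/
def N2_0 : List (ℤ) := [
  1, 1, -2, 1, 1]

/-- data -/
def N2_1 : List (ℤ) := [
  -1, -1, 0, 1, 1]

/-- data -/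
def N2_2 : List (ℤ) := [
  -1, -1, 0, 1, 1]

/-- data -/
def N2_3 : List (ℤ) := [
  1, 1, 2, 1, 1]

/-- data -/
def N2_4 : List (ℤ) := [
  1, -1, 0, -1, 1]

/-- data -/
def N2_5 : List (ℤ) := [
  -1, 1, 0, -1, 1]

/-- data -/
def N2 : List ((Bool × Bool × Ty) × List ℤ) := [
  ((false, true, [(1, -1)]), N2_0),
  ((false, true, [(1, 1)]), N2_1),
  ((false, false, [(1, -1)]), N2_2),
  ((false, false, [(1, 1)]), N2_3),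
  ((true, true, []), N2_4),
  ((true, false, []), N2_5)]

/-- data -/
def X2 : List (Ty × List (ℕ × ℤ)) := xNew T2 N2

theorem okX2 : ValOK X2 := valOK_new tab2 okX1 (by decide +kernel)

/-- data -/
def N3_0 : List (ℤ) := [
  -1, -2, -1, 3, 3, -3, -3, 1, 2, 1]

/-- data -/
def N3_1 : List (ℤ) := [
  1, 2, 1, -1, -1, -1, -1, 1, 2, 1]

/-- data -/
def N3_2 : List (ℤ) := [
  -1, -2, -1, -1, -1, 1, 1, 1, 2, 1]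

/-- data -/
def N3_3 : List (ℤ) := [
  1, 2, 1, 3, 3, 3, 3, 1, 2, 1]

/-- data -/
def N3_4 : List (ℤ) := [
  -1, 0, 1, 1, -1, 1, -1, -1, 0, 1]

/-- data -/
def N3_5 : List (ℤ) := [
  1, 0, -1, 1, -1, -1, 1, -1, 0, 1]

/-- data -/
def N3 : List ((Bool × Bool × Ty) × List ℤ) := [
  ((false, true, [(1, -1), (1, -1)]), N3_0),
  ((false, true, [(1, -1), (1, 1)]), N3_1),
  ((false, false, [(1, 1), (1, -1)]), N3_2),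
  ((false, false, [(1, 1), (1, 1)]), N3_3),
  ((true, true, [(1, -1)]), N3_4),
  ((true, true, [(1, 1)]), N3_5)]

/-- data -/
def X3 : List (Ty × List (ℕ × ℤ)) := xNew T3 N3

theorem okX3 : ValOK X3 := valOK_new tab3 (okX2.append okX1) (by decide +kernel)

/-- data -/
def N4_0 : List (ℤ) := [
  1, 3, 2, 3, 1, -4, -8, -4, 6, 6, 6, 6, -4, -8, -4, 1, 3, 2, 3, 1]

/-- data -/
def N4_1 : List (ℤ) := [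
  -1, -3, -2, -3, -1, 2, 4, 2, 0, 0, 0, 0, -2, -4, -2, 1, 3, 2, 3, 1]

/-- data -/
def N4_2 : List (ℤ) := [
  -1, -3, -2, -3, -1, -2, -4, -2, 0, 0, 0, 0, 2, 4, 2, 1, 3, 2, 3, 1]

/-- data -/
def N4_3 : List (ℤ) := [
  1, 3, 2, 3, 1, 4, 8, 4, 6, 6, 6, 6, 4, 8, 4, 1, 3, 2, 3, 1]

/-- data -/
def N4_4 : List (ℤ) := [
  1, 1, 0, -1, -1, -2, 0, 2, 0, -2, 2, 0, 2, 0, -2, -1, -1, 0, 1, 1]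

/-- data -/
def N4_5 : List (ℤ) := [
  1, 1, 0, -1, -1, 2, 0, -2, 0, -2, 2, 0, -2, 0, 2, -1, -1, 0, 1, 1]

/-- data -/
def N4_6 : List (ℤ) := [
  1, -1, 2, -1, 1, 0, 0, 0, -2, 2, 2, -2, 0, 0, 0, 1, -1, 2, -1, 1]

/-- data -/
def N4_7 : List (ℤ) := [
  -1, 1, -2, 1, -1, 0, 0, 0, 0, 0, 0, 0, 0, 0, 0, 1, -1, 2, -1, 1]

/-- data -/
def N4 : List ((Bool × Bool × Ty) × List ℤ) := [
  ((false, true, [(1, -1), (1, -1), (1, -1)]), N4_0),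
  ((false, true, [(1, -1), (1, -1), (1, 1)]), N4_1),
  ((false, false, [(1, 1), (1, 1), (1, -1)]), N4_2),
  ((false, false, [(1, 1), (1, 1), (1, 1)]), N4_3),
  ((true, true, [(1, -1), (1, -1)]), N4_4),
  ((true, true, [(1, 1), (1, 1)]), N4_5),
  ((true, true, [(2, -1)]), N4_6),
  ((true, true, [(2, 1)]), N4_7)]

/-- data -/
def X4 : List (Ty × List (ℕ × ℤ)) := xNew T4 N4

theorem okX4 : ValOK X4 := valOK_new tab4 (okX3.append okX2) (by decide +kernel)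

/-- data -/
def N5_0 : List (ℤ) := [
  1, 4, 5, 6, 5, 4, 1, -3, -9, -6, -9, -3, 2, 4, 2, 2, 4, 2, 2, 2, 4, 4, 2, 2, -3, -9, -6, -9, -3, 1, 4, 5, 6, 5, 4, 1]

/-- data -/
def N5_1 : List (ℤ) := [
  -1, -4, -5, -6, -5, -4, -1, -3, -9, -6, -9, -3, -2, -4, -2, -2, -4, -2, 2, 2, 4, 4, 2, 2, 3, 9, 6, 9, 3, 1, 4, 5, 6, 5, 4, 1]

/-- data -/
def N5_2 : List (ℤ) := [
  -1, 0, -1, 2, -1, 0, -1, 1, -1, 2, -1, 1, 2, 0, -2, -2, 0, 2, -2, 2, 0, 0, 2, -2, -1, 1, -2, 1, -1, 1, 0, 1, -2, 1, 0, 1]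

/-- data -/
def N5_3 : List (ℤ) := [
  1, 0, 1, -2, 1, 0, 1, 1, -1, 2, -1, 1, -2, 0, 2, 2, 0, -2, -2, 2, 0, 0, 2, -2, 1, -1, 2, -1, 1, 1, 0, 1, -2, 1, 0, 1]

/-- data -/
def N5 : List ((Bool × Bool × Ty) × List ℤ) := [
  ((false, true, [(1, -1), (1, -1), (1, -1), (1, 1)]), N5_0),
  ((false, false, [(1, 1), (1, 1), (1, 1), (1, -1)]), N5_1),
  ((true, true, [(2, -1), (1, -1)]), N5_2),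
  ((true, true, [(2, -1), (1, 1)]), N5_3)]

/-- data -/
def X5 : List (Ty × List (ℕ × ℤ)) := xNew T5 N5

theorem okX5 : ValOK X5 := valOK_new tab5 (okX4.append okX3) (by decide +kernel)

/-- data -/
def N6_0 : List (ℤ) := [
  1, 1, 1, -2, 1, 0, -2, 1, 1, 1, 1, -2, 0, -2, 4, -2, 0, -2, -1, -3, 2, 1, 3, 3, 1, 2, -3, -1, 4, 0, -4, 0, 0, 0, -4, 0, 4, -1, 3, -3, 1, 2, 2, 1, -3, 3, -1, -2, 0, -2, 4, -2, 0, -2, 1, 1, 1, -2, 1, 0, -2, 1, 1, 1, 1]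

/-- data -/
def N6_1 : List (ℤ) := [
  1, 1, 1, -2, 1, 0, -2, 1, 1, 1, 1, 2, 0, 2, -4, 2, 0, 2, -1, -3, 2, 1, 3, 3, 1, 2, -3, -1, -4, 0, 4, 0, 0, 0, 4, 0, -4, -1, 3, -3, 1, 2, 2, 1, -3, 3, -1, 2, 0, 2, -4, 2, 0, 2, 1, 1, 1, -2, 1, 0, -2, 1, 1, 1, 1]

/-- data -/
def N6_2 : List (ℤ) := [
  1, -1, 3, -2, -3, 0, 2, 3, -3, 1, -1, 0, 0, 0, 0, 0, 0, 0, -3, 3, -6, 3, -3, 3, -3, 6, -3, 3, 0, 0, 0, 0, 0, 0, 0, 0, 0, 3, -3, -3, 3, 6, -6, -3, 3, 3, -3, 0, 0, 0, 0, 0, 0, 0, -1, 1, -3, 2, 3, 0, -2, -3, 3, -1, 1]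

/-- data -/
def N6_3 : List (ℤ) := [
  -1, 1, -3, 2, 3, 0, -2, -3, 3, -1, 1, 0, 0, 0, 0, 0, 0, 0, 1, -1, 2, -1, 1, -1, 1, -2, 1, -1, 0, 0, 0, 0, 0, 0, 0, 0, 0, 1, -1, -1, 1, 2, -2, -1, 1, 1, -1, 0, 0, 0, 0, 0, 0, 0, -1, 1, -3, 2, 3, 0, -2, -3, 3, -1, 1]

/-- data -/
def N6 : List ((Bool × Bool × Ty) × List ℤ) := [
  ((true, true, [(2, -1), (1, -1), (1, -1)]), N6_0),
  ((true, true, [(2, -1), (1, 1), (1, 1)]), N6_1),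
  ((true, true, [(2, -1), (2, -1)]), N6_2),
  ((true, true, [(2, -1), (2, 1)]), N6_3)]

/-- data -/
def X6 : List (Ty × List (ℕ × ℤ)) := xNew T6 N6

theorem okX6 : ValOK X6 := valOK_new tab6 (okX5.append okX4) (by decide +kernel)

/-- data -/
def N7_0_0 : List (ℤ) := [
  -1, 0, -2, 3, 0, -1, 0, 3, -3, 1, -3, 0, 2, 0, 1, 1, -1, 3, -2, -3, 0, 2, 3, -3, 1, -1, 3, 0, 3, -6, 3, 0, 3, -3, 0, -3, 6, -3, 0, -3, -3, 3, -6, 3, -3, 0, 0, 0, 0, 0, 3, -3, 6, -3, 3, -3, 0, 3, 3, 0, -3, -6, 0, 6, 3, 0, -3, -3, 0, 3, 3, -3, 0, 0, 3, -3, -6, 6, 3, -3, 0, 0, 3, -3, 1, -1, 3, -2, -3, 0, 2, 3, -3, 1, -1, -1, 0, -2, 3, 0]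

/-- data -/
def N7_0_1 : List (ℤ) := [
  -1, 0, 3, -3, 1, -3, 0, 2, 0, 1]

/-- data -/
def N7_0 : List (ℤ) := N7_0_0 ++ (N7_0_1)

/-- data -/
def N7_1_0 : List (ℤ) := [
  1, 0, 2, -3, 0, 1, 0, -3, 3, -1, 3, 0, -2, 0, -1, 1, -1, 3, -2, -3, 0, 2, 3, -3, 1, -1, -3, 0, -3, 6, -3, 0, -3, 3, 0, 3, -6, 3, 0, 3, -3, 3, -6, 3, -3, 0, 0, 0, 0, 0, 3, -3, 6, -3, 3, 3, 0, -3, -3, 0, 3, 6, 0, -6, -3, 0, 3, 3, 0, -3, 3, -3, 0, 0, 3, -3, -6, 6, 3, -3, 0, 0, 3, -3, -1, 1, -3, 2, 3, 0, -2, -3, 3, -1, 1, -1, 0, -2, 3, 0]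

/-- data -/
def N7_1_1 : List (ℤ) := [
  -1, 0, 3, -3, 1, -3, 0, 2, 0, 1]

/-- data -/
def N7_1 : List (ℤ) := N7_1_0 ++ (N7_1_1)

/-- data -/
def N7 : List ((Bool × Bool × Ty) × List ℤ) := [
  ((true, true, [(2, -1), (2, -1), (1, -1)]), N7_0),
  ((true, true, [(2, -1), (2, -1), (1, 1)]), N7_1)]

/-- data -/
def X7 : List (Ty × List (ℕ × ℤ)) := xNew T7 N7

theorem okX7 : ValOK X7 := valOK_new tab7 (okX6.append okX5) (by decide +kernel)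

/-- data -/
def N8_0_0 : List (ℤ) := [
  1, 1, 2, -3, 2, 0, -3, 0, -2, 4, 0, 3, 0, -4, 2, 0, 3, 0, -2, -2, -1, -1, -2, 0, -4, 6, 0, -2, 0, 6, -6, 2, -6, 0, 4, 0, 2, -2, -4, 0, 4, -6, 0, 8, 0, -6, -2, -4, 4, 2, 6, -8, 0, 0, -4, 6, 0, 4, 2, 6, 0, 6, -12, 6, 0, 6, 0, 0, 0, 0, 0, 0, 0, -6, 0, -6, 12, -6, 0, -6, 0, 6, -6, 0, -6, -6, 0, -6, 6, 0, 6, 6, 0, -6, -6, 0, -6, 6, 0, 6]

/-- data -/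
def N8_0_1 : List (ℤ) := [
  6, 0, 6, -6, 0, -6, 0, 6, 0, 0, 0, -6, 0, 6, 12, 0, -12, -6, 0, 6, 0, 0, 0, -6, 0, 6, 2, -4, 4, -2, 0, -6, -4, 8, 6, 0, 0, 0, -8, 4, 0, -6, 6, 0, 2, -4, 4, -2, 2, 0, 4, -6, 0, 2, 0, -6, 6, -2, 6, 0, -4, 0, -2, -1, -1, -2, 3, -2, 0, 3, 0, 2, -4, 0, -3, 0, 4, -2, 0, -3, 0, 2, 2, 1, 1]

/-- data -/
def N8_0 : List (ℤ) := N8_0_0 ++ (N8_0_1)

/-- data -/
def N8_1_0 : List (ℤ) := [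
  1, 1, 2, -3, 2, 0, -3, 0, -2, 4, 0, 3, 0, -4, 2, 0, 3, 0, -2, -2, -1, -1, 2, 0, 4, -6, 0, 2, 0, -6, 6, -2, 6, 0, -4, 0, -2, -2, -4, 0, 4, -6, 0, 8, 0, -6, -2, -4, 4, 2, 6, -8, 0, 0, -4, 6, 0, 4, 2, -6, 0, -6, 12, -6, 0, -6, 0, 0, 0, 0, 0, 0, 0, 6, 0, 6, -12, 6, 0, 6, 0, 6, -6, 0, -6, -6, 0, -6, 6, 0, 6, 6, 0, -6, -6, 0, -6, 6, 0, 6]

/-- data -/
def N8_1_1 : List (ℤ) := [
  6, 0, 6, -6, 0, 6, 0, -6, 0, 0, 0, 6, 0, -6, -12, 0, 12, 6, 0, -6, 0, 0, 0, 6, 0, -6, 2, -4, 4, -2, 0, -6, -4, 8, 6, 0, 0, 0, -8, 4, 0, -6, 6, 0, 2, -4, 4, -2, -2, 0, -4, 6, 0, -2, 0, 6, -6, 2, -6, 0, 4, 0, 2, -1, -1, -2, 3, -2, 0, 3, 0, 2, -4, 0, -3, 0, 4, -2, 0, -3, 0, 2, 2, 1, 1]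

/-- data -/
def N8_1 : List (ℤ) := N8_1_0 ++ (N8_1_1)

/-- data -/
def N8_2_0 : List (ℤ) := [
  1, -1, 4, -3, -4, 0, 3, 6, -2, 8, -6, 3, -6, 8, -2, 0, -3, 6, -4, 4, -1, 1, 0, 0, 0, 0, 0, 0, 0, 0, 0, 0, 0, 0, 0, 0, 0, -4, 4, -12, 8, 12, 0, -8, -12, 12, -4, 4, 4, -4, 12, -8, -12, 0, 8, 12, -12, 4, -4, 0, 0, 0, 0, 0, 0, 0, 0, 0, 0, 0, 0, 0, 0, 0, 0, 0, 0, 0, 0, 0, 6, -6, 12, -6, 6, -6, 6, -12, 6, -6, 12, -12, 24, -12, 12, -6, 6, -12, 6, -6]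

/-- data -/
def N8_2_1 : List (ℤ) := [
  6, -6, 12, -6, 6, 0, 0, 0, 0, 0, 0, 0, 0, 0, 0, 0, 0, 0, 0, 0, 0, 0, 0, 0, 0, 0, -4, 4, 4, -4, -12, 12, 8, -8, 12, -12, 0, 0, -8, 8, -12, 12, 12, -12, -4, 4, 4, -4, 0, 0, 0, 0, 0, 0, 0, 0, 0, 0, 0, 0, 0, 0, 0, 1, -1, 4, -3, -4, 0, 3, 6, -2, 8, -6, 3, -6, 8, -2, 0, -3, 6, -4, 4, -1, 1]

/-- data -/
def N8_2 : List (ℤ) := N8_2_0 ++ (N8_2_1)

/-- data -/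
def N8_3_0 : List (ℤ) := [
  -1, 1, -4, 3, 4, 0, -3, -6, 2, -8, 6, -3, 6, -8, 2, 0, 3, -6, 4, -4, 1, -1, 0, 0, 0, 0, 0, 0, 0, 0, 0, 0, 0, 0, 0, 0, 0, 2, -2, 6, -4, -6, 0, 4, 6, -6, 2, -2, -2, 2, -6, 4, 6, 0, -4, -6, 6, -2, 2, 0, 0, 0, 0, 0, 0, 0, 0, 0, 0, 0, 0, 0, 0, 0, 0, 0, 0, 0, 0, 0, 0, 0, 0, 0, 0, 0, 0, 0, 0, 0, 0, 0, 0, 0, 0, 0, 0, 0, 0, 0]

/-- data -/
def N8_3_1 : List (ℤ) := [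
  0, 0, 0, 0, 0, 0, 0, 0, 0, 0, 0, 0, 0, 0, 0, 0, 0, 0, 0, 0, 0, 0, 0, 0, 0, 0, -2, 2, 2, -2, -6, 6, 4, -4, 6, -6, 0, 0, -4, 4, -6, 6, 6, -6, -2, 2, 2, -2, 0, 0, 0, 0, 0, 0, 0, 0, 0, 0, 0, 0, 0, 0, 0, 1, -1, 4, -3, -4, 0, 3, 6, -2, 8, -6, 3, -6, 8, -2, 0, -3, 6, -4, 4, -1, 1]

/-- data -/
def N8_3 : List (ℤ) := N8_3_0 ++ (N8_3_1)

/-- data -/
def N8 : List ((Bool × Bool × Ty) × List ℤ) := [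
  ((true, true, [(2, -1), (2, -1), (1, -1), (1, -1)]), N8_0),
  ((true, true, [(2, -1), (2, -1), (1, 1), (1, 1)]), N8_1),
  ((true, true, [(2, -1), (2, -1), (2, -1)]), N8_2),
  ((true, true, [(2, -1), (2, -1), (2, 1)]), N8_3)]

/-- data -/
def X8 : List (Ty × List (ℕ × ℤ)) := xNew T8 N8

theorem okX8 : ValOK X8 := valOK_new tab8 (okX7.append okX6) (by decide +kernel)

/-- data -/
def N9_0_0 : List (ℤ) := [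
  -1, 0, -3, 4, 0, -1, 0, -2, 6, -8, 3, -6, -4, 0, 0, 0, 3, 0, 6, 0, -8, -4, 6, -1, 4, -2, 0, -3, 0, -1, 1, -1, 4, -3, -4, 0, 3, 6, -2, 8, -6, 3, -6, 8, -2, 0, -3, 6, -4, 4, -1, 1, 4, 0, 8, -12, 0, 4, 0, -12, 12, -4, 12, 0, -8, 0, -4, -4, 0, -8, 12, 0, -4, 0, 12, -12, 4, -12, 0, 8, 0, 4, -4, 4, -12, 8, 12, 0, -8, -12, 12, -4, 4, 0, 0, 0, 0, 0, 0, 0]

/-- data -/
def N9_0_1 : List (ℤ) := [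
  0, 0, 0, 0, 4, -4, 12, -8, -12, 0, 8, 12, -12, 4, -4, -6, 0, -6, 12, -6, 0, -6, 6, 0, 6, -12, 6, 0, 6, -12, 0, -12, 24, -12, 0, -12, 6, 0, 6, -12, 6, 0, 6, -6, 0, -6, 12, -6, 0, -6, 6, -6, 12, -6, 6, 0, 0, 0, 0, 0, 6, -6, 12, -6, 6, -12, 12, -24, 12, -12, 6, -6, 12, -6, 6, 0, 0, 0, 0, 0, 6, -6, 12, -6, 6, 4, 0, -4, -4, 0, 4, 12, 0, -12, -8, 0, 8, -12, 0, 12]

/-- data -/
def N9_0_2 : List (ℤ) := [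
  0, 0, 0, 8, 0, -8, 12, 0, -12, -12, 0, 12, 4, 0, -4, -4, 0, 4, -4, 4, 0, 0, -8, 8, 12, -12, 0, 0, -4, 4, 0, 0, 12, -12, -12, 12, 4, -4, -12, 12, 0, 0, 8, -8, 0, 0, 4, -4, -1, 1, -4, 3, 4, 0, -3, -6, 2, -8, 6, -3, 6, -8, 2, 0, 3, -6, 4, -4, 1, -1, 1, 0, 3, -4, 0, 1, 0, 2, -6, 8, -3, 6, 4, 0, 0, 0, -3, 0, -6, 0, 8, 4, -6, 1, -4, 2, 0, 3, 0, 1]

/-- data -/
def N9_0 : List (ℤ) := N9_0_0 ++ (N9_0_1 ++ (N9_0_2))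

/-- data -/
def N9_1_0 : List (ℤ) := [
  1, 0, 3, -4, 0, 1, 0, 2, -6, 8, -3, 6, 4, 0, 0, 0, -3, 0, -6, 0, 8, 4, -6, 1, -4, 2, 0, 3, 0, 1, 1, -1, 4, -3, -4, 0, 3, 6, -2, 8, -6, 3, -6, 8, -2, 0, -3, 6, -4, 4, -1, 1, -4, 0, -8, 12, 0, -4, 0, 12, -12, 4, -12, 0, 8, 0, 4, 4, 0, 8, -12, 0, 4, 0, -12, 12, -4, 12, 0, -8, 0, -4, -4, 4, -12, 8, 12, 0, -8, -12, 12, -4, 4, 0, 0, 0, 0, 0, 0, 0]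

/-- data -/
def N9_1_1 : List (ℤ) := [
  0, 0, 0, 0, 4, -4, 12, -8, -12, 0, 8, 12, -12, 4, -4, 6, 0, 6, -12, 6, 0, 6, -6, 0, -6, 12, -6, 0, -6, 12, 0, 12, -24, 12, 0, 12, -6, 0, -6, 12, -6, 0, -6, 6, 0, 6, -12, 6, 0, 6, 6, -6, 12, -6, 6, 0, 0, 0, 0, 0, 6, -6, 12, -6, 6, -12, 12, -24, 12, -12, 6, -6, 12, -6, 6, 0, 0, 0, 0, 0, 6, -6, 12, -6, 6, -4, 0, 4, 4, 0, -4, -12, 0, 12, 8, 0, -8, 12, 0, -12]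

/-- data -/
def N9_1_2 : List (ℤ) := [
  0, 0, 0, -8, 0, 8, -12, 0, 12, 12, 0, -12, -4, 0, 4, 4, 0, -4, -4, 4, 0, 0, -8, 8, 12, -12, 0, 0, -4, 4, 0, 0, 12, -12, -12, 12, 4, -4, -12, 12, 0, 0, 8, -8, 0, 0, 4, -4, 1, -1, 4, -3, -4, 0, 3, 6, -2, 8, -6, 3, -6, 8, -2, 0, -3, 6, -4, 4, -1, 1, 1, 0, 3, -4, 0, 1, 0, 2, -6, 8, -3, 6, 4, 0, 0, 0, -3, 0, -6, 0, 8, 4, -6, 1, -4, 2, 0, 3, 0, 1]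

/-- data -/
def N9_1 : List (ℤ) := N9_1_0 ++ (N9_1_1 ++ (N9_1_2))

/-- data -/
def N9 : List ((Bool × Bool × Ty) × List ℤ) := [
  ((true, true, [(2, -1), (2, -1), (2, -1), (1, -1)]), N9_0),
  ((true, true, [(2, -1), (2, -1), (2, -1), (1, 1)]), N9_1)]

/-- data -/
def X9 : List (Ty × List (ℕ × ℤ)) := xNew T9 N9

theorem okX9 : ValOK X9 := valOK_new tab9 (okX8.append okX7) (by decide +kernel)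

/-- data -/
def N10_0_0 : List (ℤ) := [
  1, 1, 3, -4, 3, 0, -4, 2, -5, 9, -2, 6, 2, 0, 2, -9, 5, 0, 6, 4, 4, -6, 0, 5, 4, -9, -2, -4, -6, 4, 2, 9, 0, -5, 0, -4, 2, 2, 3, 3, 1, 1, -2, 0, -6, 8, 0, -2, 0, -4, 12, -16, 6, -12, -8, 0, 0, 0, 6, 0, 12, 0, -16, -8, 12, -2, 8, -4, 0, -6, 0, -2, -3, -5, -4, 9, -12, 0, 15, 6, 6, -8, -6, -9, -6, 24, -10, 0, -15, 6, 4, 12, 3, 5, 5, 3, 12, -15, 4, 0]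

/-- data -/
def N10_0_1 : List (ℤ) := [
  -9, 6, -10, 24, -6, 15, -6, -8, 6, 0, 9, 6, -12, -4, -5, -3, 8, 0, 16, -24, 0, 8, 0, -24, 24, -8, 24, 0, -16, 0, -8, 0, 0, 0, 0, 0, 0, 0, 0, 0, 0, 0, 0, 0, 0, 0, -8, 0, -16, 24, 0, -8, 0, 24, -24, 8, -24, 0, 16, 0, 8, 2, 10, -6, -4, 18, 0, -20, -6, 18, 2, 10, -10, -2, -18, 20, 6, 0, 4, -18, 6, -10, -2, 12, 12, 12, -24, 12, 0, -24, 12, 12, 12, 12, -2, -10, 6, 4, -18, 0]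

/-- data -/
def N10_0_2 : List (ℤ) := [
  20, 6, -18, -2, -10, 10, 2, 18, -20, -6, 0, -4, 18, -6, 10, 2, -12, 0, -12, 24, -12, 0, -12, 0, 0, 0, 0, 0, 0, 0, -12, 0, -12, 24, -12, 0, -12, 24, 0, 24, -48, 24, 0, 24, -12, 0, -12, 24, -12, 0, -12, 0, 0, 0, 0, 0, 0, 0, -12, 0, -12, 24, -12, 0, -12, 2, -10, 12, -2, 10, 10, -2, 12, -10, 2, -6, -18, 12, 6, 18, -4, 20, -24, 4, -20, 18, 6, 12, -18, -6, 0, 0, 0, 0, 0, -20, 4, -24, 20, -4]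

/-- data -/
def N10_0_3 : List (ℤ) := [
  -6, -18, 12, 6, 18, 18, 6, 12, -18, -6, 2, -10, 12, -2, 10, 10, -2, 12, -10, 2, 8, 0, -8, 0, 0, 0, 16, 0, -16, -24, 0, 24, 0, 0, 0, 8, 0, -8, 0, 0, 0, -24, 0, 24, 24, 0, -24, -8, 0, 8, 24, 0, -24, 0, 0, 0, -16, 0, 16, 0, 0, 0, -8, 0, 8, -3, 5, -5, 3, -4, 12, 9, -15, -12, 4, 0, 0, 15, -9, 6, 6, 6, -10, -8, 24, -6, -6, -9, 15, -6, -6, 24, -8, -10, 6, 0, 0, -15, 9, 6]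

/-- data -/
def N10_0_4 : List (ℤ) := [
  6, 4, -12, 12, -4, 3, -5, 5, -3, -2, 0, -6, 8, 0, -2, 0, -4, 12, -16, 6, -12, -8, 0, 0, 0, 6, 0, 12, 0, -16, -8, 12, -2, 8, -4, 0, -6, 0, -2, 1, 1, 3, -4, 3, 0, -4, 2, -5, 9, -2, 6, 2, 0, 2, -9, 5, 0, 6, 4, 4, -6, 0, 5, 4, -9, -2, -4, -6, 4, 2, 9, 0, -5, 0, -4, 2, 2, 3, 3, 1, 1]

/-- data -/
def N10_0 : List (ℤ) := N10_0_0 ++ (N10_0_1 ++ (N10_0_2 ++ (N10_0_3 ++ (N10_0_4))))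

/-- data -/
def N10_1_0 : List (ℤ) := [
  1, 1, 3, -4, 3, 0, -4, 2, -5, 9, -2, 6, 2, 0, 2, -9, 5, 0, 6, 4, 4, -6, 0, 5, 4, -9, -2, -4, -6, 4, 2, 9, 0, -5, 0, -4, 2, 2, 3, 3, 1, 1, 2, 0, 6, -8, 0, 2, 0, 4, -12, 16, -6, 12, 8, 0, 0, 0, -6, 0, -12, 0, 16, 8, -12, 2, -8, 4, 0, 6, 0, 2, -3, -5, -4, 9, -12, 0, 15, 6, 6, -8, -6, -9, -6, 24, -10, 0, -15, 6, 4, 12, 3, 5, 5, 3, 12, -15, 4, 0]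

/-- data -/
def N10_1_1 : List (ℤ) := [
  -9, 6, -10, 24, -6, 15, -6, -8, 6, 0, 9, 6, -12, -4, -5, -3, -8, 0, -16, 24, 0, -8, 0, 24, -24, 8, -24, 0, 16, 0, 8, 0, 0, 0, 0, 0, 0, 0, 0, 0, 0, 0, 0, 0, 0, 0, 8, 0, 16, -24, 0, 8, 0, -24, 24, -8, 24, 0, -16, 0, -8, 2, 10, -6, -4, 18, 0, -20, -6, 18, 2, 10, -10, -2, -18, 20, 6, 0, 4, -18, 6, -10, -2, 12, 12, 12, -24, 12, 0, -24, 12, 12, 12, 12, -2, -10, 6, 4, -18, 0]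

/-- data -/
def N10_1_2 : List (ℤ) := [
  20, 6, -18, -2, -10, 10, 2, 18, -20, -6, 0, -4, 18, -6, 10, 2, 12, 0, 12, -24, 12, 0, 12, 0, 0, 0, 0, 0, 0, 0, 12, 0, 12, -24, 12, 0, 12, -24, 0, -24, 48, -24, 0, -24, 12, 0, 12, -24, 12, 0, 12, 0, 0, 0, 0, 0, 0, 0, 12, 0, 12, -24, 12, 0, 12, 2, -10, 12, -2, 10, 10, -2, 12, -10, 2, -6, -18, 12, 6, 18, -4, 20, -24, 4, -20, 18, 6, 12, -18, -6, 0, 0, 0, 0, 0, -20, 4, -24, 20, -4]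

/-- data -/
def N10_1_3 : List (ℤ) := [
  -6, -18, 12, 6, 18, 18, 6, 12, -18, -6, 2, -10, 12, -2, 10, 10, -2, 12, -10, 2, -8, 0, 8, 0, 0, 0, -16, 0, 16, 24, 0, -24, 0, 0, 0, -8, 0, 8, 0, 0, 0, 24, 0, -24, -24, 0, 24, 8, 0, -8, -24, 0, 24, 0, 0, 0, 16, 0, -16, 0, 0, 0, 8, 0, -8, -3, 5, -5, 3, -4, 12, 9, -15, -12, 4, 0, 0, 15, -9, 6, 6, 6, -10, -8, 24, -6, -6, -9, 15, -6, -6, 24, -8, -10, 6, 0, 0, -15, 9, 6]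

/-- data -/
def N10_1_4 : List (ℤ) := [
  6, 4, -12, 12, -4, 3, -5, 5, -3, 2, 0, 6, -8, 0, 2, 0, 4, -12, 16, -6, 12, 8, 0, 0, 0, -6, 0, -12, 0, 16, 8, -12, 2, -8, 4, 0, 6, 0, 2, 1, 1, 3, -4, 3, 0, -4, 2, -5, 9, -2, 6, 2, 0, 2, -9, 5, 0, 6, 4, 4, -6, 0, 5, 4, -9, -2, -4, -6, 4, 2, 9, 0, -5, 0, -4, 2, 2, 3, 3, 1, 1]

/-- data -/
def N10_1 : List (ℤ) := N10_1_0 ++ (N10_1_1 ++ (N10_1_2 ++ (N10_1_3 ++ (N10_1_4))))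

/-- data -/
def N10_2_0 : List (ℤ) := [
  -1, 1, -5, 4, 5, 0, -4, -10, 5, -15, 10, -6, 10, 0, 10, -15, 5, 0, 6, -20, 20, 10, 0, -5, -20, 15, -10, 4, -10, 20, -10, 15, 0, -5, 0, -4, -10, 10, -5, 5, -1, 1, 0, 0, 0, 0, 0, 0, 0, 0, 0, 0, 0, 0, 0, 0, 0, 0, 0, 0, 0, 0, 0, 0, 0, 0, 0, 0, 0, 0, 0, 0, 3, -3, 12, -9, -12, 0, 9, 18, -6, 24, -18, 9, -18, 24, -6, 0, -9, 18, -12, 12, -3, 3, -3, 3, -12, 9, 12, 0]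

/-- data -/
def N10_2_1 : List (ℤ) := [
  -9, -18, 6, -24, 18, -9, 18, -24, 6, 0, 9, -18, 12, -12, 3, -3, 0, 0, 0, 0, 0, 0, 0, 0, 0, 0, 0, 0, 0, 0, 0, 0, 0, 0, 0, 0, 0, 0, 0, 0, 0, 0, 0, 0, 0, 0, 0, 0, 0, 0, 0, 0, 0, 0, 0, 0, 0, 0, 0, 0, 0, -2, 2, -6, 4, 6, 0, -4, -6, 6, -2, 2, 2, -2, 6, -4, -6, 0, 4, 6, -6, 2, -2, -4, 4, -12, 8, 12, 0, -8, -12, 12, -4, 4, 2, -2, 6, -4, -6, 0]

/-- data -/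
def N10_2_2 : List (ℤ) := [
  4, 6, -6, 2, -2, -2, 2, -6, 4, 6, 0, -4, -6, 6, -2, 2, 0, 0, 0, 0, 0, 0, 0, 0, 0, 0, 0, 0, 0, 0, 0, 0, 0, 0, 0, 0, 0, 0, 0, 0, 0, 0, 0, 0, 0, 0, 0, 0, 0, 0, 0, 0, 0, 0, 0, 0, 0, 0, 0, 0, 0, 0, 0, 0, 0, -2, 2, -4, 2, -2, 2, -2, 4, -2, 2, -6, 6, -12, 6, -6, 4, -4, 8, -4, 4, 6, -6, 12, -6, 6, 0, 0, 0, 0, 0, -4, 4, -8, 4, -4]

/-- data -/
def N10_2_3 : List (ℤ) := [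
  -6, 6, -12, 6, -6, 6, -6, 12, -6, 6, -2, 2, -4, 2, -2, 2, -2, 4, -2, 2, 0, 0, 0, 0, 0, 0, 0, 0, 0, 0, 0, 0, 0, 0, 0, 0, 0, 0, 0, 0, 0, 0, 0, 0, 0, 0, 0, 0, 0, 0, 0, 0, 0, 0, 0, 0, 0, 0, 0, 0, 0, 0, 0, 0, 0, 3, -3, -3, 3, 12, -12, -9, 9, -12, 12, 0, 0, 9, -9, 18, -18, -6, 6, 24, -24, -18, 18, 9, -9, -18, 18, 24, -24, -6, 6, 0, 0, -9, 9, 18]

/-- data -/
def N10_2_4 : List (ℤ) := [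
  -18, -12, 12, 12, -12, -3, 3, 3, -3, 0, 0, 0, 0, 0, 0, 0, 0, 0, 0, 0, 0, 0, 0, 0, 0, 0, 0, 0, 0, 0, 0, 0, 0, 0, 0, 0, 0, 0, 0, -1, 1, -5, 4, 5, 0, -4, -10, 5, -15, 10, -6, 10, 0, 10, -15, 5, 0, 6, -20, 20, 10, 0, -5, -20, 15, -10, 4, -10, 20, -10, 15, 0, -5, 0, -4, -10, 10, -5, 5, -1, 1]

/-- data -/
def N10_2 : List (ℤ) := N10_2_0 ++ (N10_2_1 ++ (N10_2_2 ++ (N10_2_3 ++ (N10_2_4))))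

/-- data -/
def N10 : List ((Bool × Bool × Ty) × List ℤ) := [
  ((true, true, [(2, -1), (2, -1), (2, -1), (1, -1), (1, -1)]), N10_0),
  ((true, true, [(2, -1), (2, -1), (2, -1), (1, 1), (1, 1)]), N10_1),
  ((true, true, [(2, -1), (2, -1), (2, -1), (2, 1)]), N10_2)]

/-- data -/
def X10 : List (Ty × List (ℕ × ℤ)) := xNew T10 N10

theorem okX10 : ValOK X10 := valOK_new tab10 (okX9.append okX8) (by decide +kernel)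


end Cfsg.Agent.LV.Cl.Cert
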