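import Cfsg.Agent.LV.Cl.Cert3
import Cfsg.Agent.LV.Cl.CertX
import Cfsg.Agent.LV.Cl.CertVb

/-! # LV, classical groups: certificate data (generated by `notes/LV/py/cert`; helper58) -/

set_option autoImplicit false
set_option linter.dupNamespace false
set_option maxRecDepth 100000

namespace Cfsg.Agent.LV.Cl.Cert

/-- data -/
def Bb1s : List (Blk) := [
  ⟨[1609565183], [0], [[1]], [[4]], [[1]]⟩,
  ⟨[1072694783], [1], [[1]], [[4]], [[1]]⟩]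

theorem okBb1s : Bb1s.all (bChk true 1 false Vb1 X1 []) = true := by decide +kernel

theorem both_b1 : Both true 1 false :=
  both_of (bl := Bb1s) (dg := []) (W := []) tab1 inVb1 (all2_nil _) okX1 okBb1s
    (by decide +kernel) (by decide +kernel)

/-- data -/
def Bb2s : List (Blk) := [
  ⟨[1878000639], [0], [[1]], [[4]], [[1]]⟩,
  ⟨[1072695039, 1609565695, 2683307007], [1, 2, 3], [[0, 1, -1], [1, 0, 0], [1, 0, -1]], [[-2, 4, -2], [2, 0, 2], [2, 0, -2]], [[1, 0, 1], [1, 1], [2]]⟩,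
  ⟨[1072695807], [4], [[1]], [[4]], [[1]]⟩]

theorem okBb2s : Bb2s.all (bChk true 2 false Vb2 X2 []) = true := by decide +kernel

theorem both_b2 : Both true 2 false :=
  both_of (bl := Bb2s) (dg := []) (W := []) tab2 inVb2 (all2_nil _) okX2 okBb2s
    (by decide +kernel) (by decide +kernel)

/-- data -/
def Bb3s : List (Blk) := [
  ⟨[2012218367], [0], [[1]], [[4]], [[1]]⟩,
  ⟨[1072695167, 1878001151, 2951742463], [1, 2, 3], [[0, 1, -1], [1, 0, 0], [1, 0, -1]], [[-2, 4, -2], [2, 0, 2], [2, 0, -2]], [[1, 0, 1], [1, 1], [2]]⟩,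
  ⟨[1609565951], [4], [[1]], [[4]], [[1]]⟩,
  ⟨[2683307519], [5], [[1]], [[4]], [[1]]⟩,
  ⟨[1072696063, 1609566719, 4830790655], [6, 7, 8], [[0, 1, -1], [1, 0, 0], [1, 0, -1]], [[-2, 4, -2], [2, 0, 2], [2, 0, -2]], [[1, 0, 1], [1, 1], [2]]⟩,
  ⟨[1072697855], [9], [[1]], [[4]], [[1]]⟩]

theorem okBb3s : Bb3s.all (bChk true 3 false Vb3 X3 []) = true := by decide +kernel

theorem both_b3 : Both true 3 false :=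
  both_of (bl := Bb3s) (dg := []) (W := []) tab3 inVb3 (all2_nil _) okX3 okBb3s
    (by decide +kernel) (by decide +kernel)

/-- data -/
def Bb4s : List (Blk) := [
  ⟨[2079327231], [0], [[1]], [[4]], [[1]]⟩,
  ⟨[1072695231, 2012218879, 3085960191], [1, 2, 3], [[0, 1, -1], [1, 0, 0], [1, 0, -1]], [[-2, 4, -2], [2, 0, 2], [2, 0, -2]], [[1, 0, 1], [1, 1], [2]]⟩,
  ⟨[1609566079, 1878001407, 3488613375], [4, 5, 6], [[0, 1, -1], [1, 0, 0], [1, 0, -1]], [[-2, 4, -2], [2, 0, 2], [2, 0, -2]], [[1, 0, 1], [1, 1], [2]]⟩,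
  ⟨[2951742975], [7], [[1]], [[4]], [[1]]⟩,
  ⟨[1072696191, 1878002175, 5099226111], [8, 9, 10], [[0, 1, -1], [1, 0, 0], [1, 0, -1]], [[-2, 4, -2], [2, 0, 2], [2, 0, -2]], [[1, 0, 1], [1, 1], [2]]⟩,
  ⟨[2683307775], [11], [[1]], [[4]], [[1]]⟩,
  ⟨[1609566975], [12], [[1]], [[4]], [[1]]⟩,
  ⟨[1072696575, 2683308543, 4830791167], [13, 14, 15], [[0, 1, -1], [1, 0, 0], [1, 0, -1]], [[-2, 4, -2], [2, 0, 2], [2, 0, -2]], [[1, 0, 1], [1, 1], [2]]⟩,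
  ⟨[1072698111, 1609568767, 9125757951], [16, 17, 18], [[0, 1, -1], [1, 0, 0], [1, 0, -1]], [[-2, 4, -2], [2, 0, 2], [2, 0, -2]], [[1, 0, 1], [1, 1], [2]]⟩,
  ⟨[1072701951], [19], [[1]], [[4]], [[1]]⟩]

theorem okBb4s : Bb4s.all (bChk true 4 false Vb4 X4 []) = true := by decide +kernel

theorem both_b4 : Both true 4 false :=
  both_of (bl := Bb4s) (dg := []) (W := []) tab4 inVb4 (all2_nil _) okX4 okBb4s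
    (by decide +kernel) (by decide +kernel)

/-- data -/
def Bb5s : List (Blk) := [
  ⟨[2112881663], [0], [[1]], [[4]], [[1]]⟩,
  ⟨[1072695263, 2079327743, 3153069055], [1, 2, 3], [[0, 1, -1], [1, 0, 0], [1, 0, -1]], [[-2, 4, -2], [2, 0, 2], [2, 0, -2]], [[1, 0, 1], [1, 1], [2]]⟩,
  ⟨[1609566143, 2012219135, 3622831103], [4, 5, 6], [[0, 1, -1], [1, 0, 0], [1, 0, -1]], [[-2, 4, -2], [2, 0, 2], [2, 0, -2]], [[1, 0, 1], [1, 1], [2]]⟩,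
  ⟨[3085960703], [7], [[1]], [[4]], [[1]]⟩,
  ⟨[1072696255, 2012219903, 5233443839], [8, 9, 10], [[0, 1, -1], [1, 0, 0], [1, 0, -1]], [[-2, 4, -2], [2, 0, 2], [2, 0, -2]], [[1, 0, 1], [1, 1], [2]]⟩,
  ⟨[1878001535], [11], [[1]], [[4]], [[1]]⟩,
  ⟨[2683307903, 2951743231, 3488613887], [12, 13, 14], [[0, 1, -1], [1, 0, 0], [1, 0, -1]], [[-2, 4, -2], [2, 0, 2], [2, 0, -2]], [[1, 0, 1], [1, 1], [2]]⟩,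
  ⟨[1609567103, 1878002431, 5636097023], [15, 16, 17], [[0, 1, -1], [1, 0, 0], [1, 0, -1]], [[-2, 4, -2], [2, 0, 2], [2, 0, -2]], [[1, 0, 1], [1, 1], [2]]⟩,
  ⟨[1072696703, 2951743999, 5099226623], [18, 19, 20], [[0, 1, -1], [1, 0, 0], [1, 0, -1]], [[-2, 4, -2], [2, 0, 2], [2, 0, -2]], [[1, 0, 1], [1, 1], [2]]⟩,
  ⟨[1072698239, 1878004223, 9394193407], [21, 22, 23], [[0, 1, -1], [1, 0, 0], [1, 0, -1]], [[-2, 4, -2], [2, 0, 2], [2, 0, -2]], [[1, 0, 1], [1, 1], [2]]⟩,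
  ⟨[1609567487, 2683308799, 4830791423], [24, 25, 26], [[0, 1, -1], [1, 0, 0], [1, 0, -1]], [[-2, 4, -2], [2, 0, 2], [2, 0, -2]], [[1, 0, 1], [1, 1], [2]]⟩,
  ⟨[1609569023], [27], [[1]], [[4]], [[1]]⟩,
  ⟨[4830792191], [28], [[1]], [[4]], [[1]]⟩,
  ⟨[1072698623, 2683310591, 9125758463], [29, 30, 31], [[0, 1, -1], [1, 0, 0], [1, 0, -1]], [[-2, 4, -2], [2, 0, 2], [2, 0, -2]], [[1, 0, 1], [1, 1], [2]]⟩,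
  ⟨[1072702207, 1609572863, 17715692543], [32, 33, 34], [[0, 1, -1], [1, 0, 0], [1, 0, -1]], [[-2, 4, -2], [2, 0, 2], [2, 0, -2]], [[1, 0, 1], [1, 1], [2]]⟩,
  ⟨[1072710143], [35], [[1]], [[4]], [[1]]⟩]

theorem okBb5s : Bb5s.all (bChk true 5 false Vb5 X5 []) = true := by decide +kernel

theorem both_b5 : Both true 5 false :=
  both_of (bl := Bb5s) (dg := []) (W := []) tab5 inVb5 (all2_nil _) okX5 okBb5s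
    (by decide +kernel) (by decide +kernel)

/-- data -/
def Bb6s : List (Blk) := [
  ⟨[2129658879], [0], [[1]], [[4]], [[1]]⟩,
  ⟨[1072695279, 2112882175, 3186623487], [1, 2, 3], [[0, 1, -1], [1, 0, 0], [1, 0, -1]], [[-2, 4, -2], [2, 0, 2], [2, 0, -2]], [[1, 0, 1], [1, 1], [2]]⟩,
  ⟨[1609566175, 2079327999, 3689939967], [4, 5, 6], [[0, 1, -1], [1, 0, 0], [1, 0, -1]], [[-2, 4, -2], [2, 0, 2], [2, 0, -2]], [[1, 0, 1], [1, 1], [2]]⟩,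
  ⟨[3153069567], [7], [[1]], [[4]], [[1]]⟩,
  ⟨[1072696287, 2079328767, 5300552703], [8, 9, 10], [[0, 1, -1], [1, 0, 0], [1, 0, -1]], [[-2, 4, -2], [2, 0, 2], [2, 0, -2]], [[1, 0, 1], [1, 1], [2]]⟩,
  ⟨[1878001599, 2012219263, 3891266559], [11, 12, 13], [[0, 1, -1], [1, 0, 0], [1, 0, -1]], [[-2, 4, -2], [2, 0, 2], [2, 0, -2]], [[1, 0, 1], [1, 1], [2]]⟩,
  ⟨[2683307967, 3085960959, 3622831615], [14, 15, 16], [[0, 1, -1], [1, 0, 0], [1, 0, -1]], [[-2, 4, -2], [2, 0, 2], [2, 0, -2]], [[1, 0, 1], [1, 1], [2]]⟩,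
  ⟨[1609567167, 2012220159, 5770314751], [17, 18, 19], [[0, 1, -1], [1, 0, 0], [1, 0, -1]], [[-2, 4, -2], [2, 0, 2], [2, 0, -2]], [[1, 0, 1], [1, 1], [2]]⟩,
  ⟨[1072696767, 3085961727, 5233444351], [20, 21, 22], [[0, 1, -1], [1, 0, 0], [1, 0, -1]], [[-2, 4, -2], [2, 0, 2], [2, 0, -2]], [[1, 0, 1], [1, 1], [2]]⟩,
  ⟨[1072698303, 2012221951, 9528411135], [23, 24, 25], [[0, 1, -1], [1, 0, 0], [1, 0, -1]], [[-2, 4, -2], [2, 0, 2], [2, 0, -2]], [[1, 0, 1], [1, 1], [2]]⟩,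
  ⟨[2951743359], [26], [[1]], [[4]], [[1]]⟩,
  ⟨[1878002559], [27], [[1]], [[4]], [[1]]⟩,
  ⟨[3488614143], [28], [[1]], [[4]], [[1]]⟩,
  ⟨[1609569151, 1878004479, 9931064319], [39, 40, 41], [[0, 1, -1], [1, 0, 0], [1, 0, -1]], [[-2, 4, -2], [2, 0, 2], [2, 0, -2]], [[1, 0, 1], [1, 1], [2]]⟩,
  ⟨[5099227647], [42], [[1]], [[4]], [[1]]⟩,
  ⟨[1072698751, 2951746047, 9394193919], [43, 44, 45], [[0, 1, -1], [1, 0, 0], [1, 0, -1]], [[-2, 4, -2], [2, 0, 2], [2, 0, -2]], [[1, 0, 1], [1, 1], [2]]⟩,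
  ⟨[1072702335, 1878008319, 17984127999], [46, 47, 48], [[0, 1, -1], [1, 0, 0], [1, 0, -1]], [[-2, 4, -2], [2, 0, 2], [2, 0, -2]], [[1, 0, 1], [1, 1], [2]]⟩,
  ⟨[2683309311], [49], [[1]], [[4]], [[1]]⟩,
  ⟨[4830792447], [50], [[1]], [[4]], [[1]]⟩,
  ⟨[1609569535, 2683310847, 9125758719], [51, 52, 53], [[0, 1, -1], [1, 0, 0], [1, 0, -1]], [[-2, 4, -2], [2, 0, 2], [2, 0, -2]], [[1, 0, 1], [1, 1], [2]]⟩,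
  ⟨[1609573119], [54], [[1]], [[4]], [[1]]⟩,
  ⟨[1072699647, 4830794239, 9125759487], [55, 56, 57], [[0, 1, -1], [1, 0, 0], [1, 0, -1]], [[-2, 4, -2], [2, 0, 2], [2, 0, -2]], [[1, 0, 1], [1, 1], [2]]⟩,
  ⟨[1072702719, 2683314687, 17715693055], [58, 59, 60], [[0, 1, -1], [1, 0, 0], [1, 0, -1]], [[-2, 4, -2], [2, 0, 2], [2, 0, -2]], [[1, 0, 1], [1, 1], [2]]⟩,
  ⟨[1072710399, 1609581055, 34895561727], [61, 62, 63], [[0, 1, -1], [1, 0, 0], [1, 0, -1]], [[-2, 4, -2], [2, 0, 2], [2, 0, -2]], [[1, 0, 1], [1, 1], [2]]⟩,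
  ⟨[1072726527], [64], [[1]], [[4]], [[1]]⟩]

/-- data -/
def Bb6t0 : List (Blk) := [
  ⟨[5099226879, 5636097535, 4830791551, 6709838847, 3488614911, 1072696959, 1878002943, 1609567615, 2683308927, 2951744255], [29, 30, 31, 32, 33, 34, 35, 36, 37, 38], [[-1, 1, 0, 1, -1, 0, 1, -1, 1, -1], [0, 0, 0, 0, 1, -1, 0, 0, 0, 0], [-1, 1, 0, 1, -1, 0, 1, 0, 0, 0], [0, 0, 1, 1, 0, -1, 0, 1, 0, 0], [0, 0, 0, 0, 0, 0, 1, 0, 0, 0], [-1, 1, 0, 1, -2, 1, 2, -1, 1, 0], [0, 0, 0, 0, 1, 0, 0, 0, 0, 0], [1, -1, 1, -1, 2, -1, 0, 1, -1, 1], [0, 1, 0, 0, 0, 0, 0, 0, 1, 0], [1, 0, 1, 0, 0, 0, 0, 1, 0, 1]], [[1, 0, 1, 0, 0, 0, 0, -1, 0, -1], [1, 0, -1, 0, 0, 0, 0, -1, 0, 1], [-1, 2, -1, 0, 0, 0, 0, 1, -2, 1], [-1, 0, 1, 2, 0, -2, 0, 1, 0, -1], [1, 0, -1, 0, 0, 0, 0, 1, 0, -1], [-3, 2, -1, 2, -4, 2, 4, -3, 2, -1], [-1,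 0, -1, 2, 0, 2, 0, -1, 0, -1], [1, -2, 1, -2, 4, -2, 0, 1, -2, 1], [-1, 2, -1, 0, 0, 0, 0, -1, 2, -1], [1, 0, 1, 0, 0, 0, 0, 1, 0, 1]], [[1, 0, 0, 1, 0, 1, 0, 0, 1, 0], [1, 0, 1, 0, 0, 0, 1, 1, 0], [1, 1, 0, 1, 0, 0, 0, 1], [2, 0, 0, 0, 0, 0, 2], [1, 1, 0, 1, 0, 1], [2, 0, 0, 0, 2], [1, 1, 1, 1], [2, 0, 2], [2, 2], [4]]⟩]

theorem okBb6s : Bb6s.all (bChk true 6 false Vb6 X6 []) = true := by decide +kernel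

theorem okBb6t0 : Bb6t0.all (bChk true 6 false Vb6 X6 []) = true := by decide +kernel

theorem both_b6 : Both true 6 false :=
  both_of (bl := Bb6s ++ (Bb6t0)) (dg := []) (W := []) tab6 inVb6 (all2_nil _) okX6 (all_app okBb6s okBb6t0)
    (by decide +kernel) (by decide +kernel)

/-- data -/
def Bb7s : List (Blk) := [
  ⟨[2138047487], [0], [[1]], [[4]], [[1]]⟩,
  ⟨[1072695287, 2129659391, 3203400703], [1, 2, 3], [[0, 1, -1], [1, 0, 0], [1, 0, -1]], [[-2, 4, -2], [2, 0, 2], [2, 0, -2]], [[1, 0, 1], [1, 1], [2]]⟩,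
  ⟨[1609566191, 2112882431, 3723494399], [4, 5, 6], [[0, 1, -1], [1, 0, 0], [1, 0, -1]], [[-2, 4, -2], [2, 0, 2], [2, 0, -2]], [[1, 0, 1], [1, 1], [2]]⟩,
  ⟨[3186623999], [7], [[1]], [[4]], [[1]]⟩,
  ⟨[1072696303, 2112883199, 5334107135], [8, 9, 10], [[0, 1, -1], [1, 0, 0], [1, 0, -1]], [[-2, 4, -2], [2, 0, 2], [2, 0, -2]], [[1, 0, 1], [1, 1], [2]]⟩,
  ⟨[1878001631, 2079328127, 3958375423], [11, 12, 13], [[0, 1, -1], [1, 0, 0], [1, 0, -1]], [[-2, 4, -2], [2, 0, 2], [2, 0, -2]], [[1, 0, 1], [1, 1], [2]]⟩,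
  ⟨[2683307999, 3153069823, 3689940479], [14, 15, 16], [[0, 1, -1], [1, 0, 0], [1, 0, -1]], [[-2, 4, -2], [2, 0, 2], [2, 0, -2]], [[1, 0, 1], [1, 1], [2]]⟩,
  ⟨[1609567199, 2079329023, 5837423615], [17, 18, 19], [[0, 1, -1], [1, 0, 0], [1, 0, -1]], [[-2, 4, -2], [2, 0, 2], [2, 0, -2]], [[1, 0, 1], [1, 1], [2]]⟩,
  ⟨[1072696799, 3153070591, 5300553215], [20, 21, 22], [[0, 1, -1], [1, 0, 0], [1, 0, -1]], [[-2, 4, -2], [2, 0, 2], [2, 0, -2]], [[1, 0, 1], [1, 1], [2]]⟩,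
  ⟨[1072698335, 2079330815, 9595519999], [23, 24, 25], [[0, 1, -1], [1, 0, 0], [1, 0, -1]], [[-2, 4, -2], [2, 0, 2], [2, 0, -2]], [[1, 0, 1], [1, 1], [2]]⟩,
  ⟨[2012219327], [26], [[1]], [[4]], [[1]]⟩,
  ⟨[2951743423, 3085961087, 3891267071], [27, 28, 29], [[0, 1, -1], [1, 0, 0], [1, 0, -1]], [[-2, 4, -2], [2, 0, 2], [2, 0, -2]], [[1, 0, 1], [1, 1], [2]]⟩,
  ⟨[1878002623, 2012220287, 6038750207], [30, 31, 32], [[0, 1, -1], [1, 0, 0], [1, 0, -1]], [[-2, 4, -2], [2, 0, 2], [2, 0, -2]], [[1, 0, 1], [1, 1], [2]]⟩,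
  ⟨[3622831871], [33], [[1]], [[4]], [[1]]⟩,
  ⟨[1609569215, 2012222207, 10065282047], [44, 45, 46], [[0, 1, -1], [1, 0, 0], [1, 0, -1]], [[-2, 4, -2], [2, 0, 2], [2, 0, -2]], [[1, 0, 1], [1, 1], [2]]⟩,
  ⟨[5233445375], [47], [[1]], [[4]], [[1]]⟩,
  ⟨[1072698815, 3085963775, 9528411647], [48, 49, 50], [[0, 1, -1], [1, 0, 0], [1, 0, -1]], [[-2, 4, -2], [2, 0, 2], [2, 0, -2]], [[1, 0, 1], [1, 1], [2]]⟩,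
  ⟨[1072702399, 2012226047, 18118345727], [51, 52, 53], [[0, 1, -1], [1, 0, 0], [1, 0, -1]], [[-2, 4, -2], [2, 0, 2], [2, 0, -2]], [[1, 0, 1], [1, 1], [2]]⟩,
  ⟨[3488614271], [54], [[1]], [[4]], [[1]]⟩,
  ⟨[1878003071, 2951744383, 5099227007], [55, 56, 57], [[0, 1, -1], [1, 0, 0], [1, 0, -1]], [[-2, 4, -2], [2, 0, 2], [2, 0, -2]], [[1, 0, 1], [1, 1], [2]]⟩,
  ⟨[1878004607], [58], [[1]], [[4]], [[1]]⟩,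
  ⟨[1609567871, 3488615167, 5636097791], [59, 60, 61], [[0, 1, -1], [1, 0, 0], [1, 0, -1]], [[-2, 4, -2], [2, 0, 2], [2, 0, -2]], [[1, 0, 1], [1, 1], [2]]⟩,
  ⟨[2683309439, 2951744767, 6709839359], [62, 63, 64], [[0, 1, -1], [1, 0, 0], [1, 0, -1]], [[-2, 4, -2], [2, 0, 2], [2, 0, -2]], [[1, 0, 1], [1, 1], [2]]⟩,
  ⟨[4830792575, 5099227903, 5636098559], [65, 66, 67], [[0, 1, -1], [1, 0, 0], [1, 0, -1]], [[-2, 4, -2], [2, 0, 2], [2, 0, -2]], [[1, 0, 1], [1, 1], [2]]⟩,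
  ⟨[1609573247, 1878008575, 18520998911], [78, 79, 80], [[0, 1, -1], [1, 0, 0], [1, 0, -1]], [[-2, 4, -2], [2, 0, 2], [2, 0, -2]], [[1, 0, 1], [1, 1], [2]]⟩,
  ⟨[1072699775, 5099229695, 9394194943], [81, 82, 83], [[0, 1, -1], [1, 0, 0], [1, 0, -1]], [[-2, 4, -2], [2, 0, 2], [2, 0, -2]], [[1, 0, 1], [1, 1], [2]]⟩,
  ⟨[1072702847, 2951750143, 17984128511], [84, 85, 86], [[0, 1, -1], [1, 0, 0], [1, 0, -1]], [[-2, 4, -2], [2, 0, 2], [2, 0, -2]], [[1, 0, 1], [1, 1], [2]]⟩,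
  ⟨[1072710527, 1878016511, 35163997183], [87, 88, 89], [[0, 1, -1], [1, 0, 0], [1, 0, -1]], [[-2, 4, -2], [2, 0, 2], [2, 0, -2]], [[1, 0, 1], [1, 1], [2]]⟩,
  ⟨[4830792959], [90], [[1]], [[4]], [[1]]⟩,
  ⟨[2683311359], [91], [[1]], [[4]], [[1]]⟩,
  ⟨[1609570559, 4830794495, 9125759743], [92, 93, 94], [[0, 1, -1], [1, 0, 0], [1, 0, -1]], [[-2, 4, -2], [2, 0, 2], [2, 0, -2]], [[1, 0, 1], [1, 1], [2]]⟩,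
  ⟨[1609573631, 2683314943, 17715693311], [95, 96, 97], [[0, 1, -1], [1, 0, 0], [1, 0, -1]], [[-2, 4, -2], [2, 0, 2], [2, 0, -2]], [[1, 0, 1], [1, 1], [2]]⟩,
  ⟨[1609581311], [98], [[1]], [[4]], [[1]]⟩,
  ⟨[9125761535], [99], [[1]], [[4]], [[1]]⟩,
  ⟨[1072703743, 4830798335, 17715694079], [100, 101, 102], [[0, 1, -1], [1, 0, 0], [1, 0, -1]], [[-2, 4, -2], [2, 0, 2], [2, 0, -2]], [[1, 0, 1], [1, 1], [2]]⟩,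
  ⟨[1072710911, 2683322879, 34895562239], [103, 104, 105], [[0, 1, -1], [1, 0, 0], [1, 0, -1]], [[-2, 4, -2], [2, 0, 2], [2, 0, -2]], [[1, 0, 1], [1, 1], [2]]⟩,
  ⟨[1072726783, 1609597439, 69255300095], [106, 107, 108], [[0, 1, -1], [1, 0, 0], [1, 0, -1]], [[-2, 4, -2], [2, 0, 2], [2, 0, -2]], [[1, 0, 1], [1, 1], [2]]⟩,
  ⟨[1072759295], [109], [[1]], [[4]], [[1]]⟩]

/-- data -/
def Bb7t0 : List (Blk) := [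
  ⟨[5233444607, 5770315263, 4830791615, 6844056575, 3622832639, 1072697023, 2012220671, 1609567679, 2683308991, 3085961983], [34, 35, 36, 37, 38, 39, 40, 41, 42, 43], [[-1, 1, 0, 1, -1, 0, 1, -1, 1, -1], [0, 0, 0, 0, 1, -1, 0, 0, 0, 0], [-1, 1, 0, 1, -1, 0, 1, 0, 0, 0], [0, 0, 1, 1, 0, -1, 0, 1, 0, 0], [0, 0, 0, 0, 0, 0, 1, 0, 0, 0], [-1, 1, 0, 1, -2, 1, 2, -1, 1, 0], [0, 0, 0, 0, 1, 0, 0, 0, 0, 0], [1, -1, 1, -1, 2, -1, 0, 1, -1, 1], [0, 1, 0, 0, 0, 0, 0, 0, 1, 0], [1, 0, 1, 0, 0, 0, 0, 1, 0, 1]], [[1, 0, 1, 0, 0, 0, 0, -1, 0, -1], [1, 0, -1, 0, 0, 0, 0, -1, 0, 1], [-1, 2, -1, 0, 0, 0, 0, 1, -2, 1], [-1, 0, 1, 2, 0, -2, 0, 1, 0, -1], [1, 0, -1, 0, 0, 0, 0, 1, 0, -1], [-3, 2, -1, 2, -4, 2, 4, -3, 2, -1], [-1, 0, -1, 2, 0, 2, 0, -1, 0, -1], [1, -2, 1, -2, 4, -2, 0, 1, -2, 1], [-1, 2, -1, 0, 0,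 0, 0, -1, 2, -1], [1, 0, 1, 0, 0, 0, 0, 1, 0, 1]], [[1, 0, 0, 1, 0, 1, 0, 0, 1, 0], [1, 0, 1, 0, 0, 0, 1, 1, 0], [1, 1, 0, 1, 0, 0, 0, 1], [2, 0, 0, 0, 0, 0, 2], [1, 1, 0, 1, 0, 1], [2, 0, 0, 0, 2], [1, 1, 1, 1], [2, 0, 2], [2, 2], [4]]⟩,
  ⟨[9394194175, 9931064831, 9125758847, 11004806143, 3488616959, 1072699007, 1878004991, 1609569663, 2683310975, 2951746303], [68, 69, 70, 71, 72, 73, 74, 75, 76, 77], [[-1, 1, 0, 1, -1, 0, 1, -1, 1, -1], [0, 0, 0, 0, 1, -1, 0, 0, 0, 0], [-1, 1, 0, 1, -1, 0, 1, 0, 0, 0], [0, 0, 1, 1, 0, -1, 0, 1, 0, 0], [0, 0, 0, 0, 0, 0, 1, 0, 0, 0], [-1, 1, 0, 1, -2, 1, 2, -1, 1, 0], [0, 0, 0, 0, 1, 0, 0, 0, 0, 0], [1, -1, 1, -1, 2, -1, 0, 1, -1, 1], [0, 1, 0, 0, 0, 0, 0, 0, 1, 0], [1, 0, 1, 0, 0, 0, 0, 1, 0, 1]], [[1, 0, 1, 0, 0, 0, 0, -1, 0, -1], [1, 0, -1, 0, 0, 0, 0,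 -1, 0, 1], [-1, 2, -1, 0, 0, 0, 0, 1, -2, 1], [-1, 0, 1, 2, 0, -2, 0, 1, 0, -1], [1, 0, -1, 0, 0, 0, 0, 1, 0, -1], [-3, 2, -1, 2, -4, 2, 4, -3, 2, -1], [-1, 0, -1, 2, 0, 2, 0, -1, 0, -1], [1, -2, 1, -2, 4, -2, 0, 1, -2, 1], [-1, 2, -1, 0, 0, 0, 0, -1, 2, -1], [1, 0, 1, 0, 0, 0, 0, 1, 0, 1]], [[1, 0, 0, 1, 0, 1, 0, 0, 1, 0], [1, 0, 1, 0, 0, 0, 1, 1, 0], [1, 1, 0, 1, 0, 0, 0, 1], [2, 0, 0, 0, 0, 0, 2], [1, 1, 0, 1, 0, 1], [2, 0, 0, 0, 2], [1, 1, 1, 1], [2, 0, 2], [2, 2], [4]]⟩]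

theorem okBb7s : Bb7s.all (bChk true 7 false Vb7 X7 []) = true := by decide +kernel

theorem okBb7t0 : Bb7t0.all (bChk true 7 false Vb7 X7 []) = true := by decide +kernel

theorem both_b7 : Both true 7 false :=
  both_of (bl := Bb7s ++ (Bb7t0)) (dg := []) (W := []) tab7 inVb7 (all2_nil _) okX7 (all_app okBb7s okBb7t0)
    (by decide +kernel) (by decide +kernel)

/-- data -/
def Bb8s_0 : List (Blk) := [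
  ⟨[2142241791], [0], [[1]], [[4]], [[1]]⟩,
  ⟨[1072695291, 2138047999, 3211789311], [1, 2, 3], [[0, 1, -1], [1, 0, 0], [1, 0, -1]], [[-2, 4, -2], [2, 0, 2], [2, 0, -2]], [[1, 0, 1], [1, 1], [2]]⟩,
  ⟨[1609566199, 2129659647, 3740271615], [4, 5, 6], [[0, 1, -1], [1, 0, 0], [1, 0, -1]], [[-2, 4, -2], [2, 0, 2], [2, 0, -2]], [[1, 0, 1], [1, 1], [2]]⟩,
  ⟨[3203401215], [7], [[1]], [[4]], [[1]]⟩,
  ⟨[1072696311, 2129660415, 5350884351], [8, 9, 10], [[0, 1, -1], [1, 0, 0], [1, 0, -1]], [[-2, 4, -2], [2, 0, 2], [2, 0, -2]], [[1, 0, 1], [1, 1], [2]]⟩,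
  ⟨[1878001647, 2112882559, 3991929855], [11, 12, 13], [[0, 1, -1], [1, 0, 0], [1, 0, -1]], [[-2, 4, -2], [2, 0, 2], [2, 0, -2]], [[1, 0, 1], [1, 1], [2]]⟩,
  ⟨[2683308015, 3186624255, 3723494911], [14, 15, 16], [[0, 1, -1], [1, 0, 0], [1, 0, -1]], [[-2, 4, -2], [2, 0, 2], [2, 0, -2]], [[1, 0, 1], [1, 1], [2]]⟩,
  ⟨[1609567215, 2112883455, 5870978047], [17, 18, 19], [[0, 1, -1], [1, 0, 0], [1, 0, -1]], [[-2, 4, -2], [2, 0, 2], [2, 0, -2]], [[1, 0, 1], [1, 1], [2]]⟩,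
  ⟨[1072696815, 3186625023, 5334107647], [20, 21, 22], [[0, 1, -1], [1, 0, 0], [1, 0, -1]], [[-2, 4, -2], [2, 0, 2], [2, 0, -2]], [[1, 0, 1], [1, 1], [2]]⟩,
  ⟨[1072698351, 2112885247, 9629074431], [23, 24, 25], [[0, 1, -1], [1, 0, 0], [1, 0, -1]], [[-2, 4, -2], [2, 0, 2], [2, 0, -2]], [[1, 0, 1], [1, 1], [2]]⟩,
  ⟨[2012219359, 2079328191, 4092593151], [26, 27, 28], [[0, 1, -1], [1, 0, 0], [1, 0, -1]], [[-2, 4, -2], [2, 0, 2], [2, 0, -2]], [[1, 0, 1], [1, 1], [2]]⟩,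
  ⟨[2951743455, 3153069951, 3958375935], [29, 30, 31], [[0, 1, -1], [1, 0, 0], [1, 0, -1]], [[-2, 4, -2], [2, 0, 2], [2, 0, -2]], [[1, 0, 1], [1, 1], [2]]⟩,
  ⟨[1878002655, 2079329151, 6105859071], [32, 33, 34], [[0, 1, -1], [1, 0, 0], [1, 0, -1]], [[-2, 4, -2], [2, 0, 2], [2, 0, -2]], [[1, 0, 1], [1, 1], [2]]⟩,
  ⟨[3689940735], [35], [[1]], [[4]], [[1]]⟩,
  ⟨[1609569247, 2079331071, 10132390911], [46, 47, 48], [[0, 1, -1], [1, 0, 0], [1, 0, -1]], [[-2, 4, -2], [2, 0, 2], [2, 0, -2]], [[1, 0, 1], [1, 1], [2]]⟩,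
  ⟨[5300554239], [49], [[1]], [[4]], [[1]]⟩,
  ⟨[1072698847, 3153072639, 9595520511], [50, 51, 52], [[0, 1, -1], [1, 0, 0], [1, 0, -1]], [[-2, 4, -2], [2, 0, 2], [2, 0, -2]], [[1, 0, 1], [1, 1], [2]]⟩,
  ⟨[1072702431, 2079334911, 18185454591], [53, 54, 55], [[0, 1, -1], [1, 0, 0], [1, 0, -1]], [[-2, 4, -2], [2, 0, 2], [2, 0, -2]], [[1, 0, 1], [1, 1], [2]]⟩,
  ⟨[3085961151], [56], [[1]], [[4]], [[1]]⟩,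
  ⟨[2012220351], [57], [[1]], [[4]], [[1]]⟩,
  ⟨[3488614335, 3622831999, 3891267327], [58, 59, 60], [[0, 1, -1], [1, 0, 0], [1, 0, -1]], [[-2, 4, -2], [2, 0, 2], [2, 0, -2]], [[1, 0, 1], [1, 1], [2]]⟩,
  ⟨[1878004671, 2012222335, 10333717503], [71, 72, 73], [[0, 1, -1], [1, 0, 0], [1, 0, -1]], [[-2, 4, -2], [2, 0, 2], [2, 0, -2]], [[1, 0, 1], [1, 1], [2]]⟩,
  ⟨[1609567935, 3622832895, 5770315519], [74, 75, 76], [[0, 1, -1], [1, 0, 0], [1, 0, -1]], [[-2, 4, -2], [2, 0, 2], [2, 0, -2]], [[1, 0, 1], [1, 1], [2]]⟩,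
  ⟨[2683309503, 3085962495, 6844057087], [77, 78, 79], [[0, 1, -1], [1, 0, 0], [1, 0, -1]], [[-2, 4, -2], [2, 0, 2], [2, 0, -2]], [[1, 0, 1], [1, 1], [2]]⟩,
  ⟨[4830792639, 5233445631, 5770316287], [80, 81, 82], [[0, 1, -1], [1, 0, 0], [1, 0, -1]], [[-2, 4, -2], [2, 0, 2], [2, 0, -2]], [[1, 0, 1], [1, 1], [2]]⟩,
  ⟨[1609573311, 2012226303, 18655216639], [93, 94, 95], [[0, 1, -1], [1, 0, 0], [1, 0, -1]], [[-2, 4, -2], [2, 0, 2], [2, 0, -2]], [[1, 0, 1], [1, 1], [2]]⟩,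
  ⟨[1072699839, 5233447423, 9528412671], [96, 97, 98], [[0, 1, -1], [1, 0, 0], [1, 0, -1]], [[-2, 4, -2], [2, 0, 2], [2, 0, -2]], [[1, 0, 1], [1, 1], [2]]⟩,
  ⟨[1072702911, 3085967871, 18118346239], [99, 100, 101], [[0, 1, -1], [1, 0, 0], [1, 0, -1]], [[-2, 4, -2], [2, 0, 2], [2, 0, -2]], [[1, 0, 1], [1, 1], [2]]⟩,
  ⟨[1072710591, 2012234239, 35298214911], [102, 103, 104], [[0, 1, -1], [1, 0, 0], [1, 0, -1]], [[-2, 4, -2], [2, 0, 2], [2, 0, -2]], [[1, 0, 1], [1, 1], [2]]⟩,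
  ⟨[1878003327, 3488615295, 5636097919], [105, 106, 107], [[0, 1, -1], [1, 0, 0], [1, 0, -1]], [[-2, 4, -2], [2, 0, 2], [2, 0, -2]], [[1, 0, 1], [1, 1], [2]]⟩,
  ⟨[2951744895], [108], [[1]], [[4]], [[1]]⟩,
  ⟨[5099228031], [109], [[1]], [[4]], [[1]]⟩,
  ⟨[1878005119, 2951746431, 9394194303], [110, 111, 112], [[0, 1, -1], [1, 0, 0], [1, 0, -1]], [[-2, 4, -2], [2, 0, 2], [2, 0, -2]], [[1, 0, 1], [1, 1], [2]]⟩,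
  ⟨[1878008703], [113], [[1]], [[4]], [[1]]⟩,
  ⟨[2683309695, 3488615679, 6709839615], [114, 115, 116], [[0, 1, -1], [1, 0, 0], [1, 0, -1]], [[-2, 4, -2], [2, 0, 2], [2, 0, -2]], [[1, 0, 1], [1, 1], [2]]⟩,
  ⟨[5636098815], [117], [[1]], [[4]], [[1]]⟩,
  ⟨[1609569919, 3488617215, 9931065087], [118, 119, 120], [[0, 1, -1], [1, 0, 0], [1, 0, -1]], [[-2, 4, -2], [2, 0, 2], [2, 0, -2]], [[1, 0, 1], [1, 1], [2]]⟩,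
  ⟨[4830793087, 5099228415, 6709840383], [121, 122, 123], [[0, 1, -1], [1, 0, 0], [1, 0, -1]], [[-2, 4, -2], [2, 0, 2], [2, 0, -2]], [[1, 0, 1], [1, 1], [2]]⟩,
  ⟨[2683311487, 2951746815, 11004806655], [124, 125, 126], [[0, 1, -1], [1, 0, 0], [1, 0, -1]], [[-2, 4, -2], [2, 0, 2], [2, 0, -2]], [[1, 0, 1], [1, 1], [2]]⟩,
  ⟨[1609581439, 1878016767, 35700868095], [147, 148, 149], [[0, 1, -1], [1, 0, 0], [1, 0, -1]], [[-2, 4, -2], [2, 0, 2], [2, 0, -2]], [[1, 0, 1], [1, 1], [2]]⟩]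

/-- data -/
def Bb8s_1 : List (Blk) := [
  ⟨[9394196991], [150], [[1]], [[4]], [[1]]⟩,
  ⟨[1072703871, 5099233791, 17984129535], [151, 152, 153], [[0, 1, -1], [1, 0, 0], [1, 0, -1]], [[-2, 4, -2], [2, 0, 2], [2, 0, -2]], [[1, 0, 1], [1, 1], [2]]⟩,
  ⟨[1072711039, 2951758335, 35163997695], [154, 155, 156], [[0, 1, -1], [1, 0, 0], [1, 0, -1]], [[-2, 4, -2], [2, 0, 2], [2, 0, -2]], [[1, 0, 1], [1, 1], [2]]⟩,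
  ⟨[1072726911, 1878032895, 69523735551], [157, 158, 159], [[0, 1, -1], [1, 0, 0], [1, 0, -1]], [[-2, 4, -2], [2, 0, 2], [2, 0, -2]], [[1, 0, 1], [1, 1], [2]]⟩,
  ⟨[2683312383, 4830795007, 9125760255], [160, 161, 162], [[0, 1, -1], [1, 0, 0], [1, 0, -1]], [[-2, 4, -2], [2, 0, 2], [2, 0, -2]], [[1, 0, 1], [1, 1], [2]]⟩,
  ⟨[2683315455], [163], [[1]], [[4]], [[1]]⟩,
  ⟨[9125761791], [164], [[1]], [[4]], [[1]]⟩,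
  ⟨[1609574655, 4830798591, 17715694335], [165, 166, 167], [[0, 1, -1], [1, 0, 0], [1, 0, -1]], [[-2, 4, -2], [2, 0, 2], [2, 0, -2]], [[1, 0, 1], [1, 1], [2]]⟩,
  ⟨[1609581823, 2683323135, 34895562495], [168, 169, 170], [[0, 1, -1], [1, 0, 0], [1, 0, -1]], [[-2, 4, -2], [2, 0, 2], [2, 0, -2]], [[1, 0, 1], [1, 1], [2]]⟩,
  ⟨[1609597695], [171], [[1]], [[4]], [[1]]⟩,
  ⟨[1072705791, 9125765631, 17715696127], [172, 173, 174], [[0, 1, -1], [1, 0, 0], [1, 0, -1]], [[-2, 4, -2], [2, 0, 2], [2, 0, -2]], [[1, 0, 1], [1, 1], [2]]⟩,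
  ⟨[1072711935, 4830806527, 34895563263], [175, 176, 177], [[0, 1, -1], [1, 0, 0], [1, 0, -1]], [[-2, 4, -2], [2, 0, 2], [2, 0, -2]], [[1, 0, 1], [1, 1], [2]]⟩,
  ⟨[1072727295, 2683339263, 69255300607], [178, 179, 180], [[0, 1, -1], [1, 0, 0], [1, 0, -1]], [[-2, 4, -2], [2, 0, 2], [2, 0, -2]], [[1, 0, 1], [1, 1], [2]]⟩,
  ⟨[1072759551, 1609630207, 137974776831], [181, 182, 183], [[0, 1, -1], [1, 0, 0], [1, 0, -1]], [[-2, 4, -2], [2, 0, 2], [2, 0, -2]], [[1, 0, 1], [1, 1], [2]]⟩,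
  ⟨[1072824831], [184], [[1]], [[4]], [[1]]⟩]

/-- data -/
def Bb8s : List (Blk) := Bb8s_0 ++ (Bb8s_1)

/-- data -/
def Bb8t0 : List (Blk) := [
  ⟨[5300553471, 5837424127, 4830791647, 6911165439, 3689941503, 1072697055, 2079329535, 1609567711, 2683309023, 3153070847], [36, 37, 38, 39, 40, 41, 42, 43, 44, 45], [[-1, 1, 0, 1, -1, 0, 1, -1, 1, -1], [0, 0, 0, 0, 1, -1, 0, 0, 0, 0], [-1, 1, 0, 1, -1, 0, 1, 0, 0, 0], [0, 0, 1, 1, 0, -1, 0, 1, 0, 0], [0, 0, 0, 0, 0, 0, 1, 0, 0, 0], [-1, 1, 0, 1, -2, 1, 2, -1, 1, 0], [0, 0, 0, 0, 1, 0, 0, 0, 0, 0], [1, -1, 1, -1, 2, -1, 0, 1, -1, 1], [0, 1, 0, 0, 0, 0, 0, 0, 1, 0], [1, 0, 1, 0, 0, 0, 0, 1, 0, 1]], [[1, 0, 1, 0, 0, 0, 0, -1, 0, -1], [1, 0, -1, 0, 0, 0, 0, -1, 0, 1], [-1, 2, -1, 0, 0, 0, 0, 1, -2, 1], [-1, 0, 1, 2, 0, -2, 0, 1, 0, -1], [1, 0, -1, 0, 0,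 0, 0, 1, 0, -1], [-3, 2, -1, 2, -4, 2, 4, -3, 2, -1], [-1, 0, -1, 2, 0, 2, 0, -1, 0, -1], [1, -2, 1, -2, 4, -2, 0, 1, -2, 1], [-1, 2, -1, 0, 0, 0, 0, -1, 2, -1], [1, 0, 1, 0, 0, 0, 0, 1, 0, 1]], [[1, 0, 0, 1, 0, 1, 0, 0, 1, 0], [1, 0, 1, 0, 0, 0, 1, 1, 0], [1, 1, 0, 1, 0, 0, 0, 1], [2, 0, 0, 0, 0, 0, 2], [1, 1, 0, 1, 0, 1], [2, 0, 0, 0, 2], [1, 1, 1, 1], [2, 0, 2], [2, 2], [4]]⟩,
  ⟨[5233444735, 6038750719, 5099227071, 7112492031, 3891268095, 1072697151, 2012220799, 1878003135, 2951744447, 3085962111], [61, 62, 63, 64, 65, 66, 67, 68, 69, 70], [[-1, 1, 0, 1, -1, 0, 1, -1, 1, -1], [0, 0, 0, 0, 1, -1, 0, 0, 0, 0], [-1, 1, 0, 1, -1, 0, 1, 0, 0, 0], [0, 0, 1, 1, 0, -1, 0, 1, 0, 0], [0, 0, 0, 0, 0, 0, 1, 0, 0, 0], [-1, 1, 0, 1, -2, 1, 2, -1, 1, 0], [0, 0, 0, 0, 1, 0, 0, 0, 0, 0], [1, -1, 1, -1, 2,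 -1, 0, 1, -1, 1], [0, 1, 0, 0, 0, 0, 0, 0, 1, 0], [1, 0, 1, 0, 0, 0, 0, 1, 0, 1]], [[1, 0, 1, 0, 0, 0, 0, -1, 0, -1], [1, 0, -1, 0, 0, 0, 0, -1, 0, 1], [-1, 2, -1, 0, 0, 0, 0, 1, -2, 1], [-1, 0, 1, 2, 0, -2, 0, 1, 0, -1], [1, 0, -1, 0, 0, 0, 0, 1, 0, -1], [-3, 2, -1, 2, -4, 2, 4, -3, 2, -1], [-1, 0, -1, 2, 0, 2, 0, -1, 0, -1], [1, -2, 1, -2, 4, -2, 0, 1, -2, 1], [-1, 2, -1, 0, 0, 0, 0, -1, 2, -1], [1, 0, 1, 0, 0, 0, 0, 1, 0, 1]], [[1, 0, 0, 1, 0, 1, 0, 0, 1, 0], [1, 0, 1, 0, 0, 0, 1, 1, 0], [1, 1, 0, 1, 0, 0, 0, 1], [2, 0, 0, 0, 0, 0, 2], [1, 1, 0, 1, 0, 1], [2, 0, 0, 0, 2], [1, 1, 1, 1], [2, 0, 2], [2, 2], [4]]⟩,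
  ⟨[9528411903, 10065282559, 9125758911, 11139023871, 3622834687, 1072699071, 2012222719, 1609569727, 2683311039, 3085964031], [83, 84, 85, 86, 87, 88, 89, 90, 91, 92], [[-1, 1, 0, 1, -1, 0, 1, -1, 1, -1], [0, 0, 0, 0, 1, -1, 0, 0, 0, 0], [-1, 1, 0, 1, -1, 0, 1, 0, 0, 0], [0, 0, 1, 1, 0, -1, 0, 1, 0, 0], [0, 0, 0, 0, 0, 0, 1, 0, 0, 0], [-1, 1, 0, 1, -2, 1, 2, -1, 1, 0], [0, 0, 0, 0, 1, 0, 0, 0, 0, 0], [1, -1, 1, -1, 2, -1, 0, 1, -1, 1], [0, 1, 0, 0, 0, 0, 0, 0, 1, 0], [1, 0, 1, 0, 0, 0, 0, 1, 0, 1]], [[1, 0, 1, 0, 0, 0, 0, -1, 0, -1], [1, 0, -1, 0, 0, 0, 0, -1, 0, 1], [-1, 2, -1, 0, 0, 0, 0, 1, -2, 1], [-1, 0, 1, 2, 0, -2, 0, 1, 0, -1], [1, 0, -1, 0, 0, 0, 0, 1, 0, -1], [-3, 2, -1, 2, -4, 2, 4, -3, 2, -1], [-1, 0, -1, 2, 0, 2, 0, -1, 0, -1], [1, -2, 1, -2, 4, -2, 0, 1, -2, 1], [-1, 2, -1, 0,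 0, 0, 0, -1, 2, -1], [1, 0, 1, 0, 0, 0, 0, 1, 0, 1]], [[1, 0, 0, 1, 0, 1, 0, 0, 1, 0], [1, 0, 1, 0, 0, 0, 1, 1, 0], [1, 1, 0, 1, 0, 0, 0, 1], [2, 0, 0, 0, 0, 0, 2], [1, 1, 0, 1, 0, 1], [2, 0, 0, 0, 2], [1, 1, 1, 1], [2, 0, 2], [2, 2], [4]]⟩]

/-- data -/
def Bb8t1 : List (Blk) := [
  ⟨[9394195199, 9931065855, 9125759871, 13152289791, 5636100607, 1072700031, 1878006015, 1609570687, 4830794623, 5099229951], [127, 128, 129, 130, 131, 132, 133, 134, 135, 136], [[-1, 1, 0, 1, -1, 0, 1, -1, 1, -1], [0, 0, 0, 0, 1, -1, 0, 0, 0, 0], [-1, 1, 0, 1, -1, 0, 1, 0, 0, 0], [0, 0, 1, 1, 0, -1, 0, 1, 0, 0], [0, 0, 0, 0, 0, 0, 1, 0, 0, 0], [-1, 1, 0, 1, -2, 1, 2, -1, 1, 0], [0, 0, 0, 0, 1, 0, 0, 0, 0, 0], [1, -1, 1, -1, 2, -1, 0, 1, -1, 1], [0, 1, 0, 0, 0, 0, 0, 0, 1, 0], [1, 0, 1, 0, 0, 0, 0, 1, 0, 1]], [[1,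 0, 1, 0, 0, 0, 0, -1, 0, -1], [1, 0, -1, 0, 0, 0, 0, -1, 0, 1], [-1, 2, -1, 0, 0, 0, 0, 1, -2, 1], [-1, 0, 1, 2, 0, -2, 0, 1, 0, -1], [1, 0, -1, 0, 0, 0, 0, 1, 0, -1], [-3, 2, -1, 2, -4, 2, 4, -3, 2, -1], [-1, 0, -1, 2, 0, 2, 0, -1, 0, -1], [1, -2, 1, -2, 4, -2, 0, 1, -2, 1], [-1, 2, -1, 0, 0, 0, 0, -1, 2, -1], [1, 0, 1, 0, 0, 0, 0, 1, 0, 1]], [[1, 0, 0, 1, 0, 1, 0, 0, 1, 0], [1, 0, 1, 0, 0, 0, 1, 1, 0], [1, 1, 0, 1, 0, 0, 0, 1], [2, 0, 0, 0, 0, 0, 2], [1, 1, 0, 1, 0, 1], [2, 0, 0, 0, 2], [1, 1, 1, 1], [2, 0, 2], [2, 2], [4]]⟩,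
  ⟨[17984128767, 18520999423, 17715693439, 19594740735, 3488621055, 1072703103, 1878009087, 1609573759, 2683315071, 2951750399], [137, 138, 139, 140, 141, 142, 143, 144, 145, 146], [[-1, 1, 0, 1, -1, 0, 1, -1, 1, -1], [0, 0, 0, 0, 1, -1, 0, 0, 0, 0], [-1, 1, 0, 1, -1, 0, 1, 0, 0, 0], [0, 0, 1, 1, 0, -1, 0, 1, 0, 0], [0, 0, 0, 0, 0, 0, 1, 0, 0, 0], [-1, 1, 0, 1, -2, 1, 2, -1, 1, 0], [0, 0, 0, 0, 1, 0, 0, 0, 0, 0], [1, -1, 1, -1, 2, -1, 0, 1, -1, 1], [0, 1, 0, 0, 0, 0, 0, 0, 1, 0], [1, 0, 1, 0, 0, 0, 0, 1, 0, 1]], [[1, 0, 1, 0, 0, 0, 0, -1, 0, -1], [1, 0, -1, 0, 0, 0, 0, -1, 0, 1], [-1, 2, -1, 0, 0, 0, 0, 1, -2, 1], [-1, 0, 1, 2, 0, -2, 0, 1, 0, -1], [1, 0, -1, 0, 0, 0, 0, 1, 0, -1], [-3, 2, -1, 2, -4, 2, 4, -3, 2, -1], [-1, 0, -1, 2, 0, 2, 0, -1, 0, -1], [1, -2, 1, -2, 4, -2, 0, 1, -2, 1], [-1,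 2, -1, 0, 0, 0, 0, -1, 2, -1], [1, 0, 1, 0, 0, 0, 0, 1, 0, 1]], [[1, 0, 0, 1, 0, 1, 0, 0, 1, 0], [1, 0, 1, 0, 0, 0, 1, 1, 0], [1, 1, 0, 1, 0, 0, 0, 1], [2, 0, 0, 0, 0, 0, 2], [1, 1, 0, 1, 0, 1], [2, 0, 0, 0, 2], [1, 1, 1, 1], [2, 0, 2], [2, 2], [4]]⟩]

theorem okBb8s : Bb8s.all (bChk true 8 false Vb8 X8 []) = true := by decide +kernel

theorem okBb8t0 : Bb8t0.all (bChk true 8 false Vb8 X8 []) = true := by decide +kernel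

theorem okBb8t1 : Bb8t1.all (bChk true 8 false Vb8 X8 []) = true := by decide +kernel

theorem both_b8 : Both true 8 false :=
  both_of (bl := Bb8s ++ (Bb8t0 ++ (Bb8t1))) (dg := []) (W := []) tab8 inVb8 (all2_nil _) okX8 (all_app okBb8s (all_app okBb8t0 okBb8t1))
    (by decide +kernel) (by decide +kernel)


end Cfsg.Agent.LV.Cl.Cert
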