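import Cfsg.Agent.LV.Cl.Cert3
import Cfsg.Agent.LV.Cl.CertX
import Cfsg.Agent.LV.Cl.CertVb

/-! # LV, classical groups: certificate data (generated by `notes/LV/py/cert`; helper58) -/

set_option autoImplicit false
set_option linter.dupNamespace false
set_option maxRecDepth 100000

namespace Cfsg.Agent.LV.Cl.Cert

/-- data -/
def Bb9s_0 : List (Blk) := [
  ⟨[2144338943], [0], [[1]], [[4]], [[1]]⟩,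
  ⟨[1072695293, 2142242303, 3215983615], [1, 2, 3], [[0, 1, -1], [1, 0, 0], [1, 0, -1]], [[-2, 4, -2], [2, 0, 2], [2, 0, -2]], [[1, 0, 1], [1, 1], [2]]⟩,
  ⟨[1609566203, 2138048255, 3748660223], [4, 5, 6], [[0, 1, -1], [1, 0, 0], [1, 0, -1]], [[-2, 4, -2], [2, 0, 2], [2, 0, -2]], [[1, 0, 1], [1, 1], [2]]⟩,
  ⟨[3211789823], [7], [[1]], [[4]], [[1]]⟩,
  ⟨[1072696315, 2138049023, 5359272959], [8, 9, 10], [[0, 1, -1], [1, 0, 0], [1, 0, -1]], [[-2, 4, -2], [2, 0, 2], [2, 0, -2]], [[1, 0, 1], [1, 1], [2]]⟩,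
  ⟨[1878001655, 2129659775, 4008707071], [11, 12, 13], [[0, 1, -1], [1, 0, 0], [1, 0, -1]], [[-2, 4, -2], [2, 0, 2], [2, 0, -2]], [[1, 0, 1], [1, 1], [2]]⟩,
  ⟨[2683308023, 3203401471, 3740272127], [14, 15, 16], [[0, 1, -1], [1, 0, 0], [1, 0, -1]], [[-2, 4, -2], [2, 0, 2], [2, 0, -2]], [[1, 0, 1], [1, 1], [2]]⟩,
  ⟨[1609567223, 2129660671, 5887755263], [17, 18, 19], [[0, 1, -1], [1, 0, 0], [1, 0, -1]], [[-2, 4, -2], [2, 0, 2], [2, 0, -2]], [[1, 0, 1], [1, 1], [2]]⟩,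
  ⟨[1072696823, 3203402239, 5350884863], [20, 21, 22], [[0, 1, -1], [1, 0, 0], [1, 0, -1]], [[-2, 4, -2], [2, 0, 2], [2, 0, -2]], [[1, 0, 1], [1, 1], [2]]⟩,
  ⟨[1072698359, 2129662463, 9645851647], [23, 24, 25], [[0, 1, -1], [1, 0, 0], [1, 0, -1]], [[-2, 4, -2], [2, 0, 2], [2, 0, -2]], [[1, 0, 1], [1, 1], [2]]⟩,
  ⟨[2012219375, 2112882623, 4126147583], [26, 27, 28], [[0, 1, -1], [1, 0, 0], [1, 0, -1]], [[-2, 4, -2], [2, 0, 2], [2, 0, -2]], [[1, 0, 1], [1, 1], [2]]⟩,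
  ⟨[2951743471, 3186624383, 3991930367], [29, 30, 31], [[0, 1, -1], [1, 0, 0], [1, 0, -1]], [[-2, 4, -2], [2, 0, 2], [2, 0, -2]], [[1, 0, 1], [1, 1], [2]]⟩,
  ⟨[1878002671, 2112883583, 6139413503], [32, 33, 34], [[0, 1, -1], [1, 0, 0], [1, 0, -1]], [[-2, 4, -2], [2, 0, 2], [2, 0, -2]], [[1, 0, 1], [1, 1], [2]]⟩,
  ⟨[3723495167], [35], [[1]], [[4]], [[1]]⟩,
  ⟨[1609569263, 2112885503, 10165945343], [46, 47, 48], [[0, 1, -1], [1, 0, 0], [1, 0, -1]], [[-2, 4, -2], [2, 0, 2], [2, 0, -2]], [[1, 0, 1], [1, 1], [2]]⟩,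
  ⟨[5334108671], [49], [[1]], [[4]], [[1]]⟩,
  ⟨[1072698863, 3186627071, 9629074943], [50, 51, 52], [[0, 1, -1], [1, 0, 0], [1, 0, -1]], [[-2, 4, -2], [2, 0, 2], [2, 0, -2]], [[1, 0, 1], [1, 1], [2]]⟩,
  ⟨[1072702447, 2112889343, 18219009023], [53, 54, 55], [[0, 1, -1], [1, 0, 0], [1, 0, -1]], [[-2, 4, -2], [2, 0, 2], [2, 0, -2]], [[1, 0, 1], [1, 1], [2]]⟩,
  ⟨[2079328223], [56], [[1]], [[4]], [[1]]⟩,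
  ⟨[3085961183, 3153070015, 4092593663], [57, 58, 59], [[0, 1, -1], [1, 0, 0], [1, 0, -1]], [[-2, 4, -2], [2, 0, 2], [2, 0, -2]], [[1, 0, 1], [1, 1], [2]]⟩,
  ⟨[2012220383, 2079329215, 6240076799], [60, 61, 62], [[0, 1, -1], [1, 0, 0], [1, 0, -1]], [[-2, 4, -2], [2, 0, 2], [2, 0, -2]], [[1, 0, 1], [1, 1], [2]]⟩,
  ⟨[3488614367, 3689940863, 3958376191], [63, 64, 65], [[0, 1, -1], [1, 0, 0], [1, 0, -1]], [[-2, 4, -2], [2, 0, 2], [2, 0, -2]], [[1, 0, 1], [1, 1], [2]]⟩,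
  ⟨[1878004703, 2079331199, 10400826367], [76, 77, 78], [[0, 1, -1], [1, 0, 0], [1, 0, -1]], [[-2, 4, -2], [2, 0, 2], [2, 0, -2]], [[1, 0, 1], [1, 1], [2]]⟩,
  ⟨[1609567967, 3689941759, 5837424383], [79, 80, 81], [[0, 1, -1], [1, 0, 0], [1, 0, -1]], [[-2, 4, -2], [2, 0, 2], [2, 0, -2]], [[1, 0, 1], [1, 1], [2]]⟩,
  ⟨[2683309535, 3153071359, 6911165951], [82, 83, 84], [[0, 1, -1], [1, 0, 0], [1, 0, -1]], [[-2, 4, -2], [2, 0, 2], [2, 0, -2]], [[1, 0, 1], [1, 1], [2]]⟩,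
  ⟨[4830792671, 5300554495, 5837425151], [85, 86, 87], [[0, 1, -1], [1, 0, 0], [1, 0, -1]], [[-2, 4, -2], [2, 0, 2], [2, 0, -2]], [[1, 0, 1], [1, 1], [2]]⟩,
  ⟨[1609573343, 2079335167, 18722325503], [98, 99, 100], [[0, 1, -1], [1, 0, 0], [1, 0, -1]], [[-2, 4, -2], [2, 0, 2], [2, 0, -2]], [[1, 0, 1], [1, 1], [2]]⟩,
  ⟨[1072699871, 5300556287, 9595521535], [101, 102, 103], [[0, 1, -1], [1, 0, 0], [1, 0, -1]], [[-2, 4, -2], [2, 0, 2], [2, 0, -2]], [[1, 0, 1], [1, 1], [2]]⟩,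
  ⟨[1072702943, 3153076735, 18185455103], [104, 105, 106], [[0, 1, -1], [1, 0, 0], [1, 0, -1]], [[-2, 4, -2], [2, 0, 2], [2, 0, -2]], [[1, 0, 1], [1, 1], [2]]⟩,
  ⟨[1072710623, 2079343103, 35365323775], [107, 108, 109], [[0, 1, -1], [1, 0, 0], [1, 0, -1]], [[-2, 4, -2], [2, 0, 2], [2, 0, -2]], [[1, 0, 1], [1, 1], [2]]⟩,
  ⟨[3622832063], [110], [[1]], [[4]], [[1]]⟩,
  ⟨[2012220863, 3085962175, 5233444799], [111, 112, 113], [[0, 1, -1], [1, 0, 0], [1, 0, -1]], [[-2, 4, -2], [2, 0, 2], [2, 0, -2]], [[1, 0, 1], [1, 1], [2]]⟩,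
  ⟨[2012222399], [114], [[1]], [[4]], [[1]]⟩,
  ⟨[3891267455], [115], [[1]], [[4]], [[1]]⟩,
  ⟨[2951744959, 3085962623, 7112492543], [126, 127, 128], [[0, 1, -1], [1, 0, 0], [1, 0, -1]], [[-2, 4, -2], [2, 0, 2], [2, 0, -2]], [[1, 0, 1], [1, 1], [2]]⟩,
  ⟨[5099228095, 5233445759, 6038751743], [129, 130, 131], [[0, 1, -1], [1, 0, 0], [1, 0, -1]], [[-2, 4, -2], [2, 0, 2], [2, 0, -2]], [[1, 0, 1], [1, 1], [2]]⟩,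
  ⟨[1878008767, 2012226431, 18923652095], [142, 143, 144], [[0, 1, -1], [1, 0, 0], [1, 0, -1]], [[-2, 4, -2], [2, 0, 2], [2, 0, -2]], [[1, 0, 1], [1, 1], [2]]⟩,
  ⟨[2683309759, 3622833407, 6844057343], [145, 146, 147], [[0, 1, -1], [1, 0, 0], [1, 0, -1]], [[-2, 4, -2], [2, 0, 2], [2, 0, -2]], [[1, 0, 1], [1, 1], [2]]⟩,
  ⟨[5770316543], [148], [[1]], [[4]], [[1]]⟩,
  ⟨[1609569983, 3622834943, 10065282815], [149, 150, 151], [[0, 1, -1], [1, 0, 0], [1, 0, -1]], [[-2, 4, -2], [2, 0, 2], [2, 0, -2]], [[1, 0, 1], [1, 1], [2]]⟩]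

/-- data -/
def Bb9s_1 : List (Blk) := [
  ⟨[4830793151, 5233446143, 6844058111], [152, 153, 154], [[0, 1, -1], [1, 0, 0], [1, 0, -1]], [[-2, 4, -2], [2, 0, 2], [2, 0, -2]], [[1, 0, 1], [1, 1], [2]]⟩,
  ⟨[2683311551, 3085964543, 11139024383], [155, 156, 157], [[0, 1, -1], [1, 0, 0], [1, 0, -1]], [[-2, 4, -2], [2, 0, 2], [2, 0, -2]], [[1, 0, 1], [1, 1], [2]]⟩,
  ⟨[1609581503, 2012234495, 35835085823], [178, 179, 180], [[0, 1, -1], [1, 0, 0], [1, 0, -1]], [[-2, 4, -2], [2, 0, 2], [2, 0, -2]], [[1, 0, 1], [1, 1], [2]]⟩,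
  ⟨[9528414719], [181], [[1]], [[4]], [[1]]⟩,
  ⟨[1072703935, 5233451519, 18118347263], [182, 183, 184], [[0, 1, -1], [1, 0, 0], [1, 0, -1]], [[-2, 4, -2], [2, 0, 2], [2, 0, -2]], [[1, 0, 1], [1, 1], [2]]⟩,
  ⟨[1072711103, 3085976063, 35298215423], [185, 186, 187], [[0, 1, -1], [1, 0, 0], [1, 0, -1]], [[-2, 4, -2], [2, 0, 2], [2, 0, -2]], [[1, 0, 1], [1, 1], [2]]⟩,
  ⟨[1072726975, 2012250623, 69657953279], [188, 189, 190], [[0, 1, -1], [1, 0, 0], [1, 0, -1]], [[-2, 4, -2], [2, 0, 2], [2, 0, -2]], [[1, 0, 1], [1, 1], [2]]⟩,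
  ⟨[2951745151, 3488615807, 6709839743], [191, 192, 193], [[0, 1, -1], [1, 0, 0], [1, 0, -1]], [[-2, 4, -2], [2, 0, 2], [2, 0, -2]], [[1, 0, 1], [1, 1], [2]]⟩,
  ⟨[5636098943], [194], [[1]], [[4]], [[1]]⟩,
  ⟨[1878005375, 3488617343, 9931065215], [195, 196, 197], [[0, 1, -1], [1, 0, 0], [1, 0, -1]], [[-2, 4, -2], [2, 0, 2], [2, 0, -2]], [[1, 0, 1], [1, 1], [2]]⟩,
  ⟨[5099228543], [198], [[1]], [[4]], [[1]]⟩,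
  ⟨[2951746943], [199], [[1]], [[4]], [[1]]⟩,
  ⟨[1878006143, 5099230079, 9394195327], [200, 201, 202], [[0, 1, -1], [1, 0, 0], [1, 0, -1]], [[-2, 4, -2], [2, 0, 2], [2, 0, -2]], [[1, 0, 1], [1, 1], [2]]⟩,
  ⟨[1878009215, 2951750527, 17984128895], [203, 204, 205], [[0, 1, -1], [1, 0, 0], [1, 0, -1]], [[-2, 4, -2], [2, 0, 2], [2, 0, -2]], [[1, 0, 1], [1, 1], [2]]⟩,
  ⟨[1878016895], [206], [[1]], [[4]], [[1]]⟩,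
  ⟨[4830793343, 5636099327, 6709840639], [207, 208, 209], [[0, 1, -1], [1, 0, 0], [1, 0, -1]], [[-2, 4, -2], [2, 0, 2], [2, 0, -2]], [[1, 0, 1], [1, 1], [2]]⟩,
  ⟨[2683311743, 3488617727, 11004806911], [210, 211, 212], [[0, 1, -1], [1, 0, 0], [1, 0, -1]], [[-2, 4, -2], [2, 0, 2], [2, 0, -2]], [[1, 0, 1], [1, 1], [2]]⟩,
  ⟨[1609570943, 5636100863, 9931066111], [213, 214, 215], [[0, 1, -1], [1, 0, 0], [1, 0, -1]], [[-2, 4, -2], [2, 0, 2], [2, 0, -2]], [[1, 0, 1], [1, 1], [2]]⟩,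
  ⟨[1609574015, 3488621311, 18520999679], [216, 217, 218], [[0, 1, -1], [1, 0, 0], [1, 0, -1]], [[-2, 4, -2], [2, 0, 2], [2, 0, -2]], [[1, 0, 1], [1, 1], [2]]⟩,
  ⟨[2683315583, 2951750911, 19594741247], [229, 230, 231], [[0, 1, -1], [1, 0, 0], [1, 0, -1]], [[-2, 4, -2], [2, 0, 2], [2, 0, -2]], [[1, 0, 1], [1, 1], [2]]⟩,
  ⟨[9125761919, 9394197247, 9931067903], [232, 233, 234], [[0, 1, -1], [1, 0, 0], [1, 0, -1]], [[-2, 4, -2], [2, 0, 2], [2, 0, -2]], [[1, 0, 1], [1, 1], [2]]⟩,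
  ⟨[1609597823, 1878033151, 70060606463], [255, 256, 257], [[0, 1, -1], [1, 0, 0], [1, 0, -1]], [[-2, 4, -2], [2, 0, 2], [2, 0, -2]], [[1, 0, 1], [1, 1], [2]]⟩,
  ⟨[1072705919, 9394201087, 17984131583], [258, 259, 260], [[0, 1, -1], [1, 0, 0], [1, 0, -1]], [[-2, 4, -2], [2, 0, 2], [2, 0, -2]], [[1, 0, 1], [1, 1], [2]]⟩,
  ⟨[1072712063, 5099241983, 35163998719], [261, 262, 263], [[0, 1, -1], [1, 0, 0], [1, 0, -1]], [[-2, 4, -2], [2, 0, 2], [2, 0, -2]], [[1, 0, 1], [1, 1], [2]]⟩,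
  ⟨[1072727423, 2951774719, 69523736063], [264, 265, 266], [[0, 1, -1], [1, 0, 0], [1, 0, -1]], [[-2, 4, -2], [2, 0, 2], [2, 0, -2]], [[1, 0, 1], [1, 1], [2]]⟩,
  ⟨[1072759679, 1878065663, 138243212287], [267, 268, 269], [[0, 1, -1], [1, 0, 0], [1, 0, -1]], [[-2, 4, -2], [2, 0, 2], [2, 0, -2]], [[1, 0, 1], [1, 1], [2]]⟩,
  ⟨[4830796031], [270], [[1]], [[4]], [[1]]⟩,
  ⟨[9125762303], [271], [[1]], [[4]], [[1]]⟩,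
  ⟨[2683316479, 4830799103, 17715694847], [272, 273, 274], [[0, 1, -1], [1, 0, 0], [1, 0, -1]], [[-2, 4, -2], [2, 0, 2], [2, 0, -2]], [[1, 0, 1], [1, 1], [2]]⟩,
  ⟨[2683323647], [275], [[1]], [[4]], [[1]]⟩,
  ⟨[1609576703, 9125765887, 17715696383], [276, 277, 278], [[0, 1, -1], [1, 0, 0], [1, 0, -1]], [[-2, 4, -2], [2, 0, 2], [2, 0, -2]], [[1, 0, 1], [1, 1], [2]]⟩,
  ⟨[1609582847, 4830806783, 34895563519], [279, 280, 281], [[0, 1, -1], [1, 0, 0], [1, 0, -1]], [[-2, 4, -2], [2, 0, 2], [2, 0, -2]], [[1, 0, 1], [1, 1], [2]]⟩,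
  ⟨[1609598207, 2683339519, 69255300863], [282, 283, 284], [[0, 1, -1], [1, 0, 0], [1, 0, -1]], [[-2, 4, -2], [2, 0, 2], [2, 0, -2]], [[1, 0, 1], [1, 1], [2]]⟩,
  ⟨[1609630463], [285], [[1]], [[4]], [[1]]⟩,
  ⟨[17715700223], [286], [[1]], [[4]], [[1]]⟩,
  ⟨[1072713983, 9125773823, 34895565311], [287, 288, 289], [[0, 1, -1], [1, 0, 0], [1, 0, -1]], [[-2, 4, -2], [2, 0, 2], [2, 0, -2]], [[1, 0, 1], [1, 1], [2]]⟩,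
  ⟨[1072728319, 4830822911, 69255301631], [290, 291, 292], [[0, 1, -1], [1, 0, 0], [1, 0, -1]], [[-2, 4, -2], [2, 0, 2], [2, 0, -2]], [[1, 0, 1], [1, 1], [2]]⟩,
  ⟨[1072760063, 2683372031, 137974777343], [293, 294, 295], [[0, 1, -1], [1, 0, 0], [1, 0, -1]], [[-2, 4, -2], [2, 0, 2], [2, 0, -2]], [[1, 0, 1], [1, 1], [2]]⟩,
  ⟨[1072825087, 1609695743, 275413730303], [296, 297, 298], [[0, 1, -1], [1, 0, 0], [1, 0, -1]], [[-2, 4, -2], [2, 0, 2], [2, 0, -2]], [[1, 0, 1], [1, 1], [2]]⟩,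
  ⟨[1072955903], [299], [[1]], [[4]], [[1]]⟩]

/-- data -/
def Bb9s : List (Blk) := Bb9s_0 ++ (Bb9s_1)

/-- data -/
def Bb9t0 : List (Blk) := [
  ⟨[5334107903, 5870978559, 4830791663, 6944719871, 3723495935, 1072697071, 2112883967, 1609567727, 2683309039, 3186625279], [36, 37, 38, 39, 40, 41, 42, 43, 44, 45], [[-1, 1, 0, 1, -1, 0, 1, -1, 1, -1], [0, 0, 0, 0, 1, -1, 0, 0, 0, 0], [-1, 1, 0, 1, -1, 0, 1, 0, 0, 0], [0, 0, 1, 1, 0, -1, 0, 1, 0, 0], [0, 0, 0, 0, 0, 0, 1, 0, 0, 0], [-1, 1, 0, 1, -2, 1, 2, -1, 1, 0], [0, 0, 0, 0, 1, 0, 0, 0, 0, 0], [1, -1, 1, -1, 2, -1, 0, 1, -1, 1], [0, 1, 0, 0, 0, 0, 0, 0, 1, 0], [1, 0, 1, 0, 0, 0, 0, 1, 0, 1]], [[1, 0, 1, 0, 0, 0, 0, -1, 0, -1], [1, 0, -1, 0, 0, 0, 0, -1, 0, 1], [-1, 2, -1, 0, 0, 0, 0, 1, -2, 1], [-1, 0, 1, 2, 0, -2, 0, 1,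 0, -1], [1, 0, -1, 0, 0, 0, 0, 1, 0, -1], [-3, 2, -1, 2, -4, 2, 4, -3, 2, -1], [-1, 0, -1, 2, 0, 2, 0, -1, 0, -1], [1, -2, 1, -2, 4, -2, 0, 1, -2, 1], [-1, 2, -1, 0, 0, 0, 0, -1, 2, -1], [1, 0, 1, 0, 0, 0, 0, 1, 0, 1]], [[1, 0, 0, 1, 0, 1, 0, 0, 1, 0], [1, 0, 1, 0, 0, 0, 1, 1, 0], [1, 1, 0, 1, 0, 0, 0, 1], [2, 0, 0, 0, 0, 0, 2], [1, 1, 0, 1, 0, 1], [2, 0, 0, 0, 2], [1, 1, 1, 1], [2, 0, 2], [2, 2], [4]]⟩,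
  ⟨[5300553599, 6105859583, 5099227103, 7179600895, 3958376959, 1072697183, 2079329663, 1878003167, 2951744479, 3153070975], [66, 67, 68, 69, 70, 71, 72, 73, 74, 75], [[-1, 1, 0, 1, -1, 0, 1, -1, 1, -1], [0, 0, 0, 0, 1, -1, 0, 0, 0, 0], [-1, 1, 0, 1, -1, 0, 1, 0, 0, 0], [0, 0, 1, 1, 0, -1, 0, 1, 0, 0], [0, 0, 0, 0, 0, 0, 1, 0, 0, 0], [-1, 1, 0, 1, -2, 1, 2, -1, 1, 0], [0, 0, 0, 0, 1, 0, 0, 0, 0, 0], [1, -1, 1, -1, 2, -1, 0, 1, -1, 1], [0, 1, 0, 0, 0, 0, 0, 0, 1, 0], [1, 0, 1, 0, 0, 0, 0, 1, 0, 1]], [[1, 0, 1, 0, 0, 0, 0, -1, 0, -1], [1, 0, -1, 0, 0, 0, 0, -1, 0, 1], [-1, 2, -1, 0, 0, 0, 0, 1, -2, 1], [-1, 0, 1, 2, 0, -2, 0, 1, 0, -1], [1, 0, -1, 0, 0, 0, 0, 1, 0, -1], [-3, 2, -1, 2, -4, 2, 4, -3, 2, -1], [-1, 0, -1, 2, 0, 2, 0, -1, 0, -1], [1, -2, 1, -2, 4, -2, 0, 1, -2,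 1], [-1, 2, -1, 0, 0, 0, 0, -1, 2, -1], [1, 0, 1, 0, 0, 0, 0, 1, 0, 1]], [[1, 0, 0, 1, 0, 1, 0, 0, 1, 0], [1, 0, 1, 0, 0, 0, 1, 1, 0], [1, 1, 0, 1, 0, 0, 0, 1], [2, 0, 0, 0, 0, 0, 2], [1, 1, 0, 1, 0, 1], [2, 0, 0, 0, 2], [1, 1, 1, 1], [2, 0, 2], [2, 2], [4]]⟩,
  ⟨[9595520767, 10132391423, 9125758943, 11206132735, 3689943551, 1072699103, 2079331583, 1609569759, 2683311071, 3153072895], [88, 89, 90, 91, 92, 93, 94, 95, 96, 97], [[-1, 1, 0, 1, -1, 0, 1, -1, 1, -1], [0, 0, 0, 0, 1, -1, 0, 0, 0, 0], [-1, 1, 0, 1, -1, 0, 1, 0, 0, 0], [0, 0, 1, 1, 0, -1, 0, 1, 0, 0], [0, 0, 0, 0, 0, 0, 1, 0, 0, 0], [-1, 1, 0, 1, -2, 1, 2, -1, 1, 0], [0, 0, 0, 0, 1, 0, 0, 0, 0, 0], [1, -1, 1, -1, 2, -1, 0, 1, -1, 1], [0, 1, 0, 0, 0, 0, 0, 0, 1, 0], [1, 0, 1, 0, 0, 0, 0, 1, 0, 1]], [[1, 0, 1, 0,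 0, 0, 0, -1, 0, -1], [1, 0, -1, 0, 0, 0, 0, -1, 0, 1], [-1, 2, -1, 0, 0, 0, 0, 1, -2, 1], [-1, 0, 1, 2, 0, -2, 0, 1, 0, -1], [1, 0, -1, 0, 0, 0, 0, 1, 0, -1], [-3, 2, -1, 2, -4, 2, 4, -3, 2, -1], [-1, 0, -1, 2, 0, 2, 0, -1, 0, -1], [1, -2, 1, -2, 4, -2, 0, 1, -2, 1], [-1, 2, -1, 0, 0, 0, 0, -1, 2, -1], [1, 0, 1, 0, 0, 0, 0, 1, 0, 1]], [[1, 0, 0, 1, 0, 1, 0, 0, 1, 0], [1, 0, 1, 0, 0, 0, 1, 1, 0], [1, 1, 0, 1, 0, 0, 0, 1], [2, 0, 0, 0, 0, 0, 2], [1, 1, 0, 1, 0, 1], [2, 0, 0, 0, 2], [1, 1, 1, 1], [2, 0, 2], [2, 2], [4]]⟩]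

/-- data -/
def Bb9t1 : List (Blk) := [
  ⟨[5770315647, 6038750975, 5636097983, 7649362943, 3891268351, 1609568063, 2012221055, 1878003391, 3488615359, 3622833023], [116, 117, 118, 119, 120, 121, 122, 123, 124, 125], [[-1, 1, 0, 1, -1, 0, 1, -1, 1, -1], [0, 0, 0, 0, 1, -1, 0, 0, 0, 0], [-1, 1, 0, 1, -1, 0, 1, 0, 0, 0], [0, 0, 1, 1, 0, -1, 0, 1, 0, 0], [0, 0, 0, 0, 0, 0, 1, 0, 0, 0], [-1, 1, 0, 1, -2, 1, 2, -1, 1, 0], [0, 0, 0, 0, 1, 0, 0, 0, 0, 0], [1, -1, 1, -1, 2, -1, 0, 1, -1, 1], [0, 1, 0, 0, 0, 0, 0, 0, 1, 0], [1, 0, 1, 0, 0, 0, 0, 1, 0, 1]], [[1, 0, 1, 0, 0, 0, 0, -1, 0, -1], [1, 0, -1, 0, 0, 0, 0, -1, 0, 1], [-1, 2, -1, 0, 0, 0, 0, 1, -2, 1], [-1, 0, 1, 2, 0, -2, 0, 1, 0, -1], [1, 0, -1, 0, 0, 0, 0, 1, 0, -1], [-3, 2, -1, 2, -4, 2, 4, -3, 2, -1], [-1, 0, -1, 2,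 0, 2, 0, -1, 0, -1], [1, -2, 1, -2, 4, -2, 0, 1, -2, 1], [-1, 2, -1, 0, 0, 0, 0, -1, 2, -1], [1, 0, 1, 0, 0, 0, 0, 1, 0, 1]], [[1, 0, 0, 1, 0, 1, 0, 0, 1, 0], [1, 0, 1, 0, 0, 0, 1, 1, 0], [1, 1, 0, 1, 0, 0, 0, 1], [2, 0, 0, 0, 0, 0, 2], [1, 1, 0, 1, 0, 1], [2, 0, 0, 0, 2], [1, 1, 1, 1], [2, 0, 2], [2, 2], [4]]⟩,
  ⟨[9528412031, 10333718015, 9394194367, 11407459327, 3891270143, 1072699199, 2012222847, 1878005183, 2951746495, 3085964159], [132, 133, 134, 135, 136, 137, 138, 139, 140, 141], [[-1, 1, 0, 1, -1, 0, 1, -1, 1, -1], [0, 0, 0, 0, 1, -1, 0, 0, 0, 0], [-1, 1, 0, 1, -1, 0, 1, 0, 0, 0], [0, 0, 1, 1, 0, -1, 0, 1, 0, 0], [0, 0, 0, 0, 0, 0, 1, 0, 0, 0], [-1, 1, 0, 1, -2, 1, 2, -1, 1, 0], [0, 0, 0, 0, 1, 0, 0, 0, 0, 0], [1, -1, 1, -1, 2, -1, 0, 1, -1, 1], [0, 1, 0, 0, 0,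 0, 0, 0, 1, 0], [1, 0, 1, 0, 0, 0, 0, 1, 0, 1]], [[1, 0, 1, 0, 0, 0, 0, -1, 0, -1], [1, 0, -1, 0, 0, 0, 0, -1, 0, 1], [-1, 2, -1, 0, 0, 0, 0, 1, -2, 1], [-1, 0, 1, 2, 0, -2, 0, 1, 0, -1], [1, 0, -1, 0, 0, 0, 0, 1, 0, -1], [-3, 2, -1, 2, -4, 2, 4, -3, 2, -1], [-1, 0, -1, 2, 0, 2, 0, -1, 0, -1], [1, -2, 1, -2, 4, -2, 0, 1, -2, 1], [-1, 2, -1, 0, 0, 0, 0, -1, 2, -1], [1, 0, 1, 0, 0, 0, 0, 1, 0, 1]], [[1, 0, 0, 1, 0, 1, 0, 0, 1, 0], [1, 0, 1, 0, 0, 0, 1, 1, 0], [1, 1, 0, 1, 0, 0, 0, 1], [2, 0, 0, 0, 0, 0, 2], [1, 1, 0, 1, 0, 1], [2, 0, 0, 0, 2], [1, 1, 1, 1], [2, 0, 2], [2, 2], [4]]⟩,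
  ⟨[9528412927, 10065283583, 9125759935, 13286507519, 5770318335, 1072700095, 2012223743, 1609570751, 4830794687, 5233447679], [158, 159, 160, 161, 162, 163, 164, 165, 166, 167], [[-1, 1, 0, 1, -1, 0, 1, -1, 1, -1], [0, 0, 0, 0, 1, -1, 0, 0, 0, 0], [-1, 1, 0, 1, -1, 0, 1, 0, 0, 0], [0, 0, 1, 1, 0, -1, 0, 1, 0, 0], [0, 0, 0, 0, 0, 0, 1, 0, 0, 0], [-1, 1, 0, 1, -2, 1, 2, -1, 1, 0], [0, 0, 0, 0, 1, 0, 0, 0, 0, 0], [1, -1, 1, -1, 2, -1, 0, 1, -1, 1], [0, 1, 0, 0, 0, 0, 0, 0, 1, 0], [1, 0, 1, 0, 0, 0, 0, 1, 0, 1]], [[1, 0, 1, 0, 0, 0, 0, -1, 0, -1], [1, 0, -1, 0, 0, 0, 0, -1, 0, 1], [-1, 2, -1, 0, 0, 0, 0, 1, -2, 1], [-1, 0, 1, 2, 0, -2, 0, 1, 0, -1], [1, 0, -1, 0, 0, 0, 0, 1, 0, -1], [-3, 2, -1, 2, -4, 2, 4, -3, 2, -1], [-1, 0, -1, 2, 0, 2, 0, -1, 0, -1], [1, -2, 1, -2, 4,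 -2, 0, 1, -2, 1], [-1, 2, -1, 0, 0, 0, 0, -1, 2, -1], [1, 0, 1, 0, 0, 0, 0, 1, 0, 1]], [[1, 0, 0, 1, 0, 1, 0, 0, 1, 0], [1, 0, 1, 0, 0, 0, 1, 1, 0], [1, 1, 0, 1, 0, 0, 0, 1], [2, 0, 0, 0, 0, 0, 2], [1, 1, 0, 1, 0, 1], [2, 0, 0, 0, 2], [1, 1, 1, 1], [2, 0, 2], [2, 2], [4]]⟩]

/-- data -/
def Bb9t2 : List (Blk) := [
  ⟨[18118346495, 18655217151, 17715693503, 19728958463, 3622838783, 1072703167, 2012226815, 1609573823, 2683315135, 3085968127], [168, 169, 170, 171, 172, 173, 174, 175, 176, 177], [[-1, 1, 0, 1, -1, 0, 1, -1, 1, -1], [0, 0, 0, 0, 1, -1, 0, 0, 0, 0], [-1, 1, 0, 1, -1, 0, 1, 0, 0, 0], [0, 0, 1, 1, 0, -1, 0, 1, 0, 0], [0, 0, 0, 0, 0, 0, 1, 0, 0, 0], [-1, 1, 0, 1, -2, 1, 2, -1, 1, 0], [0, 0, 0, 0, 1, 0, 0, 0, 0, 0], [1, -1, 1, -1, 2, -1, 0, 1, -1, 1], [0, 1, 0,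 0, 0, 0, 0, 0, 1, 0], [1, 0, 1, 0, 0, 0, 0, 1, 0, 1]], [[1, 0, 1, 0, 0, 0, 0, -1, 0, -1], [1, 0, -1, 0, 0, 0, 0, -1, 0, 1], [-1, 2, -1, 0, 0, 0, 0, 1, -2, 1], [-1, 0, 1, 2, 0, -2, 0, 1, 0, -1], [1, 0, -1, 0, 0, 0, 0, 1, 0, -1], [-3, 2, -1, 2, -4, 2, 4, -3, 2, -1], [-1, 0, -1, 2, 0, 2, 0, -1, 0, -1], [1, -2, 1, -2, 4, -2, 0, 1, -2, 1], [-1, 2, -1, 0, 0, 0, 0, -1, 2, -1], [1, 0, 1, 0, 0, 0, 0, 1, 0, 1]], [[1, 0, 0, 1, 0, 1, 0, 0, 1, 0], [1, 0, 1, 0, 0, 0, 1, 1, 0], [1, 1, 0, 1, 0, 0, 0, 1], [2, 0, 0, 0, 0, 0, 2], [1, 1, 0, 1, 0, 1], [2, 0, 0, 0, 2], [1, 1, 1, 1], [2, 0, 2], [2, 2], [4]]⟩,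
  ⟨[9394195711, 11004807679, 9125760383, 13152290303, 6709842431, 1072700543, 2951747839, 2683312511, 4830795135, 5099230463], [219, 220, 221, 222, 223, 224, 225, 226, 227, 228], [[-1, 1, 0, 1, -1, 0, 1, -1, 1, -1], [0, 0, 0, 0, 1, -1, 0, 0, 0, 0], [-1, 1, 0, 1, -1, 0, 1, 0, 0, 0], [0, 0, 1, 1, 0, -1, 0, 1, 0, 0], [0, 0, 0, 0, 0, 0, 1, 0, 0, 0], [-1, 1, 0, 1, -2, 1, 2, -1, 1, 0], [0, 0, 0, 0, 1, 0, 0, 0, 0, 0], [1, -1, 1, -1, 2, -1, 0, 1, -1, 1], [0, 1, 0, 0, 0, 0, 0, 0, 1, 0], [1, 0, 1, 0, 0, 0, 0, 1, 0, 1]], [[1, 0, 1, 0, 0, 0, 0, -1, 0, -1], [1, 0, -1, 0, 0, 0, 0, -1, 0, 1], [-1, 2, -1, 0, 0, 0, 0, 1, -2, 1], [-1, 0, 1, 2, 0, -2, 0, 1, 0, -1], [1, 0, -1, 0, 0, 0, 0, 1, 0, -1], [-3, 2, -1, 2, -4, 2, 4, -3, 2, -1], [-1, 0, -1, 2, 0, 2, 0, -1, 0, -1], [1, -2, 1, -2, 4,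 -2, 0, 1, -2, 1], [-1, 2, -1, 0, 0, 0, 0, -1, 2, -1], [1, 0, 1, 0, 0, 0, 0, 1, 0, 1]], [[1, 0, 0, 1, 0, 1, 0, 0, 1, 0], [1, 0, 1, 0, 0, 0, 1, 1, 0], [1, 1, 0, 1, 0, 0, 0, 1], [2, 0, 0, 0, 0, 0, 2], [1, 1, 0, 1, 0, 1], [2, 0, 0, 0, 2], [1, 1, 1, 1], [2, 0, 2], [2, 2], [4]]⟩,
  ⟨[17984129791, 18521000447, 17715694463, 21742224383, 5636104703, 1072704127, 1878010111, 1609574783, 4830798719, 5099234047], [235, 236, 237, 238, 239, 240, 241, 242, 243, 244], [[-1, 1, 0, 1, -1, 0, 1, -1, 1, -1], [0, 0, 0, 0, 1, -1, 0, 0, 0, 0], [-1, 1, 0, 1, -1, 0, 1, 0, 0, 0], [0, 0, 1, 1, 0, -1, 0, 1, 0, 0], [0, 0, 0, 0, 0, 0, 1, 0, 0, 0], [-1, 1, 0, 1, -2, 1, 2, -1, 1, 0], [0, 0, 0, 0, 1, 0, 0, 0, 0, 0], [1, -1, 1, -1, 2, -1, 0, 1, -1, 1], [0, 1, 0, 0, 0, 0, 0, 0, 1, 0], [1, 0, 1, 0, 0, 0,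 0, 1, 0, 1]], [[1, 0, 1, 0, 0, 0, 0, -1, 0, -1], [1, 0, -1, 0, 0, 0, 0, -1, 0, 1], [-1, 2, -1, 0, 0, 0, 0, 1, -2, 1], [-1, 0, 1, 2, 0, -2, 0, 1, 0, -1], [1, 0, -1, 0, 0, 0, 0, 1, 0, -1], [-3, 2, -1, 2, -4, 2, 4, -3, 2, -1], [-1, 0, -1, 2, 0, 2, 0, -1, 0, -1], [1, -2, 1, -2, 4, -2, 0, 1, -2, 1], [-1, 2, -1, 0, 0, 0, 0, -1, 2, -1], [1, 0, 1, 0, 0, 0, 0, 1, 0, 1]], [[1, 0, 0, 1, 0, 1, 0, 0, 1, 0], [1, 0, 1, 0, 0, 0, 1, 1, 0], [1, 1, 0, 1, 0, 0, 0, 1], [2, 0, 0, 0, 0, 0, 2], [1, 1, 0, 1, 0, 1], [2, 0, 0, 0, 2], [1, 1, 1, 1], [2, 0, 2], [2, 2], [4]]⟩]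

/-- data -/
def Bb9t3 : List (Blk) := [
  ⟨[35163997951, 35700868607, 34895562623, 36774609919, 3488629247, 1072711295, 1878017279, 1609581951, 2683323263, 2951758591], [245, 246, 247, 248, 249, 250, 251, 252, 253, 254], [[-1, 1, 0, 1, -1, 0, 1, -1, 1, -1], [0, 0, 0, 0, 1, -1, 0, 0, 0, 0], [-1, 1, 0, 1, -1, 0, 1, 0, 0, 0], [0, 0, 1, 1, 0, -1, 0, 1, 0, 0], [0, 0, 0, 0, 0, 0, 1, 0, 0, 0], [-1, 1, 0, 1, -2, 1, 2, -1, 1, 0], [0, 0, 0, 0, 1, 0, 0, 0, 0, 0], [1, -1, 1, -1, 2, -1, 0, 1, -1, 1], [0, 1, 0, 0, 0, 0, 0, 0, 1, 0], [1, 0, 1, 0, 0, 0, 0, 1, 0, 1]], [[1, 0, 1, 0, 0, 0, 0, -1, 0, -1], [1, 0, -1, 0, 0, 0, 0, -1, 0, 1], [-1, 2, -1, 0, 0, 0, 0, 1, -2, 1], [-1, 0, 1, 2, 0, -2, 0, 1, 0, -1], [1, 0, -1, 0, 0, 0, 0, 1, 0, -1], [-3, 2, -1, 2, -4, 2, 4, -3, 2, -1], [-1, 0, -1,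 2, 0, 2, 0, -1, 0, -1], [1, -2, 1, -2, 4, -2, 0, 1, -2, 1], [-1, 2, -1, 0, 0, 0, 0, -1, 2, -1], [1, 0, 1, 0, 0, 0, 0, 1, 0, 1]], [[1, 0, 0, 1, 0, 1, 0, 0, 1, 0], [1, 0, 1, 0, 0, 0, 1, 1, 0], [1, 1, 0, 1, 0, 0, 0, 1], [2, 0, 0, 0, 0, 0, 2], [1, 1, 0, 1, 0, 1], [2, 0, 0, 0, 2], [1, 1, 1, 1], [2, 0, 2], [2, 2], [4]]⟩]

theorem okBb9s : Bb9s.all (bChk true 9 false Vb9 X9 []) = true := by decide +kernel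

theorem okBb9t0 : Bb9t0.all (bChk true 9 false Vb9 X9 []) = true := by decide +kernel

theorem okBb9t1 : Bb9t1.all (bChk true 9 false Vb9 X9 []) = true := by decide +kernel

theorem okBb9t2 : Bb9t2.all (bChk true 9 false Vb9 X9 []) = true := by decide +kernel

theorem okBb9t3 : Bb9t3.all (bChk true 9 false Vb9 X9 []) = true := by decide +kernel

theorem both_b9 : Both true 9 false :=
  both_of (bl := Bb9s ++ (Bb9t0 ++ (Bb9t1 ++ (Bb9t2 ++ (Bb9t3))))) (dg := []) (W := []) tab9 inVb9 (all2_nil _) okX9 (all_app okBb9s (all_app okBb9t0 (all_app okBb9t1 (all_app okBb9t2 okBb9t3))))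
    (by decide +kernel) (by decide +kernel)


end Cfsg.Agent.LV.Cl.Cert
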