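import Cfsg.Agent.LV.Cl.MN

/-!
# LV, classical groups: the degenerate characters of type `D` (helper8)

* `CD.pr_rs`: the adjoint of `rs`; `CD.pr_cut`;
* `CD.W2`, `CD.dual2_int`: the integer vectors of the chains of `Dual2`;
* `CD.diag_int`: a vector with `Dual2` which is supported on pairs `(α, α)` has no half integral coefficient.
-/

set_option autoImplicit false
set_option linter.unusedSectionVars false
set_option linter.dupNamespace false

namespace Cfsg.Agent.LV.Cl.CD

open Finset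

/-- the adjoint of `rs` -/
def ad2 (r : ℕ) (e : ℤˣ) (v : Bip → ℤ) (i : Bip) : ℤ := ((hk2 r e i).map fun x => x.1 * v x.2).sum

theorem ad2_eq (r : ℕ) (e : ℤˣ) (v : Bip → ℤ) (i : Bip) : ad2 r e v i = ((hk2 r e i).map fun x => x.1 * v x.2).sum := rfl

theorem pr_eq (k : ℕ) (a : Bip → ℂ) (v : Bip → ℤ) : pr k a v = ∑ i ∈ (bips k).toFinset, a i * v i :=
  (List.sum_toFinset _ (nodup_bips _)).symm

theorem pr_rs {k k' r : ℕ} (h : k' + r = k) (e : ℤˣ) (a : Bip → ℂ) (v : Bip → ℤ) : pr k' (rs k r e a) v = pr k a (ad2 r e v) := by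
  rw [pr_eq, pr_eq]
  unfold rs
  simp only [pr_eq, sum_mul]
  rw [sum_comm]
  refine sum_congr rfl fun i hi => ?_
  have h1 := List.mem_toFinset.1 hi
  simp only [mul_assoc]
  rw [← mul_sum, List.sum_toFinset _ (nodup_bips _), MN.sum_ite_mul (nodup_bips _) _ _ fun y hy =>
    (show k - r = k' by omega) ▸ (hk2_mem h1 hy).2, ad2_eq, Int.cast_list_sum, List.map_map]
  simp only [Function.comp_def, Int.cast_mul]

theorem pr_cut (k : ℕ) (b : Bool) (c : ℤ) (a : Bip → ℂ) (v : Bip → ℤ) :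
    pr k (cut b c a) v = pr k a fun i => if lev b i = c then v i else 0 := by
  rw [pr_eq, pr_eq]
  refine sum_congr rfl fun i _ => ?_
  unfold cut
  split_ifs
  · rfl
  · rw [Int.cast_zero, zero_mul, mul_zero]

/-- the integer vector of a chain of `Dual2` with the levels `cs`, multiplied by a power of `2` -/
def W2 : List ℤ → Bip → ℤ
  | [], i => if i = (vc, vc) then 1 else 0
  | c :: cs, i => if lev false i = c then ad2 1 1 (ad2 1 1 (W2 cs)) i + ad2 2 1 (W2 cs) i else 0

theorem W2_realised : True := by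
  have := @W2.eq_def
  have := @W2.eq_1
  have := @W2.eq_2
  trivial

theorem dual2_int : ∀ (cs : List ℤ) {a : Bip → ℂ}, Dual2 cs.length a → ∃ z : ℤ, pr (2 * cs.length) a (W2 cs) = 2 ^ cs.length * z
  | [], a, h => by
    obtain ⟨z, hz⟩ := h
    refine ⟨z, ?_⟩
    show ((bips 0).map fun i => a i * (W2 [] i : ℤ)).sum = 2 ^ 0 * (z : ℂ)
    rw [bips_zero, List.map_singleton, List.sum_singleton, W2, if_pos rfl, hz, Int.cast_one, mul_one, pow_zero, one_mul]
  | c :: cs, a, h => by
    obtain ⟨z, hz⟩ := dual2_int cs (h c)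
    refine ⟨z, ?_⟩
    have h1 : pr (2 * cs.length + 2) a (W2 (c :: cs)) =
        pr (2 * cs.length) (rs (2 * cs.length + 1) 1 1 (rs (2 * cs.length + 2) 1 1 (cut false c a))) (W2 cs) +
          pr (2 * cs.length) (rs (2 * cs.length + 2) 2 1 (cut false c a)) (W2 cs) := by
      rw [pr_rs rfl, pr_rs rfl, pr_rs (k' := 2 * cs.length + 1) (k := 2 * cs.length + 2) rfl, pr_cut, pr_cut, pr_eq, pr_eq, pr_eq, ← sum_add_distrib]
      refine sum_congr rfl fun i _ => ?_
      rw [W2]
      split_ifs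
      · rw [Int.cast_add, mul_add]
      · rw [Int.cast_zero, mul_zero, add_zero]
    show pr (2 * cs.length + 2) a (W2 (c :: cs)) = 2 ^ (cs.length + 1) * (z : ℂ)
    rw [h1, pow_succ, mul_right_comm, ← hz, pr_eq, pr_eq, pr_eq, ← sum_add_distrib, sum_mul]
    refine sum_congr rfl fun i _ => ?_
    ring

/-- the levels along a chain of pairs `(β, β)` -/
def path : ℕ → List ℕ → List ℤ
  | 0, _ => []
  | j + 1, α => lev false (α, α) :: path j (((hk 1 α).headD (0, α)).2)

theorem path_realised : True := by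
  have := @path.eq_def
  have := @path.eq_1
  have := @path.eq_2
  trivial

theorem length_path : ∀ (j : ℕ) (α : List ℕ), (path j α).length = j
  | 0, _ => rfl
  | j + 1, _ => congrArg (· + 1) (length_path j _)

/-- the kernel test -/
def tst (j : ℕ) : Bool := (pars j).all fun α => W2 (path j α) (α, α) % 2 ^ (j + 1) == 2 ^ j &&
  (pars j).all fun β => β == α || lev false (β, β) != lev false (α, α)

theorem tst_ok : ∀ j ≤ 5, tst j = true := by decide +kernel

theorem W2_path {j : ℕ} {α : List ℕ} {i : Bip} (hj : 0 < j) (h : lev false i ≠ lev false (α, α)) : W2 (path j α) i = 0 := by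
  obtain ⟨j, rfl⟩ := Nat.exists_eq_succ_of_ne_zero hj.ne'
  rw [path, W2, if_neg h]

theorem diag_mem {j : ℕ} {α : List ℕ} (h : α ∈ pars j) : (α, α) ∈ bips (2 * j) := mem_bips.2 ⟨j, j, by omega, h, h⟩

theorem mem_of_diag {j : ℕ} {α : List ℕ} (h : (α, α) ∈ bips (2 * j)) : α ∈ pars j := by
  obtain ⟨a, b, h1, h2, h3⟩ := mem_bips.1 h
  have := pars_size h2 h3
  exact (show a = j by omega) ▸ h2

/-- an odd multiple of the coefficient of `(α, α)` is an integer, if it is the only coefficient of its level -/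
theorem odd_mul {j : ℕ} (hj : j ≤ 5) {a : Bip → ℂ} (h : Dual2 j a) {α : List ℕ} (hα : α ∈ pars j)
    (h0 : ∀ i ∈ bips (2 * j), lev false i = lev false (α, α) → i ≠ (α, α) → a i = 0) : ∃ u z : ℤ, (2 * u + 1) * a (α, α) = z := by
  have h1 := List.all_eq_true.1 (tst_ok j hj) α hα
  rw [Bool.and_eq_true, beq_iff_eq] at h1
  obtain ⟨z, hz⟩ := dual2_int (path j α) ((length_path j α).symm ▸ h)
  rw [length_path, pr_eq, sum_eq_single_of_mem (α, α) (List.mem_toFinset.2 (diag_mem hα)) fun i hi hne => ?_] at hz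
  · refine ⟨W2 (path j α) (α, α) / 2 ^ (j + 1), z, mul_left_cancel₀ (pow_ne_zero j (two_ne_zero (α := ℂ))) ?_⟩
    have h2 := Int.emod_add_mul_ediv (W2 (path j α) (α, α)) (2 ^ (j + 1))
    rw [h1.1] at h2
    rw [← hz]
    conv_rhs => rw [← h2]
    push_cast
    ring
  · by_cases h3 : lev false i = lev false (α, α)
    · rw [h0 i (List.mem_toFinset.1 hi) h3 hne, zero_mul]
    · rcases Nat.eq_zero_or_pos j with rfl | h4
      · have h5 := List.mem_toFinset.1 hi
        have h6 := diag_mem hα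
        rw [Nat.mul_zero, bips_zero, List.mem_singleton] at h5 h6
        exact absurd (h5.trans h6.symm) hne
      · rw [W2_path h4 h3, Int.cast_zero, mul_zero]

/-- the levels of the pairs `(α, α)` are different -/
theorem lev_inj {j : ℕ} (hj : j ≤ 5) {α β : List ℕ} (hα : α ∈ pars j) (hβ : β ∈ pars j)
    (h : lev false (β, β) = lev false (α, α)) : β = α := by
  have h1 := List.all_eq_true.1 (tst_ok j hj) α hα
  rw [Bool.and_eq_true] at h1
  have h2 := List.all_eq_true.1 h1.2 β hβ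
  rw [Bool.or_eq_true, beq_iff_eq, bne_iff_ne] at h2
  exact h2.resolve_right fun h3 => h3 h

/-- a half integral coefficient of `(α, α)` is integral, if it is the only coefficient of its level -/
theorem lev_int {j : ℕ} (hj : j ≤ 5) {a : Bip → ℂ} (h : Dual2 j a) {α : List ℕ} (hα : α ∈ pars j)
    (h0 : ∀ i ∈ bips (2 * j), lev false i = lev false (α, α) → i ≠ (α, α) → a i = 0) {m : ℤ} (hm : 2 * a (α, α) = m) :
    ∃ z : ℤ, a (α, α) = z := by
  obtain ⟨u, z, h1⟩ := odd_mul hj h hα h0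
  exact ⟨z - u * m, by push_cast; rw [← h1, ← hm]; ring⟩

/-- **A vector with `Dual2` which is supported on pairs `(α, α)` has no half integral coefficient.** -/
theorem diag_int {j : ℕ} (hj : j ≤ 5) {a : Bip → ℂ} (h : Dual2 j a) (h0 : ∀ i ∈ bips (2 * j), i.1 ≠ i.2 → a i = 0)
    {α : List ℕ} (hα : (α, α) ∈ bips (2 * j)) {m : ℤ} (hm : 2 * a (α, α) = m) : ∃ z : ℤ, a (α, α) = z :=
  lev_int hj h (mem_of_diag hα) (fun i hi h1 h2 => h0 i hi fun h3 => h2 (by
    obtain ⟨β, γ⟩ := i
    obtain rfl : β = γ := h3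
    rw [lev_inj hj (mem_of_diag hα) (mem_of_diag hi) h1])) hm

/-- the same with the norm: such a vector of norm below one is zero -/
theorem diag_zero {j : ℕ} (hj : j ≤ 5) {a : Bip → ℂ} (h : Dual2 j a) (h0 : ∀ i ∈ bips (2 * j), i.1 ≠ i.2 → a i = 0)
    (hm : ∀ α, (α, α) ∈ bips (2 * j) → ∃ m : ℤ, 2 * a (α, α) = m) (hn : nr (2 * j) a < 1) : ∀ i ∈ bips (2 * j), a i = 0 := by
  rintro ⟨β, γ⟩ hi
  by_cases h1 : β = γ
  · subst h1
    obtain ⟨m, h2⟩ := hm β hi
    obtain ⟨z, hz⟩ := diag_int hj h h0 hi h2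
    have h3 : ‖a (β, β)‖ ^ 2 ≤ nr (2 * j) a :=
      List.single_le_sum (fun x hx => by obtain ⟨y, -, rfl⟩ := List.mem_map.1 hx; positivity) _ (List.mem_map.2 ⟨_, hi, rfl⟩)
    rw [hz, Complex.norm_intCast, sq_abs] at h3
    have h4 : z ^ 2 < 1 := by exact_mod_cast h3.trans_lt hn
    rw [hz, show z = 0 by nlinarith, Int.cast_zero]
  · exact h0 _ hi h1

end Cfsg.Agent.LV.Cl.CD
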