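import Cfsg.Agent.LV.Cl.Cert3
import Cfsg.Agent.LV.Cl.CertX
import Cfsg.Agent.LV.Cl.CertVe

/-! # LV, classical groups: certificate data (generated by `notes/LV/py/cert`; helper58) -/

set_option autoImplicit false
set_option linter.dupNamespace false
set_option maxRecDepth 100000

namespace Cfsg.Agent.LV.Cl.Cert

/-- data -/
def Bp10s_0 : List (Blk) := [
  ⟨[2145387519], [0], [[1]], [[4]], [[2]]⟩,
  ⟨[2144339455], [1], [[1]], [[4]], [[2]]⟩,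
  ⟨[3218080767], [2], [[1]], [[4]], [[2]]⟩,
  ⟨[2142242559], [3], [[1]], [[4]], [[2]]⟩,
  ⟨[2683308027, 3215984127, 3752854527], [4, 5, 6], [[0, 1, -1], [0, 1, 0], [-1, 2, -1]], [[2, 0, -2], [2, 0, 2], [-2, 4, -2]], [[2, 0, 2], [2, 2], [4]]⟩,
  ⟨[5363467263], [7], [[1]], [[4]], [[2]]⟩,
  ⟨[2138048383], [8], [[1]], [[4]], [[2]]⟩,
  ⟨[2951743479, 3211790079, 4017095679], [9, 10, 11], [[0, 1, -1], [0, 1, 0], [-1, 2, -1]], [[2, 0, -2], [2, 0, 2], [-2, 4, -2]], [[2, 0, 2], [2, 2], [4]]⟩,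
  ⟨[3748660735], [12], [[1]], [[4]], [[2]]⟩,
  ⟨[3211790847], [13], [[1]], [[4]], [[2]]⟩,
  ⟨[4830791671, 5359273471, 5896143871], [14, 15, 16], [[0, 1, -1], [0, 1, 0], [-1, 2, -1]], [[2, 0, -2], [2, 0, 2], [-2, 4, -2]], [[2, 0, 2], [2, 2], [4]]⟩,
  ⟨[9654240255], [17], [[1]], [[4]], [[2]]⟩,
  ⟨[2129659839], [18], [[1]], [[4]], [[2]]⟩,
  ⟨[3085961199, 3203401599, 4142924799], [19, 20, 21], [[0, 1, -1], [0, 1, 0], [-1, 2, -1]], [[2, 0, -2], [2, 0, 2], [-2, 4, -2]], [[2, 0, 2], [2, 2], [4]]⟩,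
  ⟨[3488614383, 3740272383, 4008707583], [22, 23, 24], [[0, 1, -1], [0, 1, 0], [-1, 2, -1]], [[2, 0, -2], [2, 0, 2], [-2, 4, -2]], [[2, 0, 2], [2, 2], [4]]⟩,
  ⟨[3203402495], [25], [[1]], [[4]], [[2]]⟩,
  ⟨[5099227119, 5350885119, 6156190719], [26, 27, 28], [[0, 1, -1], [0, 1, 0], [-1, 2, -1]], [[2, 0, -2], [2, 0, 2], [-2, 4, -2]], [[2, 0, 2], [2, 2], [4]]⟩,
  ⟨[3740273151], [29], [[1]], [[4]], [[2]]⟩,
  ⟨[5887755775], [30], [[1]], [[4]], [[2]]⟩,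
  ⟨[4830792687, 5350885887, 6961497087], [31, 32, 33], [[0, 1, -1], [0, 1, 0], [-1, 2, -1]], [[2, 0, -2], [2, 0, 2], [-2, 4, -2]], [[2, 0, 2], [2, 2], [4]]⟩,
  ⟨[9125758959, 9645852159, 10182722559], [34, 35, 36], [[0, 1, -1], [0, 1, 0], [-1, 2, -1]], [[2, 0, -2], [2, 0, 2], [-2, 4, -2]], [[2, 0, 2], [2, 2], [4]]⟩,
  ⟨[18235786239], [37], [[1]], [[4]], [[2]]⟩,
  ⟨[3153070047, 3186624447, 4193256447], [39, 40, 41], [[0, 1, -1], [0, 1, 0], [-1, 2, -1]], [[2, 0, -2], [2, 0, 2], [-2, 4, -2]], [[2, 0, 2], [2, 2], [4]]⟩,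
  ⟨[3622832095, 3723495295, 4126148095], [42, 43, 44], [[0, 1, -1], [0, 1, 0], [-1, 2, -1]], [[2, 0, -2], [2, 0, 2], [-2, 4, -2]], [[2, 0, 2], [2, 2], [4]]⟩,
  ⟨[3186625407], [45], [[1]], [[4]], [[2]]⟩,
  ⟨[5233444831, 5334108031, 6273631231], [46, 47, 48], [[0, 1, -1], [0, 1, 0], [-1, 2, -1]], [[2, 0, -2], [2, 0, 2], [-2, 4, -2]], [[2, 0, 2], [2, 2], [4]]⟩,
  ⟨[3991930623], [49], [[1]], [[4]], [[2]]⟩,
  ⟨[3488615391, 3723496191, 3991931391], [50, 51, 52], [[0, 1, -1], [0, 1, 0], [-1, 2, -1]], [[2, 0, -2], [2, 0, 2], [-2, 4, -2]], [[2, 0, 2], [2, 2], [4]]⟩,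
  ⟨[5636098015, 5870978815, 6139414015], [53, 54, 55], [[0, 1, -1], [0, 1, 0], [-1, 2, -1]], [[2, 0, -2], [2, 0, 2], [-2, 4, -2]], [[2, 0, 2], [2, 2], [4]]⟩,
  ⟨[5099228127, 5334108927, 7213155327], [56, 57, 58], [[0, 1, -1], [0, 1, 0], [-1, 2, -1]], [[2, 0, -2], [2, 0, 2], [-2, 4, -2]], [[2, 0, 2], [2, 2], [4]]⟩,
  ⟨[9394194399, 9629075199, 10434380799], [59, 60, 61], [[0, 1, -1], [0, 1, 0], [-1, 2, -1]], [[2, 0, -2], [2, 0, 2], [-2, 4, -2]], [[2, 0, 2], [2, 2], [4]]⟩,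
  ⟨[4830793183, 5870979583, 6944720383], [62, 63, 64], [[0, 1, -1], [0, 1, 0], [-1, 2, -1]], [[2, 0, -2], [2, 0, 2], [-2, 4, -2]], [[2, 0, 2], [2, 2], [4]]⟩,
  ⟨[10165945855], [65], [[1]], [[4]], [[2]]⟩,
  ⟨[5334110719], [66], [[1]], [[4]], [[2]]⟩,
  ⟨[9125759967, 9629075967, 11239687167], [67, 68, 69], [[0, 1, -1], [0, 1, 0], [-1, 2, -1]], [[2, 0, -2], [2, 0, 2], [-2, 4, -2]], [[2, 0, 2], [2, 2], [4]]⟩,
  ⟨[17715693535, 18219009535, 18755879935], [70, 71, 72], [[0, 1, -1], [0, 1, 0], [-1, 2, -1]], [[2, 0, -2], [2, 0, 2], [-2, 4, -2]], [[2, 0, 2], [2, 2], [4]]⟩,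
  ⟨[35398878207], [73], [[1]], [[4]], [[2]]⟩,
  ⟨[3689940927], [74], [[1]], [[4]], [[2]]⟩,
  ⟨[5300553663], [76], [[1]], [[4]], [[2]]⟩,
  ⟨[3891267519, 3958376319, 4092593919], [77, 78, 79], [[0, 1, -1], [0, 1, 0], [-1, 2, -1]], [[2, 0, -2], [2, 0, 2], [-2, 4, -2]], [[2, 0, 2], [2, 2], [4]]⟩]

/-- data -/
def Bp10s_1 : List (Blk) := [
  ⟨[3622833087, 3689941887, 4092594687], [80, 81, 82], [[0, 1, -1], [0, 1, 0], [-1, 2, -1]], [[2, 0, -2], [2, 0, 2], [-2, 4, -2]], [[2, 0, 2], [2, 2], [4]]⟩,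
  ⟨[5770315711, 5837424511, 6240077311], [83, 84, 85], [[0, 1, -1], [0, 1, 0], [-1, 2, -1]], [[2, 0, -2], [2, 0, 2], [-2, 4, -2]], [[2, 0, 2], [2, 2], [4]]⟩,
  ⟨[5233445823, 5300554623, 7313818623], [86, 87, 88], [[0, 1, -1], [0, 1, 0], [-1, 2, -1]], [[2, 0, -2], [2, 0, 2], [-2, 4, -2]], [[2, 0, 2], [2, 2], [4]]⟩,
  ⟨[9528412095, 9595520895, 10535044095], [89, 90, 91], [[0, 1, -1], [0, 1, 0], [-1, 2, -1]], [[2, 0, -2], [2, 0, 2], [-2, 4, -2]], [[2, 0, 2], [2, 2], [4]]⟩,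
  ⟨[3958377215], [92], [[1]], [[4]], [[2]]⟩,
  ⟨[6105859839], [93], [[1]], [[4]], [[2]]⟩,
  ⟨[3689942271], [94], [[1]], [[4]], [[2]]⟩,
  ⟨[9931065279, 10132391679, 10400826879], [105, 106, 107], [[0, 1, -1], [0, 1, 0], [-1, 2, -1]], [[2, 0, -2], [2, 0, 2], [-2, 4, -2]], [[2, 0, 2], [2, 2], [4]]⟩,
  ⟨[5300556543], [108], [[1]], [[4]], [[2]]⟩,
  ⟨[9394195391, 9595521791, 11474568191], [109, 110, 111], [[0, 1, -1], [0, 1, 0], [-1, 2, -1]], [[2, 0, -2], [2, 0, 2], [-2, 4, -2]], [[2, 0, 2], [2, 2], [4]]⟩,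
  ⟨[17984128959, 18185455359, 18990760959], [112, 113, 114], [[0, 1, -1], [0, 1, 0], [-1, 2, -1]], [[2, 0, -2], [2, 0, 2], [-2, 4, -2]], [[2, 0, 2], [2, 2], [4]]⟩,
  ⟨[6911166975], [115], [[1]], [[4]], [[2]]⟩,
  ⟨[5837427199], [116], [[1]], [[4]], [[2]]⟩,
  ⟨[9125760447, 10132392447, 11206133247], [117, 118, 119], [[0, 1, -1], [0, 1, 0], [-1, 2, -1]], [[2, 0, -2], [2, 0, 2], [-2, 4, -2]], [[2, 0, 2], [2, 2], [4]]⟩,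
  ⟨[18722326015], [120], [[1]], [[4]], [[2]]⟩,
  ⟨[9125761983, 9595523583, 13353616383], [121, 122, 123], [[0, 1, -1], [0, 1, 0], [-1, 2, -1]], [[2, 0, -2], [2, 0, 2], [-2, 4, -2]], [[2, 0, 2], [2, 2], [4]]⟩,
  ⟨[17715694527, 18185456127, 19796067327], [124, 125, 126], [[0, 1, -1], [0, 1, 0], [-1, 2, -1]], [[2, 0, -2], [2, 0, 2], [-2, 4, -2]], [[2, 0, 2], [2, 2], [4]]⟩,
  ⟨[34895562687, 35365324287, 35902194687], [127, 128, 129], [[0, 1, -1], [0, 1, 0], [-1, 2, -1]], [[2, 0, -2], [2, 0, 2], [-2, 4, -2]], [[2, 0, 2], [2, 2], [4]]⟩,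
  ⟨[69725062143], [130], [[1]], [[4]], [[2]]⟩,
  ⟨[3891268479], [131], [[1]], [[4]], [[2]]⟩,
  ⟨[6038751103], [132], [[1]], [[4]], [[2]]⟩,
  ⟨[5233446271, 5770316671, 6844057471], [134, 135, 136], [[0, 1, -1], [0, 1, 0], [-1, 2, -1]], [[2, 0, -2], [2, 0, 2], [-2, 4, -2]], [[2, 0, 2], [2, 2], [4]]⟩,
  ⟨[10065282943], [137], [[1]], [[4]], [[2]]⟩,
  ⟨[9528413055], [139], [[1]], [[4]], [[2]]⟩,
  ⟨[18118346623], [140], [[1]], [[4]], [[2]]⟩,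
  ⟨[3891268863], [141], [[1]], [[4]], [[2]]⟩,
  ⟨[5099228799, 6038751999, 7112492799], [142, 143, 144], [[0, 1, -1], [0, 1, 0], [-1, 2, -1]], [[2, 0, -2], [2, 0, 2], [-2, 4, -2]], [[2, 0, 2], [2, 2], [4]]⟩,
  ⟨[10333718271], [145], [[1]], [[4]], [[2]]⟩,
  ⟨[5636099455, 5770317055, 7649363455], [146, 147, 148], [[0, 1, -1], [0, 1, 0], [-1, 2, -1]], [[2, 0, -2], [2, 0, 2], [-2, 4, -2]], [[2, 0, 2], [2, 2], [4]]⟩,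
  ⟨[6709840767, 6844058367, 7112493567], [149, 150, 151], [[0, 1, -1], [0, 1, 0], [-1, 2, -1]], [[2, 0, -2], [2, 0, 2], [-2, 4, -2]], [[2, 0, 2], [2, 2], [4]]⟩,
  ⟨[5636100991, 5770318591, 6038753791], [152, 153, 154], [[0, 1, -1], [0, 1, 0], [-1, 2, -1]], [[2, 0, -2], [2, 0, 2], [-2, 4, -2]], [[2, 0, 2], [2, 2], [4]]⟩,
  ⟨[18520999807, 18655217407, 18923652607], [165, 166, 167], [[0, 1, -1], [0, 1, 0], [-1, 2, -1]], [[2, 0, -2], [2, 0, 2], [-2, 4, -2]], [[2, 0, 2], [2, 2], [4]]⟩,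
  ⟨[9394197375, 9528414975, 13554942975], [168, 169, 170], [[0, 1, -1], [0, 1, 0], [-1, 2, -1]], [[2, 0, -2], [2, 0, 2], [-2, 4, -2]], [[2, 0, 2], [2, 2], [4]]⟩,
  ⟨[17984129919, 18118347519, 19997393919], [171, 172, 173], [[0, 1, -1], [0, 1, 0], [-1, 2, -1]], [[2, 0, -2], [2, 0, 2], [-2, 4, -2]], [[2, 0, 2], [2, 2], [4]]⟩,
  ⟨[35163998079, 35298215679, 36103521279], [174, 175, 176], [[0, 1, -1], [0, 1, 0], [-1, 2, -1]], [[2, 0, -2], [2, 0, 2], [-2, 4, -2]], [[2, 0, 2], [2, 2], [4]]⟩,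
  ⟨[6844060159], [177], [[1]], [[4]], [[2]]⟩,
  ⟨[11139025407], [178], [[1]], [[4]], [[2]]⟩,
  ⟨[9125762431, 10065285631, 13286508031], [179, 180, 181], [[0, 1, -1], [0, 1, 0], [-1, 2, -1]], [[2, 0, -2], [2, 0, 2], [-2, 4, -2]], [[2, 0, 2], [2, 2], [4]]⟩,
  ⟨[17715694975, 18655218175, 19728958975], [182, 183, 184], [[0, 1, -1], [0, 1, 0], [-1, 2, -1]], [[2, 0, -2], [2, 0, 2], [-2, 4, -2]], [[2, 0, 2], [2, 2], [4]]⟩,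
  ⟨[35835086335], [185], [[1]], [[4]], [[2]]⟩]

/-- data -/
def Bp10s_2 : List (Blk) := [
  ⟨[9528418815], [186], [[1]], [[4]], [[2]]⟩,
  ⟨[17715696511, 18118349311, 21876442111], [187, 188, 189], [[0, 1, -1], [0, 1, 0], [-1, 2, -1]], [[2, 0, -2], [2, 0, 2], [-2, 4, -2]], [[2, 0, 2], [2, 2], [4]]⟩,
  ⟨[34895563647, 35298216447, 36908827647], [190, 191, 192], [[0, 1, -1], [0, 1, 0], [-1, 2, -1]], [[2, 0, -2], [2, 0, 2], [-2, 4, -2]], [[2, 0, 2], [2, 2], [4]]⟩,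
  ⟨[69255300991, 69657953791, 70194824191], [193, 194, 195], [[0, 1, -1], [0, 1, 0], [-1, 2, -1]], [[2, 0, -2], [2, 0, 2], [-2, 4, -2]], [[2, 0, 2], [2, 2], [4]]⟩,
  ⟨[138377430015], [196], [[1]], [[4]], [[2]]⟩,
  ⟨[6709841151], [197], [[1]], [[4]], [[2]]⟩,
  ⟨[9931066623], [199], [[1]], [[4]], [[2]]⟩,
  ⟨[6709842687], [200], [[1]], [[4]], [[2]]⟩,
  ⟨[11004807935], [201], [[1]], [[4]], [[2]]⟩,
  ⟨[9394197759, 9931068159, 13152290559], [202, 203, 204], [[0, 1, -1], [0, 1, 0], [-1, 2, -1]], [[2, 0, -2], [2, 0, 2], [-2, 4, -2]], [[2, 0, 2], [2, 2], [4]]⟩,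
  ⟨[17984130303, 18521000703, 19594741503], [205, 206, 207], [[0, 1, -1], [0, 1, 0], [-1, 2, -1]], [[2, 0, -2], [2, 0, 2], [-2, 4, -2]], [[2, 0, 2], [2, 2], [4]]⟩,
  ⟨[35700868863], [208], [[1]], [[4]], [[2]]⟩,
  ⟨[17984131839], [210], [[1]], [[4]], [[2]]⟩,
  ⟨[35163998975], [211], [[1]], [[4]], [[2]]⟩,
  ⟨[69523736319], [212], [[1]], [[4]], [[2]]⟩,
  ⟨[9125763327, 11004809727, 13152291327], [213, 214, 215], [[0, 1, -1], [0, 1, 0], [-1, 2, -1]], [[2, 0, -2], [2, 0, 2], [-2, 4, -2]], [[2, 0, 2], [2, 2], [4]]⟩,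
  ⟨[19594742271], [216], [[1]], [[4]], [[2]]⟩,
  ⟨[9931071999], [217], [[1]], [[4]], [[2]]⟩,
  ⟨[17715696895, 18521002495, 21742224895], [218, 219, 220], [[0, 1, -1], [0, 1, 0], [-1, 2, -1]], [[2, 0, -2], [2, 0, 2], [-2, 4, -2]], [[2, 0, 2], [2, 2], [4]]⟩,
  ⟨[34895564031, 35700869631, 36774610431], [221, 222, 223], [[0, 1, -1], [0, 1, 0], [-1, 2, -1]], [[2, 0, -2], [2, 0, 2], [-2, 4, -2]], [[2, 0, 2], [2, 2], [4]]⟩,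
  ⟨[70060606975], [224], [[1]], [[4]], [[2]]⟩,
  ⟨[17715700479, 17984135679, 26037191679], [225, 226, 227], [[0, 1, -1], [0, 1, 0], [-1, 2, -1]], [[2, 0, -2], [2, 0, 2], [-2, 4, -2]], [[2, 0, 2], [2, 2], [4]]⟩,
  ⟨[34895565567, 35164000767, 38922093567], [228, 229, 230], [[0, 1, -1], [0, 1, 0], [-1, 2, -1]], [[2, 0, -2], [2, 0, 2], [-2, 4, -2]], [[2, 0, 2], [2, 2], [4]]⟩,
  ⟨[69255301887, 69523737087, 71134348287], [231, 232, 233], [[0, 1, -1], [0, 1, 0], [-1, 2, -1]], [[2, 0, -2], [2, 0, 2], [-2, 4, -2]], [[2, 0, 2], [2, 2], [4]]⟩,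
  ⟨[137974777599, 138243212799, 138780083199], [234, 235, 236], [[0, 1, -1], [0, 1, 0], [-1, 2, -1]], [[2, 0, -2], [2, 0, 2], [-2, 4, -2]], [[2, 0, 2], [2, 2], [4]]⟩,
  ⟨[275682165759], [237], [[1]], [[4]], [[2]]⟩,
  ⟨[34895569407], [239], [[1]], [[4]], [[2]]⟩,
  ⟨[69255303679], [240], [[1]], [[4]], [[2]]⟩,
  ⟨[137974778367], [241], [[1]], [[4]], [[2]]⟩,
  ⟨[275413730815], [242], [[1]], [[4]], [[2]]⟩,
  ⟨[550291637247], [243], [[1]], [[4]], [[2]]⟩]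

/-- data -/
def Bp10s : List (Blk) := Bp10s_0 ++ (Bp10s_1 ++ (Bp10s_2))

/-- data -/
def Bp10t0 : List (Blk) := [
  ⟨[6911166207, 7179601407, 6709839807, 7716471807, 6105860607, 4830793407, 5300555007, 5099228607, 5636099007, 5837425407], [95, 96, 97, 98, 99, 100, 101, 102, 103, 104], [[-1, 1, -1, 1, -1, 1, 1, -1, 0, 0], [0, 0, 0, 0, 0, 0, 1, -1, 0, 0], [-1, 1, 0, 1, -1, 0, 1, 0, 0, 0], [-1, 1, 0, 1, -2, 1, 2, -1, 1, 0], [0, 1, 0, 0, 0, 0, 0, 0, 0, 0], [0, 1, 0, 0, 0, 0, 0, 1, -1, 1], [1, 0, 0, 0, 0, 0, 0, 0, 0, 0], [1, 0, 1, 0, 0, 0, 0, 0, 0, 0], [1, 0, 0, 0, 0, 0, 0, 0, 0, 1], [1, 0, 1, 0, 0, 0, 0, 1, 0, 1]], [[-1, 0, -1, 2, 0, 2, 0, -1, 0, -1], [1, -2, 1, -2, 4, -2, 0, 1, -2, 1], [-1, 0, 1, 2, 0, -2, 0, 1, 0, -1], [-3, 2, -1, 2, -4, 2, 4, -3, 2, -1], [-1, 2, -1, 0, 0, 0, 0, -1, 2, -1], [-1, 2, -1, 0, 0, 0,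 0, 1, -2, 1], [1, 0, -1, 0, 0, 0, 0, 1, 0, -1], [1, 0, 1, 0, 0, 0, 0, -1, 0, -1], [1, 0, -1, 0, 0, 0, 0, -1, 0, 1], [1, 0, 1, 0, 0, 0, 0, 1, 0, 1]], [[2, 0, 0, 2, 0, 2, 0, 0, 2, 0], [2, 0, 2, 0, 0, 0, 2, 2, 0], [2, 2, 0, 2, 0, 0, 0, 2], [4, 0, 0, 0, 0, 0, 4], [2, 2, 0, 2, 0, 2], [4, 0, 0, 0, 4], [2, 2, 2, 2], [4, 0, 4], [4, 4], [8]]⟩,
  ⟨[11139024639, 11407459839, 11004807039, 11944330239, 10333719039, 9125760639, 9528413439, 9394195839, 9931066239, 10065283839], [155, 156, 157, 158, 159, 160, 161, 162, 163, 164], [[-1, 1, -1, 1, -1, 1, 1, -1, 0, 0], [0, 0, 0, 0, 0, 0, 1, -1, 0, 0], [-1, 1, 0, 1, -1, 0, 1, 0, 0, 0], [-1, 1, 0, 1, -2, 1, 2, -1, 1, 0], [0, 1, 0, 0, 0, 0, 0, 0, 0, 0], [0, 1, 0, 0, 0, 0, 0, 1, -1, 1], [1, 0, 0, 0, 0, 0, 0, 0, 0, 0], [1, 0, 1, 0, 0, 0, 0, 0, 0, 0], [1, 0, 0, 0, 0, 0, 0, 0, 0, 1], [1,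 0, 1, 0, 0, 0, 0, 1, 0, 1]], [[-1, 0, -1, 2, 0, 2, 0, -1, 0, -1], [1, -2, 1, -2, 4, -2, 0, 1, -2, 1], [-1, 0, 1, 2, 0, -2, 0, 1, 0, -1], [-3, 2, -1, 2, -4, 2, 4, -3, 2, -1], [-1, 2, -1, 0, 0, 0, 0, -1, 2, -1], [-1, 2, -1, 0, 0, 0, 0, 1, -2, 1], [1, 0, -1, 0, 0, 0, 0, 1, 0, -1], [1, 0, 1, 0, 0, 0, 0, -1, 0, -1], [1, 0, -1, 0, 0, 0, 0, -1, 0, 1], [1, 0, 1, 0, 0, 0, 0, 1, 0, 1]], [[2, 0, 0, 2, 0, 2, 0, 0, 2, 0], [2, 0, 2, 0, 0, 0, 2, 2, 0], [2, 2, 0, 2, 0, 0, 0, 2], [4, 0, 0, 0, 0, 0, 4], [2, 2, 0, 2, 0, 2], [4, 0, 0, 0, 4], [2, 2, 2, 2], [4, 0, 4], [4, 4], [8]]⟩]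

theorem okBp10s : Bp10s.all (bChk false 10 false Vp10 X10 [6156190719, 11239687167, 18990760959, 36908827647]) = true := by decide +kernel

theorem okBp10t0 : Bp10t0.all (bChk false 10 false Vp10 X10 [6156190719, 11239687167, 18990760959, 36908827647]) = true := by decide +kernel

theorem both_p10 : Both false 10 false :=
  both_of (bl := Bp10s ++ (Bp10t0)) (dg := [2112882655, 3153071039, 3622833535, 5233447807, 5636101375, 9394201343, 17715708415]) (W := W5) tab10 inVp10 all2_5 okX10 (all_app okBp10s okBp10t0)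
    (by decide +kernel) (by decide +kernel)

/-- data -/
def Bm10s_0 : List (Blk) := [
  ⟨[2145387519], [0], [[-1]], [[-4]], [[2]]⟩,
  ⟨[2144339455], [1], [[-1]], [[-4]], [[2]]⟩,
  ⟨[3218080767], [2], [[-1]], [[-4]], [[2]]⟩,
  ⟨[2142242559], [3], [[-1]], [[-4]], [[2]]⟩,
  ⟨[2683308027, 3215984127, 3752854527], [4, 5, 6], [[1, -1, 0], [0, -1, 0], [1, -2, 1]], [[2, 0, -2], [-2, 0, -2], [2, -4, 2]], [[2, 0, 2], [2, 2], [4]]⟩,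
  ⟨[5363467263], [7], [[-1]], [[-4]], [[2]]⟩,
  ⟨[2138048383], [8], [[-1]], [[-4]], [[2]]⟩,
  ⟨[2951743479, 3211790079, 4017095679], [9, 10, 11], [[1, -1, 0], [0, -1, 0], [1, -2, 1]], [[2, 0, -2], [-2, 0, -2], [2, -4, 2]], [[2, 0, 2], [2, 2], [4]]⟩,
  ⟨[3748660735], [12], [[-1]], [[-4]], [[2]]⟩,
  ⟨[3211790847], [13], [[-1]], [[-4]], [[2]]⟩,
  ⟨[4830791671, 5359273471, 5896143871], [14, 15, 16], [[1, -1, 0], [0, -1, 0], [1, -2, 1]], [[2, 0, -2], [-2, 0, -2], [2, -4, 2]], [[2, 0, 2], [2, 2], [4]]⟩,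
  ⟨[9654240255], [17], [[-1]], [[-4]], [[2]]⟩,
  ⟨[2129659839], [18], [[-1]], [[-4]], [[2]]⟩,
  ⟨[3085961199, 3203401599, 4142924799], [19, 20, 21], [[1, -1, 0], [0, -1, 0], [1, -2, 1]], [[2, 0, -2], [-2, 0, -2], [2, -4, 2]], [[2, 0, 2], [2, 2], [4]]⟩,
  ⟨[3488614383, 3740272383, 4008707583], [22, 23, 24], [[1, -1, 0], [0, -1, 0], [1, -2, 1]], [[2, 0, -2], [-2, 0, -2], [2, -4, 2]], [[2, 0, 2], [2, 2], [4]]⟩,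
  ⟨[3203402495], [25], [[-1]], [[-4]], [[2]]⟩,
  ⟨[5099227119, 5350885119, 6156190719], [26, 27, 28], [[1, -1, 0], [0, -1, 0], [1, -2, 1]], [[2, 0, -2], [-2, 0, -2], [2, -4, 2]], [[2, 0, 2], [2, 2], [4]]⟩,
  ⟨[3740273151], [29], [[-1]], [[-4]], [[2]]⟩,
  ⟨[5887755775], [30], [[-1]], [[-4]], [[2]]⟩,
  ⟨[4830792687, 5350885887, 6961497087], [31, 32, 33], [[1, -1, 0], [0, -1, 0], [1, -2, 1]], [[2, 0, -2], [-2, 0, -2], [2, -4, 2]], [[2, 0, 2], [2, 2], [4]]⟩,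
  ⟨[9125758959, 9645852159, 10182722559], [34, 35, 36], [[1, -1, 0], [0, -1, 0], [1, -2, 1]], [[2, 0, -2], [-2, 0, -2], [2, -4, 2]], [[2, 0, 2], [2, 2], [4]]⟩,
  ⟨[18235786239], [37], [[-1]], [[-4]], [[2]]⟩,
  ⟨[3153070047, 3186624447, 4193256447], [38, 39, 40], [[1, -1, 0], [0, -1, 0], [1, -2, 1]], [[2, 0, -2], [-2, 0, -2], [2, -4, 2]], [[2, 0, 2], [2, 2], [4]]⟩,
  ⟨[3622832095, 3723495295, 4126148095], [41, 42, 43], [[1, -1, 0], [0, -1, 0], [1, -2, 1]], [[2, 0, -2], [-2, 0, -2], [2, -4, 2]], [[2, 0, 2], [2, 2], [4]]⟩,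
  ⟨[3186625407], [44], [[-1]], [[-4]], [[2]]⟩,
  ⟨[5233444831, 5334108031, 6273631231], [45, 46, 47], [[1, -1, 0], [0, -1, 0], [1, -2, 1]], [[2, 0, -2], [-2, 0, -2], [2, -4, 2]], [[2, 0, 2], [2, 2], [4]]⟩,
  ⟨[3991930623], [48], [[-1]], [[-4]], [[2]]⟩,
  ⟨[3488615391, 3723496191, 3991931391], [49, 50, 51], [[1, -1, 0], [0, -1, 0], [1, -2, 1]], [[2, 0, -2], [-2, 0, -2], [2, -4, 2]], [[2, 0, 2], [2, 2], [4]]⟩,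
  ⟨[5636098015, 5870978815, 6139414015], [52, 53, 54], [[1, -1, 0], [0, -1, 0], [1, -2, 1]], [[2, 0, -2], [-2, 0, -2], [2, -4, 2]], [[2, 0, 2], [2, 2], [4]]⟩,
  ⟨[5099228127, 5334108927, 7213155327], [55, 56, 57], [[1, -1, 0], [0, -1, 0], [1, -2, 1]], [[2, 0, -2], [-2, 0, -2], [2, -4, 2]], [[2, 0, 2], [2, 2], [4]]⟩,
  ⟨[9394194399, 9629075199, 10434380799], [58, 59, 60], [[1, -1, 0], [0, -1, 0], [1, -2, 1]], [[2, 0, -2], [-2, 0, -2], [2, -4, 2]], [[2, 0, 2], [2, 2], [4]]⟩,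
  ⟨[4830793183, 5870979583, 6944720383], [61, 62, 63], [[1, -1, 0], [0, -1, 0], [1, -2, 1]], [[2, 0, -2], [-2, 0, -2], [2, -4, 2]], [[2, 0, 2], [2, 2], [4]]⟩,
  ⟨[10165945855], [64], [[-1]], [[-4]], [[2]]⟩,
  ⟨[5334110719], [65], [[-1]], [[-4]], [[2]]⟩,
  ⟨[9125759967, 9629075967, 11239687167], [66, 67, 68], [[1, -1, 0], [0, -1, 0], [1, -2, 1]], [[2, 0, -2], [-2, 0, -2], [2, -4, 2]], [[2, 0, 2], [2, 2], [4]]⟩,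
  ⟨[17715693535, 18219009535, 18755879935], [69, 70, 71], [[1, -1, 0], [0, -1, 0], [1, -2, 1]], [[2, 0, -2], [-2, 0, -2], [2, -4, 2]], [[2, 0, 2], [2, 2], [4]]⟩,
  ⟨[35398878207], [72], [[-1]], [[-4]], [[2]]⟩,
  ⟨[3891267519, 3958376319, 4092593919], [73, 74, 75], [[1, -1, 0], [0, -1, 0], [1, -2, 1]], [[2, 0, -2], [-2, 0, -2], [2, -4, 2]], [[2, 0, 2], [2, 2], [4]]⟩,
  ⟨[3622833087, 3689941887, 4092594687], [76, 77, 78], [[1, -1, 0], [0, -1, 0], [1, -2, 1]], [[2, 0, -2], [-2, 0, -2], [2, -4, 2]], [[2, 0, 2], [2, 2], [4]]⟩,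
  ⟨[5770315711, 5837424511, 6240077311], [79, 80, 81], [[1, -1, 0], [0, -1, 0], [1, -2, 1]], [[2, 0, -2], [-2, 0, -2], [2, -4, 2]], [[2, 0, 2], [2, 2], [4]]⟩]

/-- data -/
def Bm10s_1 : List (Blk) := [
  ⟨[3689940927], [82], [[-1]], [[-4]], [[2]]⟩,
  ⟨[5233445823, 5300554623, 7313818623], [83, 84, 85], [[1, -1, 0], [0, -1, 0], [1, -2, 1]], [[2, 0, -2], [-2, 0, -2], [2, -4, 2]], [[2, 0, 2], [2, 2], [4]]⟩,
  ⟨[9528412095, 9595520895, 10535044095], [86, 87, 88], [[1, -1, 0], [0, -1, 0], [1, -2, 1]], [[2, 0, -2], [-2, 0, -2], [2, -4, 2]], [[2, 0, 2], [2, 2], [4]]⟩,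
  ⟨[5300553663], [89], [[-1]], [[-4]], [[2]]⟩,
  ⟨[3958377215], [90], [[-1]], [[-4]], [[2]]⟩,
  ⟨[6105859839], [91], [[-1]], [[-4]], [[2]]⟩,
  ⟨[3689942271], [92], [[-1]], [[-4]], [[2]]⟩,
  ⟨[9931065279, 10132391679, 10400826879], [103, 104, 105], [[1, -1, 0], [0, -1, 0], [1, -2, 1]], [[2, 0, -2], [-2, 0, -2], [2, -4, 2]], [[2, 0, 2], [2, 2], [4]]⟩,
  ⟨[5300556543], [106], [[-1]], [[-4]], [[2]]⟩,
  ⟨[9394195391, 9595521791, 11474568191], [107, 108, 109], [[1, -1, 0], [0, -1, 0], [1, -2, 1]], [[2, 0, -2], [-2, 0, -2], [2, -4, 2]], [[2, 0, 2], [2, 2], [4]]⟩,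
  ⟨[17984128959, 18185455359, 18990760959], [110, 111, 112], [[1, -1, 0], [0, -1, 0], [1, -2, 1]], [[2, 0, -2], [-2, 0, -2], [2, -4, 2]], [[2, 0, 2], [2, 2], [4]]⟩,
  ⟨[6911166975], [113], [[-1]], [[-4]], [[2]]⟩,
  ⟨[5837427199], [114], [[-1]], [[-4]], [[2]]⟩,
  ⟨[9125760447, 10132392447, 11206133247], [115, 116, 117], [[1, -1, 0], [0, -1, 0], [1, -2, 1]], [[2, 0, -2], [-2, 0, -2], [2, -4, 2]], [[2, 0, 2], [2, 2], [4]]⟩,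
  ⟨[18722326015], [118], [[-1]], [[-4]], [[2]]⟩,
  ⟨[9125761983, 9595523583, 13353616383], [119, 120, 121], [[1, -1, 0], [0, -1, 0], [1, -2, 1]], [[2, 0, -2], [-2, 0, -2], [2, -4, 2]], [[2, 0, 2], [2, 2], [4]]⟩,
  ⟨[17715694527, 18185456127, 19796067327], [122, 123, 124], [[1, -1, 0], [0, -1, 0], [1, -2, 1]], [[2, 0, -2], [-2, 0, -2], [2, -4, 2]], [[2, 0, 2], [2, 2], [4]]⟩,
  ⟨[34895562687, 35365324287, 35902194687], [125, 126, 127], [[1, -1, 0], [0, -1, 0], [1, -2, 1]], [[2, 0, -2], [-2, 0, -2], [2, -4, 2]], [[2, 0, 2], [2, 2], [4]]⟩,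
  ⟨[69725062143], [128], [[-1]], [[-4]], [[2]]⟩,
  ⟨[3891268479], [129], [[-1]], [[-4]], [[2]]⟩,
  ⟨[6038751103], [130], [[-1]], [[-4]], [[2]]⟩,
  ⟨[3891268863], [131], [[-1]], [[-4]], [[2]]⟩,
  ⟨[5099228799, 6038751999, 7112492799], [132, 133, 134], [[1, -1, 0], [0, -1, 0], [1, -2, 1]], [[2, 0, -2], [-2, 0, -2], [2, -4, 2]], [[2, 0, 2], [2, 2], [4]]⟩,
  ⟨[10333718271], [135], [[-1]], [[-4]], [[2]]⟩,
  ⟨[5636099455, 5770317055, 7649363455], [136, 137, 138], [[1, -1, 0], [0, -1, 0], [1, -2, 1]], [[2, 0, -2], [-2, 0, -2], [2, -4, 2]], [[2, 0, 2], [2, 2], [4]]⟩,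
  ⟨[6709840767, 6844058367, 7112493567], [139, 140, 141], [[1, -1, 0], [0, -1, 0], [1, -2, 1]], [[2, 0, -2], [-2, 0, -2], [2, -4, 2]], [[2, 0, 2], [2, 2], [4]]⟩,
  ⟨[5636100991, 5770318591, 6038753791], [142, 143, 144], [[1, -1, 0], [0, -1, 0], [1, -2, 1]], [[2, 0, -2], [-2, 0, -2], [2, -4, 2]], [[2, 0, 2], [2, 2], [4]]⟩,
  ⟨[5233446271, 5770316671, 6844057471], [155, 156, 157], [[1, -1, 0], [0, -1, 0], [1, -2, 1]], [[2, 0, -2], [-2, 0, -2], [2, -4, 2]], [[2, 0, 2], [2, 2], [4]]⟩,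
  ⟨[18520999807, 18655217407, 18923652607], [158, 159, 160], [[1, -1, 0], [0, -1, 0], [1, -2, 1]], [[2, 0, -2], [-2, 0, -2], [2, -4, 2]], [[2, 0, 2], [2, 2], [4]]⟩,
  ⟨[10065282943], [161], [[-1]], [[-4]], [[2]]⟩,
  ⟨[9394197375, 9528414975, 13554942975], [162, 163, 164], [[1, -1, 0], [0, -1, 0], [1, -2, 1]], [[2, 0, -2], [-2, 0, -2], [2, -4, 2]], [[2, 0, 2], [2, 2], [4]]⟩,
  ⟨[17984129919, 18118347519, 19997393919], [165, 166, 167], [[1, -1, 0], [0, -1, 0], [1, -2, 1]], [[2, 0, -2], [-2, 0, -2], [2, -4, 2]], [[2, 0, 2], [2, 2], [4]]⟩,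
  ⟨[9528413055], [168], [[-1]], [[-4]], [[2]]⟩,
  ⟨[35163998079, 35298215679, 36103521279], [169, 170, 171], [[1, -1, 0], [0, -1, 0], [1, -2, 1]], [[2, 0, -2], [-2, 0, -2], [2, -4, 2]], [[2, 0, 2], [2, 2], [4]]⟩,
  ⟨[18118346623], [172], [[-1]], [[-4]], [[2]]⟩,
  ⟨[6844060159], [173], [[-1]], [[-4]], [[2]]⟩,
  ⟨[11139025407], [174], [[-1]], [[-4]], [[2]]⟩,
  ⟨[9125762431, 10065285631, 13286508031], [175, 176, 177], [[1, -1, 0], [0, -1, 0], [1, -2, 1]], [[2, 0, -2], [-2, 0, -2], [2, -4, 2]], [[2, 0, 2], [2, 2], [4]]⟩,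
  ⟨[17715694975, 18655218175, 19728958975], [178, 179, 180], [[1, -1, 0], [0, -1, 0], [1, -2, 1]], [[2, 0, -2], [-2, 0, -2], [2, -4, 2]], [[2, 0, 2], [2, 2], [4]]⟩,
  ⟨[35835086335], [181], [[-1]], [[-4]], [[2]]⟩]

/-- data -/
def Bm10s_2 : List (Blk) := [
  ⟨[9528418815], [182], [[-1]], [[-4]], [[2]]⟩,
  ⟨[17715696511, 18118349311, 21876442111], [183, 184, 185], [[1, -1, 0], [0, -1, 0], [1, -2, 1]], [[2, 0, -2], [-2, 0, -2], [2, -4, 2]], [[2, 0, 2], [2, 2], [4]]⟩,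
  ⟨[34895563647, 35298216447, 36908827647], [186, 187, 188], [[1, -1, 0], [0, -1, 0], [1, -2, 1]], [[2, 0, -2], [-2, 0, -2], [2, -4, 2]], [[2, 0, 2], [2, 2], [4]]⟩,
  ⟨[69255300991, 69657953791, 70194824191], [189, 190, 191], [[1, -1, 0], [0, -1, 0], [1, -2, 1]], [[2, 0, -2], [-2, 0, -2], [2, -4, 2]], [[2, 0, 2], [2, 2], [4]]⟩,
  ⟨[138377430015], [192], [[-1]], [[-4]], [[2]]⟩,
  ⟨[6709841151], [193], [[-1]], [[-4]], [[2]]⟩,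
  ⟨[6709842687], [194], [[-1]], [[-4]], [[2]]⟩,
  ⟨[11004807935], [195], [[-1]], [[-4]], [[2]]⟩,
  ⟨[9394197759, 9931068159, 13152290559], [196, 197, 198], [[1, -1, 0], [0, -1, 0], [1, -2, 1]], [[2, 0, -2], [-2, 0, -2], [2, -4, 2]], [[2, 0, 2], [2, 2], [4]]⟩,
  ⟨[17984130303, 18521000703, 19594741503], [199, 200, 201], [[1, -1, 0], [0, -1, 0], [1, -2, 1]], [[2, 0, -2], [-2, 0, -2], [2, -4, 2]], [[2, 0, 2], [2, 2], [4]]⟩,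
  ⟨[9931066623], [202], [[-1]], [[-4]], [[2]]⟩,
  ⟨[35700868863], [203], [[-1]], [[-4]], [[2]]⟩,
  ⟨[9125763327, 11004809727, 13152291327], [204, 205, 206], [[1, -1, 0], [0, -1, 0], [1, -2, 1]], [[2, 0, -2], [-2, 0, -2], [2, -4, 2]], [[2, 0, 2], [2, 2], [4]]⟩,
  ⟨[19594742271], [207], [[-1]], [[-4]], [[2]]⟩,
  ⟨[9931071999], [208], [[-1]], [[-4]], [[2]]⟩,
  ⟨[17715696895, 18521002495, 21742224895], [209, 210, 211], [[1, -1, 0], [0, -1, 0], [1, -2, 1]], [[2, 0, -2], [-2, 0, -2], [2, -4, 2]], [[2, 0, 2], [2, 2], [4]]⟩,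
  ⟨[34895564031, 35700869631, 36774610431], [212, 213, 214], [[1, -1, 0], [0, -1, 0], [1, -2, 1]], [[2, 0, -2], [-2, 0, -2], [2, -4, 2]], [[2, 0, 2], [2, 2], [4]]⟩,
  ⟨[70060606975], [215], [[-1]], [[-4]], [[2]]⟩,
  ⟨[17715700479, 17984135679, 26037191679], [216, 217, 218], [[1, -1, 0], [0, -1, 0], [1, -2, 1]], [[2, 0, -2], [-2, 0, -2], [2, -4, 2]], [[2, 0, 2], [2, 2], [4]]⟩,
  ⟨[34895565567, 35164000767, 38922093567], [219, 220, 221], [[1, -1, 0], [0, -1, 0], [1, -2, 1]], [[2, 0, -2], [-2, 0, -2], [2, -4, 2]], [[2, 0, 2], [2, 2], [4]]⟩,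
  ⟨[17984131839], [222], [[-1]], [[-4]], [[2]]⟩,
  ⟨[69255301887, 69523737087, 71134348287], [223, 224, 225], [[1, -1, 0], [0, -1, 0], [1, -2, 1]], [[2, 0, -2], [-2, 0, -2], [2, -4, 2]], [[2, 0, 2], [2, 2], [4]]⟩,
  ⟨[35163998975], [226], [[-1]], [[-4]], [[2]]⟩,
  ⟨[137974777599, 138243212799, 138780083199], [227, 228, 229], [[1, -1, 0], [0, -1, 0], [1, -2, 1]], [[2, 0, -2], [-2, 0, -2], [2, -4, 2]], [[2, 0, 2], [2, 2], [4]]⟩,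
  ⟨[69523736319], [230], [[-1]], [[-4]], [[2]]⟩,
  ⟨[275682165759], [231], [[-1]], [[-4]], [[2]]⟩,
  ⟨[34895569407], [232], [[-1]], [[-4]], [[2]]⟩,
  ⟨[69255303679], [233], [[-1]], [[-4]], [[2]]⟩,
  ⟨[137974778367], [234], [[-1]], [[-4]], [[2]]⟩,
  ⟨[275413730815], [235], [[-1]], [[-4]], [[2]]⟩,
  ⟨[550291637247], [236], [[-1]], [[-4]], [[2]]⟩]

/-- data -/
def Bm10s : List (Blk) := Bm10s_0 ++ (Bm10s_1 ++ (Bm10s_2))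

/-- data -/
def Bm10t0 : List (Blk) := [
  ⟨[6911166207, 7179601407, 6709839807, 7716471807, 6105860607, 4830793407, 5300555007, 5099228607, 5636099007, 5837425407], [93, 94, 95, 96, 97, 98, 99, 100, 101, 102], [[1, 0, 0, -1, 1, -1, -1, 1, -1, 1], [1, 0, 0, 0, 0, 0, -1, 0, 0, 0], [0, 0, 0, 0, 1, -1, -1, 1, -1, 0], [1, -1, 0, -1, 2, -1, -2, 1, -1, 0], [0, 0, 0, 0, 0, 0, 0, 0, -1, 0], [-1, 1, -1, 0, 0, 0, 0, 0, -1, 0], [0, 0, 0, 0, 0, 0, 0, -1, 0, 0], [0, 0, 0, 0, 0, 0, 0, -1, 0, -1], [0, 0, -1, 0, 0, 0, 0, -1, 0, 0], [-1, 0, -1, 0, 0, 0, 0, -1, 0, -1]], [[1, 0, 1, -2, 0, -2, 0, 1, 0, 1], [-1, 2, -1, 2, -4, 2, 0, -1, 2, -1], [-1, 0, 1, 2, 0, -2, 0, 1, 0, -1], [3, -2, 1, -2, 4, -2, -4, 3, -2, 1], [1, -2, 1, 0, 0, 0, 0, 1, -2, 1], [-1, 2, -1, 0, 0, 0, 0, 1, -2, 1], [-1, 0, 1, 0, 0, 0, 0, -1, 0, 1], [1, 0, 1, 0, 0,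 0, 0, -1, 0, -1], [1, 0, -1, 0, 0, 0, 0, -1, 0, 1], [-1, 0, -1, 0, 0, 0, 0, -1, 0, -1]], [[2, 0, 0, 2, 0, 2, 0, 0, 2, 0], [2, 0, 2, 0, 0, 0, 2, 2, 0], [2, 2, 0, 2, 0, 0, 0, 2], [4, 0, 0, 0, 0, 0, 4], [2, 2, 0, 2, 0, 2], [4, 0, 0, 0, 4], [2, 2, 2, 2], [4, 0, 4], [4, 4], [8]]⟩,
  ⟨[11139024639, 11407459839, 11004807039, 11944330239, 10333719039, 9125760639, 9528413439, 9394195839, 9931066239, 10065283839], [145, 146, 147, 148, 149, 150, 151, 152, 153, 154], [[1, 0, 0, -1, 1, -1, -1, 1, -1, 1], [1, 0, 0, 0, 0, 0, -1, 0, 0, 0], [0, 0, 0, 0, 1, -1, -1, 1, -1, 0], [1, -1, 0, -1, 2, -1, -2, 1, -1, 0], [0, 0, 0, 0, 0, 0, 0, 0, -1, 0], [-1, 1, -1, 0, 0, 0, 0, 0, -1, 0], [0, 0, 0, 0, 0, 0, 0, -1, 0, 0], [0, 0, 0, 0, 0, 0, 0, -1, 0, -1], [0, 0, -1, 0, 0, 0, 0, -1, 0, 0], [-1, 0, -1, 0, 0, 0, 0, -1, 0, -1]], [[1, 0, 1, -2,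 0, -2, 0, 1, 0, 1], [-1, 2, -1, 2, -4, 2, 0, -1, 2, -1], [-1, 0, 1, 2, 0, -2, 0, 1, 0, -1], [3, -2, 1, -2, 4, -2, -4, 3, -2, 1], [1, -2, 1, 0, 0, 0, 0, 1, -2, 1], [-1, 2, -1, 0, 0, 0, 0, 1, -2, 1], [-1, 0, 1, 0, 0, 0, 0, -1, 0, 1], [1, 0, 1, 0, 0, 0, 0, -1, 0, -1], [1, 0, -1, 0, 0, 0, 0, -1, 0, 1], [-1, 0, -1, 0, 0, 0, 0, -1, 0, -1]], [[2, 0, 0, 2, 0, 2, 0, 0, 2, 0], [2, 0, 2, 0, 0, 0, 2, 2, 0], [2, 2, 0, 2, 0, 0, 0, 2], [4, 0, 0, 0, 0, 0, 4], [2, 2, 0, 2, 0, 2], [4, 0, 0, 0, 4], [2, 2, 2, 2], [4, 0, 4], [4, 4], [8]]⟩]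

theorem okBm10s : Bm10s.all (bChk false 10 true Vm10 X10 [6156190719, 11239687167, 18990760959, 36908827647]) = true := by decide +kernel

theorem okBm10t0 : Bm10t0.all (bChk false 10 true Vm10 X10 [6156190719, 11239687167, 18990760959, 36908827647]) = true := by decide +kernel

theorem both_m10 : Both false 10 true :=
  both_of (bl := Bm10s ++ (Bm10t0)) (dg := [2112882655, 3153071039, 3622833535, 5233447807, 5636101375, 9394201343, 17715708415]) (W := []) tab10 inVm10 (all2_nil _) okX10 (all_app okBm10s okBm10t0)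
    (by decide +kernel) (by decide +kernel)


end Cfsg.Agent.LV.Cl.Cert
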