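import Cfsg.Agent.LV.Cl.Cert3
import Cfsg.Agent.LV.Cl.CertX
import Cfsg.Agent.LV.Cl.CertVe

/-! # LV, classical groups: certificate data (generated by `notes/LV/py/cert`; helper58) -/

set_option autoImplicit false
set_option linter.dupNamespace false
set_option maxRecDepth 100000

namespace Cfsg.Agent.LV.Cl.Cert

/-- data -/
def Bp1s : List (Blk) := [
  ⟨[1609565183], [0], [[1]], [[4]], [[2]]⟩]

theorem okBp1s : Bp1s.all (bChk false 1 false Vp1 X1 []) = true := by decide +kernel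

theorem both_p1 : Both false 1 false :=
  both_of (bl := Bp1s) (dg := []) (W := []) tab1 inVp1 (all2_nil _) okX1 okBp1s
    (by decide +kernel) (by decide +kernel)

/-- data -/
def Bm1s : List (Blk) := [
  ⟨[1609565183], [0], [[-1]], [[-4]], [[2]]⟩]

theorem okBm1s : Bm1s.all (bChk false 1 true Vm1 X1 []) = true := by decide +kernel

theorem both_m1 : Both false 1 true :=
  both_of (bl := Bm1s) (dg := []) (W := []) tab1 inVm1 (all2_nil _) okX1 okBm1s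
    (by decide +kernel) (by decide +kernel)

/-- data -/
def Bp2s : List (Blk) := [
  ⟨[1878000639], [0], [[1]], [[4]], [[2]]⟩,
  ⟨[2683307007], [2], [[1]], [[4]], [[2]]⟩]

theorem okBp2s : Bp2s.all (bChk false 2 false Vp2 X2 []) = true := by decide +kernel

theorem both_p2 : Both false 2 false :=
  both_of (bl := Bp2s) (dg := [1609565695]) (W := W1) tab2 inVp2 all2_1 okX2 okBp2s
    (by decide +kernel) (by decide +kernel)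

/-- data -/
def Bm2s : List (Blk) := [
  ⟨[1878000639], [0], [[-1]], [[-4]], [[2]]⟩,
  ⟨[2683307007], [1], [[-1]], [[-4]], [[2]]⟩]

theorem okBm2s : Bm2s.all (bChk false 2 true Vm2 X2 []) = true := by decide +kernel

theorem both_m2 : Both false 2 true :=
  both_of (bl := Bm2s) (dg := [1609565695]) (W := []) tab2 inVm2 (all2_nil _) okX2 okBm2s
    (by decide +kernel) (by decide +kernel)

/-- data -/
def Bp3s : List (Blk) := [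
  ⟨[2012218367], [0], [[1]], [[4]], [[2]]⟩,
  ⟨[1878001151], [1], [[1]], [[4]], [[2]]⟩,
  ⟨[2951742463], [2], [[1]], [[4]], [[2]]⟩,
  ⟨[2683307519], [3], [[1]], [[4]], [[2]]⟩,
  ⟨[4830790655], [4], [[1]], [[4]], [[2]]⟩]

theorem okBp3s : Bp3s.all (bChk false 3 false Vp3 X3 []) = true := by decide +kernel

theorem both_p3 : Both false 3 false :=
  both_of (bl := Bp3s) (dg := []) (W := []) tab3 inVp3 (all2_nil _) okX3 okBp3s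
    (by decide +kernel) (by decide +kernel)

/-- data -/
def Bm3s : List (Blk) := [
  ⟨[2012218367], [0], [[-1]], [[-4]], [[2]]⟩,
  ⟨[1878001151], [1], [[-1]], [[-4]], [[2]]⟩,
  ⟨[2951742463], [2], [[-1]], [[-4]], [[2]]⟩,
  ⟨[2683307519], [3], [[-1]], [[-4]], [[2]]⟩,
  ⟨[4830790655], [4], [[-1]], [[-4]], [[2]]⟩]

theorem okBm3s : Bm3s.all (bChk false 3 true Vm3 X3 []) = true := by decide +kernel

theorem both_m3 : Both false 3 true :=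
  both_of (bl := Bm3s) (dg := []) (W := []) tab3 inVm3 (all2_nil _) okX3 okBm3s
    (by decide +kernel) (by decide +kernel)

/-- data -/
def Bp4s : List (Blk) := [
  ⟨[2079327231], [0], [[1]], [[4]], [[2]]⟩,
  ⟨[2012218879], [1], [[1]], [[4]], [[2]]⟩,
  ⟨[3085960191], [2], [[1]], [[4]], [[2]]⟩,
  ⟨[2683307775, 2951742975, 3488613375], [4, 5, 6], [[0, 1, -1], [0, 1, 0], [-1, 2, -1]], [[2, 0, -2], [2, 0, 2], [-2, 4, -2]], [[2, 0, 2], [2, 2], [4]]⟩,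
  ⟨[5099226111], [7], [[1]], [[4]], [[2]]⟩,
  ⟨[4830791167], [9], [[1]], [[4]], [[2]]⟩,
  ⟨[9125757951], [10], [[1]], [[4]], [[2]]⟩]

theorem okBp4s : Bp4s.all (bChk false 4 false Vp4 X4 []) = true := by decide +kernel

theorem both_p4 : Both false 4 false :=
  both_of (bl := Bp4s) (dg := [1878001407, 2683308543]) (W := W2) tab4 inVp4 all2_2 okX4 okBp4s
    (by decide +kernel) (by decide +kernel)

/-- data -/
def Bm4s : List (Blk) := [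
  ⟨[2079327231], [0], [[-1]], [[-4]], [[2]]⟩,
  ⟨[2012218879], [1], [[-1]], [[-4]], [[2]]⟩,
  ⟨[3085960191], [2], [[-1]], [[-4]], [[2]]⟩,
  ⟨[2683307775, 2951742975, 3488613375], [3, 4, 5], [[1, -1, 0], [0, -1, 0], [1, -2, 1]], [[2, 0, -2], [-2, 0, -2], [2, -4, 2]], [[2, 0, 2], [2, 2], [4]]⟩,
  ⟨[5099226111], [6], [[-1]], [[-4]], [[2]]⟩,
  ⟨[4830791167], [7], [[-1]], [[-4]], [[2]]⟩,
  ⟨[9125757951], [8], [[-1]], [[-4]], [[2]]⟩]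

theorem okBm4s : Bm4s.all (bChk false 4 true Vm4 X4 []) = true := by decide +kernel

theorem both_m4 : Both false 4 true :=
  both_of (bl := Bm4s) (dg := [1878001407, 2683308543]) (W := []) tab4 inVm4 (all2_nil _) okX4 okBm4s
    (by decide +kernel) (by decide +kernel)

/-- data -/
def Bp5s : List (Blk) := [
  ⟨[2112881663], [0], [[1]], [[4]], [[2]]⟩,
  ⟨[2079327743], [1], [[1]], [[4]], [[2]]⟩,
  ⟨[3153069055], [2], [[1]], [[4]], [[2]]⟩,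
  ⟨[2012219135], [3], [[1]], [[4]], [[2]]⟩,
  ⟨[2683307903, 3085960703, 3622831103], [4, 5, 6], [[0, 1, -1], [0, 1, 0], [-1, 2, -1]], [[2, 0, -2], [2, 0, 2], [-2, 4, -2]], [[2, 0, 2], [2, 2], [4]]⟩,
  ⟨[5233443839], [7], [[1]], [[4]], [[2]]⟩,
  ⟨[2951743231], [8], [[1]], [[4]], [[2]]⟩,
  ⟨[3488613887], [9], [[1]], [[4]], [[2]]⟩,
  ⟨[2951743999], [10], [[1]], [[4]], [[2]]⟩,
  ⟨[4830791423, 5099226623, 5636097023], [11, 12, 13], [[0, 1, -1], [0, 1, 0], [-1, 2, -1]], [[2, 0, -2], [2, 0, 2], [-2, 4, -2]], [[2, 0, 2], [2, 2], [4]]⟩,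
  ⟨[9394193407], [14], [[1]], [[4]], [[2]]⟩,
  ⟨[4830792191], [15], [[1]], [[4]], [[2]]⟩,
  ⟨[9125758463], [16], [[1]], [[4]], [[2]]⟩,
  ⟨[17715692543], [17], [[1]], [[4]], [[2]]⟩]

theorem okBp5s : Bp5s.all (bChk false 5 false Vp5 X5 [3622831103, 5636097023]) = true := by decide +kernel

theorem both_p5 : Both false 5 false :=
  both_of (bl := Bp5s) (dg := []) (W := []) tab5 inVp5 (all2_nil _) okX5 okBp5s
    (by decide +kernel) (by decide +kernel)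

/-- data -/
def Bm5s : List (Blk) := [
  ⟨[2112881663], [0], [[-1]], [[-4]], [[2]]⟩,
  ⟨[2079327743], [1], [[-1]], [[-4]], [[2]]⟩,
  ⟨[3153069055], [2], [[-1]], [[-4]], [[2]]⟩,
  ⟨[2012219135], [3], [[-1]], [[-4]], [[2]]⟩,
  ⟨[2683307903, 3085960703, 3622831103], [4, 5, 6], [[1, -1, 0], [0, -1, 0], [1, -2, 1]], [[2, 0, -2], [-2, 0, -2], [2, -4, 2]], [[2, 0, 2], [2, 2], [4]]⟩,
  ⟨[5233443839], [7], [[-1]], [[-4]], [[2]]⟩,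
  ⟨[3488613887], [8], [[-1]], [[-4]], [[2]]⟩,
  ⟨[2951743999], [9], [[-1]], [[-4]], [[2]]⟩,
  ⟨[4830791423, 5099226623, 5636097023], [10, 11, 12], [[1, -1, 0], [0, -1, 0], [1, -2, 1]], [[2, 0, -2], [-2, 0, -2], [2, -4, 2]], [[2, 0, 2], [2, 2], [4]]⟩,
  ⟨[2951743231], [13], [[-1]], [[-4]], [[2]]⟩,
  ⟨[9394193407], [14], [[-1]], [[-4]], [[2]]⟩,
  ⟨[4830792191], [15], [[-1]], [[-4]], [[2]]⟩,
  ⟨[9125758463], [16], [[-1]], [[-4]], [[2]]⟩,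
  ⟨[17715692543], [17], [[-1]], [[-4]], [[2]]⟩]

theorem okBm5s : Bm5s.all (bChk false 5 true Vm5 X5 [3622831103, 5636097023]) = true := by decide +kernel

theorem both_m5 : Both false 5 true :=
  both_of (bl := Bm5s) (dg := []) (W := []) tab5 inVm5 (all2_nil _) okX5 okBm5s
    (by decide +kernel) (by decide +kernel)

/-- data -/
def Bp6s : List (Blk) := [
  ⟨[2129658879], [0], [[1]], [[4]], [[2]]⟩,
  ⟨[2112882175], [1], [[1]], [[4]], [[2]]⟩,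
  ⟨[3186623487], [2], [[1]], [[4]], [[2]]⟩,
  ⟨[2079327999], [3], [[1]], [[4]], [[2]]⟩,
  ⟨[2683307967, 3153069567, 3689939967], [4, 5, 6], [[0, 1, -1], [0, 1, 0], [-1, 2, -1]], [[2, 0, -2], [2, 0, 2], [-2, 4, -2]], [[2, 0, 2], [2, 2], [4]]⟩,
  ⟨[5300552703], [7], [[1]], [[4]], [[2]]⟩,
  ⟨[2951743359, 3085960959, 3891266559], [9, 10, 11], [[0, 1, -1], [0, 1, 0], [-1, 2, -1]], [[2, 0, -2], [2, 0, 2], [-2, 4, -2]], [[2, 0, 2], [2, 2], [4]]⟩,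
  ⟨[3622831615], [12], [[1]], [[4]], [[2]]⟩,
  ⟨[3085961727], [13], [[1]], [[4]], [[2]]⟩,
  ⟨[4830791551, 5233444351, 5770314751], [14, 15, 16], [[0, 1, -1], [0, 1, 0], [-1, 2, -1]], [[2, 0, -2], [2, 0, 2], [-2, 4, -2]], [[2, 0, 2], [2, 2], [4]]⟩,
  ⟨[9528411135], [17], [[1]], [[4]], [[2]]⟩,
  ⟨[3488614143], [18], [[1]], [[4]], [[2]]⟩,
  ⟨[5099226879], [20], [[1]], [[4]], [[2]]⟩,
  ⟨[3488614911], [21], [[1]], [[4]], [[2]]⟩,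
  ⟨[5636097535], [22], [[1]], [[4]], [[2]]⟩,
  ⟨[4830792447, 5099227647, 6709838847], [23, 24, 25], [[0, 1, -1], [0, 1, 0], [-1, 2, -1]], [[2, 0, -2], [2, 0, 2], [-2, 4, -2]], [[2, 0, 2], [2, 2], [4]]⟩,
  ⟨[9125758719, 9394193919, 9931064319], [26, 27, 28], [[0, 1, -1], [0, 1, 0], [-1, 2, -1]], [[2, 0, -2], [2, 0, 2], [-2, 4, -2]], [[2, 0, 2], [2, 2], [4]]⟩,
  ⟨[17984127999], [29], [[1]], [[4]], [[2]]⟩,
  ⟨[9125759487], [31], [[1]], [[4]], [[2]]⟩,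
  ⟨[17715693055], [32], [[1]], [[4]], [[2]]⟩,
  ⟨[34895561727], [33], [[1]], [[4]], [[2]]⟩]

theorem okBp6s : Bp6s.all (bChk false 6 false Vp6 X6 []) = true := by decide +kernel

theorem both_p6 : Both false 6 false :=
  both_of (bl := Bp6s) (dg := [2012219263, 2951744255, 4830794239]) (W := W3) tab6 inVp6 all2_3 okX6 okBp6s
    (by decide +kernel) (by decide +kernel)

/-- data -/
def Bm6s : List (Blk) := [
  ⟨[2129658879], [0], [[-1]], [[-4]], [[2]]⟩,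
  ⟨[2112882175], [1], [[-1]], [[-4]], [[2]]⟩,
  ⟨[3186623487], [2], [[-1]], [[-4]], [[2]]⟩,
  ⟨[2079327999], [3], [[-1]], [[-4]], [[2]]⟩,
  ⟨[2683307967, 3153069567, 3689939967], [4, 5, 6], [[1, -1, 0], [0, -1, 0], [1, -2, 1]], [[2, 0, -2], [-2, 0, -2], [2, -4, 2]], [[2, 0, 2], [2, 2], [4]]⟩,
  ⟨[5300552703], [7], [[-1]], [[-4]], [[2]]⟩,
  ⟨[2951743359, 3085960959, 3891266559], [8, 9, 10], [[1, -1, 0], [0, -1, 0], [1, -2, 1]], [[2, 0, -2], [-2, 0, -2], [2, -4, 2]], [[2, 0, 2], [2, 2], [4]]⟩,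
  ⟨[3622831615], [11], [[-1]], [[-4]], [[2]]⟩,
  ⟨[3085961727], [12], [[-1]], [[-4]], [[2]]⟩,
  ⟨[4830791551, 5233444351, 5770314751], [13, 14, 15], [[1, -1, 0], [0, -1, 0], [1, -2, 1]], [[2, 0, -2], [-2, 0, -2], [2, -4, 2]], [[2, 0, 2], [2, 2], [4]]⟩,
  ⟨[9528411135], [16], [[-1]], [[-4]], [[2]]⟩,
  ⟨[3488614143], [17], [[-1]], [[-4]], [[2]]⟩,
  ⟨[3488614911], [18], [[-1]], [[-4]], [[2]]⟩,
  ⟨[5636097535], [19], [[-1]], [[-4]], [[2]]⟩,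
  ⟨[4830792447, 5099227647, 6709838847], [20, 21, 22], [[1, -1, 0], [0, -1, 0], [1, -2, 1]], [[2, 0, -2], [-2, 0, -2], [2, -4, 2]], [[2, 0, 2], [2, 2], [4]]⟩,
  ⟨[9125758719, 9394193919, 9931064319], [23, 24, 25], [[1, -1, 0], [0, -1, 0], [1, -2, 1]], [[2, 0, -2], [-2, 0, -2], [2, -4, 2]], [[2, 0, 2], [2, 2], [4]]⟩,
  ⟨[5099226879], [26], [[-1]], [[-4]], [[2]]⟩,
  ⟨[17984127999], [27], [[-1]], [[-4]], [[2]]⟩,
  ⟨[9125759487], [28], [[-1]], [[-4]], [[2]]⟩,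
  ⟨[17715693055], [29], [[-1]], [[-4]], [[2]]⟩,
  ⟨[34895561727], [30], [[-1]], [[-4]], [[2]]⟩]

theorem okBm6s : Bm6s.all (bChk false 6 true Vm6 X6 []) = true := by decide +kernel

theorem both_m6 : Both false 6 true :=
  both_of (bl := Bm6s) (dg := [2012219263, 2951744255, 4830794239]) (W := []) tab6 inVm6 (all2_nil _) okX6 okBm6s
    (by decide +kernel) (by decide +kernel)

/-- data -/
def Bp7s : List (Blk) := [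
  ⟨[2138047487], [0], [[1]], [[4]], [[2]]⟩,
  ⟨[2129659391], [1], [[1]], [[4]], [[2]]⟩,
  ⟨[3203400703], [2], [[1]], [[4]], [[2]]⟩,
  ⟨[2112882431], [3], [[1]], [[4]], [[2]]⟩,
  ⟨[2683307999, 3186623999, 3723494399], [4, 5, 6], [[0, 1, -1], [0, 1, 0], [-1, 2, -1]], [[2, 0, -2], [2, 0, 2], [-2, 4, -2]], [[2, 0, 2], [2, 2], [4]]⟩,
  ⟨[5334107135], [7], [[1]], [[4]], [[2]]⟩,
  ⟨[2079328127], [8], [[1]], [[4]], [[2]]⟩,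
  ⟨[2951743423, 3153069823, 3958375423], [9, 10, 11], [[0, 1, -1], [0, 1, 0], [-1, 2, -1]], [[2, 0, -2], [2, 0, 2], [-2, 4, -2]], [[2, 0, 2], [2, 2], [4]]⟩,
  ⟨[3689940479], [12], [[1]], [[4]], [[2]]⟩,
  ⟨[3153070591], [13], [[1]], [[4]], [[2]]⟩,
  ⟨[4830791615, 5300553215, 5837423615], [14, 15, 16], [[0, 1, -1], [0, 1, 0], [-1, 2, -1]], [[2, 0, -2], [2, 0, 2], [-2, 4, -2]], [[2, 0, 2], [2, 2], [4]]⟩,
  ⟨[9595519999], [17], [[1]], [[4]], [[2]]⟩,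
  ⟨[3085961087], [18], [[1]], [[4]], [[2]]⟩,
  ⟨[3488614271, 3622831871, 3891267071], [19, 20, 21], [[0, 1, -1], [0, 1, 0], [-1, 2, -1]], [[2, 0, -2], [2, 0, 2], [-2, 4, -2]], [[2, 0, 2], [2, 2], [4]]⟩,
  ⟨[3085961983], [22], [[1]], [[4]], [[2]]⟩,
  ⟨[5099227007, 5233444607, 6038750207], [23, 24, 25], [[0, 1, -1], [0, 1, 0], [-1, 2, -1]], [[2, 0, -2], [2, 0, 2], [-2, 4, -2]], [[2, 0, 2], [2, 2], [4]]⟩,
  ⟨[3622832639], [26], [[1]], [[4]], [[2]]⟩,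
  ⟨[5770315263], [27], [[1]], [[4]], [[2]]⟩,
  ⟨[4830792575, 5233445375, 6844056575], [28, 29, 30], [[0, 1, -1], [0, 1, 0], [-1, 2, -1]], [[2, 0, -2], [2, 0, 2], [-2, 4, -2]], [[2, 0, 2], [2, 2], [4]]⟩,
  ⟨[9125758847, 9528411647, 10065282047], [31, 32, 33], [[0, 1, -1], [0, 1, 0], [-1, 2, -1]], [[2, 0, -2], [2, 0, 2], [-2, 4, -2]], [[2, 0, 2], [2, 2], [4]]⟩,
  ⟨[18118345727], [34], [[1]], [[4]], [[2]]⟩,
  ⟨[3488615167], [35], [[1]], [[4]], [[2]]⟩,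
  ⟨[5636097791], [36], [[1]], [[4]], [[2]]⟩,
  ⟨[5099227903], [37], [[1]], [[4]], [[2]]⟩,
  ⟨[9394194175], [38], [[1]], [[4]], [[2]]⟩,
  ⟨[4830792959, 5636098559, 6709839359], [39, 40, 41], [[0, 1, -1], [0, 1, 0], [-1, 2, -1]], [[2, 0, -2], [2, 0, 2], [-2, 4, -2]], [[2, 0, 2], [2, 2], [4]]⟩,
  ⟨[9931064831], [42], [[1]], [[4]], [[2]]⟩,
  ⟨[5099229695], [43], [[1]], [[4]], [[2]]⟩,
  ⟨[9125759743, 9394194943, 11004806143], [44, 45, 46], [[0, 1, -1], [0, 1, 0], [-1, 2, -1]], [[2, 0, -2], [2, 0, 2], [-2, 4, -2]], [[2, 0, 2], [2, 2], [4]]⟩,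
  ⟨[17715693311, 17984128511, 18520998911], [47, 48, 49], [[0, 1, -1], [0, 1, 0], [-1, 2, -1]], [[2, 0, -2], [2, 0, 2], [-2, 4, -2]], [[2, 0, 2], [2, 2], [4]]⟩,
  ⟨[35163997183], [50], [[1]], [[4]], [[2]]⟩,
  ⟨[9125761535], [51], [[1]], [[4]], [[2]]⟩,
  ⟨[17715694079], [52], [[1]], [[4]], [[2]]⟩,
  ⟨[34895562239], [53], [[1]], [[4]], [[2]]⟩,
  ⟨[69255300095], [54], [[1]], [[4]], [[2]]⟩]

theorem okBp7s : Bp7s.all (bChk false 7 false Vp7 X7 []) = true := by decide +kernel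

theorem both_p7 : Both false 7 false :=
  both_of (bl := Bp7s) (dg := []) (W := []) tab7 inVp7 (all2_nil _) okX7 okBp7s
    (by decide +kernel) (by decide +kernel)

/-- data -/
def Bm7s : List (Blk) := [
  ⟨[2138047487], [0], [[-1]], [[-4]], [[2]]⟩,
  ⟨[2129659391], [1], [[-1]], [[-4]], [[2]]⟩,
  ⟨[3203400703], [2], [[-1]], [[-4]], [[2]]⟩,
  ⟨[2112882431], [3], [[-1]], [[-4]], [[2]]⟩,
  ⟨[2683307999, 3186623999, 3723494399], [4, 5, 6], [[1, -1, 0], [0, -1, 0], [1, -2, 1]], [[2, 0, -2], [-2, 0, -2], [2, -4, 2]], [[2, 0, 2], [2, 2], [4]]⟩,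
  ⟨[5334107135], [7], [[-1]], [[-4]], [[2]]⟩,
  ⟨[2079328127], [8], [[-1]], [[-4]], [[2]]⟩,
  ⟨[2951743423, 3153069823, 3958375423], [9, 10, 11], [[1, -1, 0], [0, -1, 0], [1, -2, 1]], [[2, 0, -2], [-2, 0, -2], [2, -4, 2]], [[2, 0, 2], [2, 2], [4]]⟩,
  ⟨[3689940479], [12], [[-1]], [[-4]], [[2]]⟩,
  ⟨[3153070591], [13], [[-1]], [[-4]], [[2]]⟩,
  ⟨[4830791615, 5300553215, 5837423615], [14, 15, 16], [[1, -1, 0], [0, -1, 0], [1, -2, 1]], [[2, 0, -2], [-2, 0, -2], [2, -4, 2]], [[2, 0, 2], [2, 2], [4]]⟩,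
  ⟨[9595519999], [17], [[-1]], [[-4]], [[2]]⟩,
  ⟨[3488614271, 3622831871, 3891267071], [18, 19, 20], [[1, -1, 0], [0, -1, 0], [1, -2, 1]], [[2, 0, -2], [-2, 0, -2], [2, -4, 2]], [[2, 0, 2], [2, 2], [4]]⟩,
  ⟨[3085961983], [21], [[-1]], [[-4]], [[2]]⟩,
  ⟨[5099227007, 5233444607, 6038750207], [22, 23, 24], [[1, -1, 0], [0, -1, 0], [1, -2, 1]], [[2, 0, -2], [-2, 0, -2], [2, -4, 2]], [[2, 0, 2], [2, 2], [4]]⟩,
  ⟨[3085961087], [25], [[-1]], [[-4]], [[2]]⟩,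
  ⟨[3622832639], [26], [[-1]], [[-4]], [[2]]⟩,
  ⟨[5770315263], [27], [[-1]], [[-4]], [[2]]⟩,
  ⟨[4830792575, 5233445375, 6844056575], [28, 29, 30], [[1, -1, 0], [0, -1, 0], [1, -2, 1]], [[2, 0, -2], [-2, 0, -2], [2, -4, 2]], [[2, 0, 2], [2, 2], [4]]⟩,
  ⟨[9125758847, 9528411647, 10065282047], [31, 32, 33], [[1, -1, 0], [0, -1, 0], [1, -2, 1]], [[2, 0, -2], [-2, 0, -2], [2, -4, 2]], [[2, 0, 2], [2, 2], [4]]⟩,
  ⟨[18118345727], [34], [[-1]], [[-4]], [[2]]⟩,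
  ⟨[3488615167], [35], [[-1]], [[-4]], [[2]]⟩,
  ⟨[5636097791], [36], [[-1]], [[-4]], [[2]]⟩,
  ⟨[4830792959, 5636098559, 6709839359], [37, 38, 39], [[1, -1, 0], [0, -1, 0], [1, -2, 1]], [[2, 0, -2], [-2, 0, -2], [2, -4, 2]], [[2, 0, 2], [2, 2], [4]]⟩,
  ⟨[9931064831], [40], [[-1]], [[-4]], [[2]]⟩,
  ⟨[5099229695], [41], [[-1]], [[-4]], [[2]]⟩,
  ⟨[9125759743, 9394194943, 11004806143], [42, 43, 44], [[1, -1, 0], [0, -1, 0], [1, -2, 1]], [[2, 0, -2], [-2, 0, -2], [2, -4, 2]], [[2, 0, 2], [2, 2], [4]]⟩,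
  ⟨[5099227903], [45], [[-1]], [[-4]], [[2]]⟩,
  ⟨[17715693311, 17984128511, 18520998911], [46, 47, 48], [[1, -1, 0], [0, -1, 0], [1, -2, 1]], [[2, 0, -2], [-2, 0, -2], [2, -4, 2]], [[2, 0, 2], [2, 2], [4]]⟩,
  ⟨[9394194175], [49], [[-1]], [[-4]], [[2]]⟩,
  ⟨[35163997183], [50], [[-1]], [[-4]], [[2]]⟩,
  ⟨[9125761535], [51], [[-1]], [[-4]], [[2]]⟩,
  ⟨[17715694079], [52], [[-1]], [[-4]], [[2]]⟩,
  ⟨[34895562239], [53], [[-1]], [[-4]], [[2]]⟩,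
  ⟨[69255300095], [54], [[-1]], [[-4]], [[2]]⟩]

theorem okBm7s : Bm7s.all (bChk false 7 true Vm7 X7 []) = true := by decide +kernel

theorem both_m7 : Both false 7 true :=
  both_of (bl := Bm7s) (dg := []) (W := []) tab7 inVm7 (all2_nil _) okX7 okBm7s
    (by decide +kernel) (by decide +kernel)

/-- data -/
def Bp8s_0 : List (Blk) := [
  ⟨[2142241791], [0], [[1]], [[4]], [[2]]⟩,
  ⟨[2138047999], [1], [[1]], [[4]], [[2]]⟩,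
  ⟨[3211789311], [2], [[1]], [[4]], [[2]]⟩,
  ⟨[2129659647], [3], [[1]], [[4]], [[2]]⟩,
  ⟨[2683308015, 3203401215, 3740271615], [4, 5, 6], [[0, 1, -1], [0, 1, 0], [-1, 2, -1]], [[2, 0, -2], [2, 0, 2], [-2, 4, -2]], [[2, 0, 2], [2, 2], [4]]⟩,
  ⟨[5350884351], [7], [[1]], [[4]], [[2]]⟩,
  ⟨[2112882559], [8], [[1]], [[4]], [[2]]⟩,
  ⟨[2951743455, 3186624255, 3991929855], [9, 10, 11], [[0, 1, -1], [0, 1, 0], [-1, 2, -1]], [[2, 0, -2], [2, 0, 2], [-2, 4, -2]], [[2, 0, 2], [2, 2], [4]]⟩,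
  ⟨[3723494911], [12], [[1]], [[4]], [[2]]⟩,
  ⟨[3186625023], [13], [[1]], [[4]], [[2]]⟩,
  ⟨[4830791647, 5334107647, 5870978047], [14, 15, 16], [[0, 1, -1], [0, 1, 0], [-1, 2, -1]], [[2, 0, -2], [2, 0, 2], [-2, 4, -2]], [[2, 0, 2], [2, 2], [4]]⟩,
  ⟨[9629074431], [17], [[1]], [[4]], [[2]]⟩,
  ⟨[3085961151, 3153069951, 4092593151], [19, 20, 21], [[0, 1, -1], [0, 1, 0], [-1, 2, -1]], [[2, 0, -2], [2, 0, 2], [-2, 4, -2]], [[2, 0, 2], [2, 2], [4]]⟩,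
  ⟨[3488614335, 3689940735, 3958375935], [22, 23, 24], [[0, 1, -1], [0, 1, 0], [-1, 2, -1]], [[2, 0, -2], [2, 0, 2], [-2, 4, -2]], [[2, 0, 2], [2, 2], [4]]⟩,
  ⟨[3153070847], [25], [[1]], [[4]], [[2]]⟩,
  ⟨[5099227071, 5300553471, 6105859071], [26, 27, 28], [[0, 1, -1], [0, 1, 0], [-1, 2, -1]], [[2, 0, -2], [2, 0, 2], [-2, 4, -2]], [[2, 0, 2], [2, 2], [4]]⟩,
  ⟨[3689941503], [29], [[1]], [[4]], [[2]]⟩,
  ⟨[5837424127], [30], [[1]], [[4]], [[2]]⟩,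
  ⟨[4830792639, 5300554239, 6911165439], [31, 32, 33], [[0, 1, -1], [0, 1, 0], [-1, 2, -1]], [[2, 0, -2], [2, 0, 2], [-2, 4, -2]], [[2, 0, 2], [2, 2], [4]]⟩,
  ⟨[9125758911, 9595520511, 10132390911], [34, 35, 36], [[0, 1, -1], [0, 1, 0], [-1, 2, -1]], [[2, 0, -2], [2, 0, 2], [-2, 4, -2]], [[2, 0, 2], [2, 2], [4]]⟩,
  ⟨[18185454591], [37], [[1]], [[4]], [[2]]⟩,
  ⟨[3622831999], [38], [[1]], [[4]], [[2]]⟩,
  ⟨[5233444735], [40], [[1]], [[4]], [[2]]⟩,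
  ⟨[3891267327], [41], [[1]], [[4]], [[2]]⟩,
  ⟨[3488615295, 3622832895, 3891268095], [42, 43, 44], [[0, 1, -1], [0, 1, 0], [-1, 2, -1]], [[2, 0, -2], [2, 0, 2], [-2, 4, -2]], [[2, 0, 2], [2, 2], [4]]⟩,
  ⟨[5636097919, 5770315519, 6038750719], [45, 46, 47], [[0, 1, -1], [0, 1, 0], [-1, 2, -1]], [[2, 0, -2], [2, 0, 2], [-2, 4, -2]], [[2, 0, 2], [2, 2], [4]]⟩,
  ⟨[5099228031, 5233445631, 7112492031], [48, 49, 50], [[0, 1, -1], [0, 1, 0], [-1, 2, -1]], [[2, 0, -2], [2, 0, 2], [-2, 4, -2]], [[2, 0, 2], [2, 2], [4]]⟩,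
  ⟨[9394194303, 9528411903, 10333717503], [51, 52, 53], [[0, 1, -1], [0, 1, 0], [-1, 2, -1]], [[2, 0, -2], [2, 0, 2], [-2, 4, -2]], [[2, 0, 2], [2, 2], [4]]⟩,
  ⟨[4830793087, 5770316287, 6844057087], [54, 55, 56], [[0, 1, -1], [0, 1, 0], [-1, 2, -1]], [[2, 0, -2], [2, 0, 2], [-2, 4, -2]], [[2, 0, 2], [2, 2], [4]]⟩,
  ⟨[10065282559], [57], [[1]], [[4]], [[2]]⟩,
  ⟨[5233447423], [58], [[1]], [[4]], [[2]]⟩,
  ⟨[9125759871, 9528412671, 11139023871], [59, 60, 61], [[0, 1, -1], [0, 1, 0], [-1, 2, -1]], [[2, 0, -2], [2, 0, 2], [-2, 4, -2]], [[2, 0, 2], [2, 2], [4]]⟩,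
  ⟨[17715693439, 18118346239, 18655216639], [62, 63, 64], [[0, 1, -1], [0, 1, 0], [-1, 2, -1]], [[2, 0, -2], [2, 0, 2], [-2, 4, -2]], [[2, 0, 2], [2, 2], [4]]⟩,
  ⟨[35298214911], [65], [[1]], [[4]], [[2]]⟩,
  ⟨[5099228415, 5636098815, 6709839615], [67, 68, 69], [[0, 1, -1], [0, 1, 0], [-1, 2, -1]], [[2, 0, -2], [2, 0, 2], [-2, 4, -2]], [[2, 0, 2], [2, 2], [4]]⟩,
  ⟨[9931065087], [70], [[1]], [[4]], [[2]]⟩,
  ⟨[9394195199], [72], [[1]], [[4]], [[2]]⟩,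
  ⟨[17984128767], [73], [[1]], [[4]], [[2]]⟩,
  ⟨[6709840383], [74], [[1]], [[4]], [[2]]⟩,
  ⟨[5636100607], [75], [[1]], [[4]], [[2]]⟩]

/-- data -/
def Bp8s_1 : List (Blk) := [
  ⟨[9125760255, 9931065855, 11004806655], [76, 77, 78], [[0, 1, -1], [0, 1, 0], [-1, 2, -1]], [[2, 0, -2], [2, 0, 2], [-2, 4, -2]], [[2, 0, 2], [2, 2], [4]]⟩,
  ⟨[18520999423], [79], [[1]], [[4]], [[2]]⟩,
  ⟨[9125761791, 9394196991, 13152289791], [80, 81, 82], [[0, 1, -1], [0, 1, 0], [-1, 2, -1]], [[2, 0, -2], [2, 0, 2], [-2, 4, -2]], [[2, 0, 2], [2, 2], [4]]⟩,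
  ⟨[17715694335, 17984129535, 19594740735], [83, 84, 85], [[0, 1, -1], [0, 1, 0], [-1, 2, -1]], [[2, 0, -2], [2, 0, 2], [-2, 4, -2]], [[2, 0, 2], [2, 2], [4]]⟩,
  ⟨[34895562495, 35163997695, 35700868095], [86, 87, 88], [[0, 1, -1], [0, 1, 0], [-1, 2, -1]], [[2, 0, -2], [2, 0, 2], [-2, 4, -2]], [[2, 0, 2], [2, 2], [4]]⟩,
  ⟨[69523735551], [89], [[1]], [[4]], [[2]]⟩,
  ⟨[17715696127], [91], [[1]], [[4]], [[2]]⟩,
  ⟨[34895563263], [92], [[1]], [[4]], [[2]]⟩,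
  ⟨[69255300607], [93], [[1]], [[4]], [[2]]⟩,
  ⟨[137974776831], [94], [[1]], [[4]], [[2]]⟩]

/-- data -/
def Bp8s : List (Blk) := Bp8s_0 ++ (Bp8s_1)

theorem okBp8s : Bp8s.all (bChk false 8 false Vp8 X8 []) = true := by decide +kernel

theorem both_p8 : Both false 8 false :=
  both_of (bl := Bp8s) (dg := [2079328191, 3085962111, 3488615679, 5099229951, 9125765631]) (W := W4) tab8 inVp8 all2_4 okX8 okBp8s
    (by decide +kernel) (by decide +kernel)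

/-- data -/
def Bm8s_0 : List (Blk) := [
  ⟨[2142241791], [0], [[-1]], [[-4]], [[2]]⟩,
  ⟨[2138047999], [1], [[-1]], [[-4]], [[2]]⟩,
  ⟨[3211789311], [2], [[-1]], [[-4]], [[2]]⟩,
  ⟨[2129659647], [3], [[-1]], [[-4]], [[2]]⟩,
  ⟨[2683308015, 3203401215, 3740271615], [4, 5, 6], [[1, -1, 0], [0, -1, 0], [1, -2, 1]], [[2, 0, -2], [-2, 0, -2], [2, -4, 2]], [[2, 0, 2], [2, 2], [4]]⟩,
  ⟨[5350884351], [7], [[-1]], [[-4]], [[2]]⟩,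
  ⟨[2112882559], [8], [[-1]], [[-4]], [[2]]⟩,
  ⟨[2951743455, 3186624255, 3991929855], [9, 10, 11], [[1, -1, 0], [0, -1, 0], [1, -2, 1]], [[2, 0, -2], [-2, 0, -2], [2, -4, 2]], [[2, 0, 2], [2, 2], [4]]⟩,
  ⟨[3723494911], [12], [[-1]], [[-4]], [[2]]⟩,
  ⟨[3186625023], [13], [[-1]], [[-4]], [[2]]⟩,
  ⟨[4830791647, 5334107647, 5870978047], [14, 15, 16], [[1, -1, 0], [0, -1, 0], [1, -2, 1]], [[2, 0, -2], [-2, 0, -2], [2, -4, 2]], [[2, 0, 2], [2, 2], [4]]⟩,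
  ⟨[9629074431], [17], [[-1]], [[-4]], [[2]]⟩,
  ⟨[3085961151, 3153069951, 4092593151], [18, 19, 20], [[1, -1, 0], [0, -1, 0], [1, -2, 1]], [[2, 0, -2], [-2, 0, -2], [2, -4, 2]], [[2, 0, 2], [2, 2], [4]]⟩,
  ⟨[3488614335, 3689940735, 3958375935], [21, 22, 23], [[1, -1, 0], [0, -1, 0], [1, -2, 1]], [[2, 0, -2], [-2, 0, -2], [2, -4, 2]], [[2, 0, 2], [2, 2], [4]]⟩,
  ⟨[3153070847], [24], [[-1]], [[-4]], [[2]]⟩,
  ⟨[5099227071, 5300553471, 6105859071], [25, 26, 27], [[1, -1, 0], [0, -1, 0], [1, -2, 1]], [[2, 0, -2], [-2, 0, -2], [2, -4, 2]], [[2, 0, 2], [2, 2], [4]]⟩,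
  ⟨[3689941503], [28], [[-1]], [[-4]], [[2]]⟩,
  ⟨[5837424127], [29], [[-1]], [[-4]], [[2]]⟩,
  ⟨[4830792639, 5300554239, 6911165439], [30, 31, 32], [[1, -1, 0], [0, -1, 0], [1, -2, 1]], [[2, 0, -2], [-2, 0, -2], [2, -4, 2]], [[2, 0, 2], [2, 2], [4]]⟩,
  ⟨[9125758911, 9595520511, 10132390911], [33, 34, 35], [[1, -1, 0], [0, -1, 0], [1, -2, 1]], [[2, 0, -2], [-2, 0, -2], [2, -4, 2]], [[2, 0, 2], [2, 2], [4]]⟩,
  ⟨[18185454591], [36], [[-1]], [[-4]], [[2]]⟩,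
  ⟨[3891267327], [37], [[-1]], [[-4]], [[2]]⟩,
  ⟨[3488615295, 3622832895, 3891268095], [38, 39, 40], [[1, -1, 0], [0, -1, 0], [1, -2, 1]], [[2, 0, -2], [-2, 0, -2], [2, -4, 2]], [[2, 0, 2], [2, 2], [4]]⟩,
  ⟨[5636097919, 5770315519, 6038750719], [41, 42, 43], [[1, -1, 0], [0, -1, 0], [1, -2, 1]], [[2, 0, -2], [-2, 0, -2], [2, -4, 2]], [[2, 0, 2], [2, 2], [4]]⟩,
  ⟨[3622831999], [44], [[-1]], [[-4]], [[2]]⟩,
  ⟨[5099228031, 5233445631, 7112492031], [45, 46, 47], [[1, -1, 0], [0, -1, 0], [1, -2, 1]], [[2, 0, -2], [-2, 0, -2], [2, -4, 2]], [[2, 0, 2], [2, 2], [4]]⟩,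
  ⟨[9394194303, 9528411903, 10333717503], [48, 49, 50], [[1, -1, 0], [0, -1, 0], [1, -2, 1]], [[2, 0, -2], [-2, 0, -2], [2, -4, 2]], [[2, 0, 2], [2, 2], [4]]⟩,
  ⟨[5233444735], [51], [[-1]], [[-4]], [[2]]⟩,
  ⟨[4830793087, 5770316287, 6844057087], [52, 53, 54], [[1, -1, 0], [0, -1, 0], [1, -2, 1]], [[2, 0, -2], [-2, 0, -2], [2, -4, 2]], [[2, 0, 2], [2, 2], [4]]⟩,
  ⟨[10065282559], [55], [[-1]], [[-4]], [[2]]⟩,
  ⟨[5233447423], [56], [[-1]], [[-4]], [[2]]⟩,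
  ⟨[9125759871, 9528412671, 11139023871], [57, 58, 59], [[1, -1, 0], [0, -1, 0], [1, -2, 1]], [[2, 0, -2], [-2, 0, -2], [2, -4, 2]], [[2, 0, 2], [2, 2], [4]]⟩,
  ⟨[17715693439, 18118346239, 18655216639], [60, 61, 62], [[1, -1, 0], [0, -1, 0], [1, -2, 1]], [[2, 0, -2], [-2, 0, -2], [2, -4, 2]], [[2, 0, 2], [2, 2], [4]]⟩,
  ⟨[35298214911], [63], [[-1]], [[-4]], [[2]]⟩,
  ⟨[5099228415, 5636098815, 6709839615], [64, 65, 66], [[1, -1, 0], [0, -1, 0], [1, -2, 1]], [[2, 0, -2], [-2, 0, -2], [2, -4, 2]], [[2, 0, 2], [2, 2], [4]]⟩,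
  ⟨[9931065087], [67], [[-1]], [[-4]], [[2]]⟩,
  ⟨[6709840383], [68], [[-1]], [[-4]], [[2]]⟩,
  ⟨[5636100607], [69], [[-1]], [[-4]], [[2]]⟩,
  ⟨[9125760255, 9931065855, 11004806655], [70, 71, 72], [[1, -1, 0], [0, -1, 0], [1, -2, 1]], [[2, 0, -2], [-2, 0, -2], [2, -4, 2]], [[2, 0, 2], [2, 2], [4]]⟩,
  ⟨[18520999423], [73], [[-1]], [[-4]], [[2]]⟩]

/-- data -/
def Bm8s_1 : List (Blk) := [
  ⟨[9125761791, 9394196991, 13152289791], [74, 75, 76], [[1, -1, 0], [0, -1, 0], [1, -2, 1]], [[2, 0, -2], [-2, 0, -2], [2, -4, 2]], [[2, 0, 2], [2, 2], [4]]⟩,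
  ⟨[17715694335, 17984129535, 19594740735], [77, 78, 79], [[1, -1, 0], [0, -1, 0], [1, -2, 1]], [[2, 0, -2], [-2, 0, -2], [2, -4, 2]], [[2, 0, 2], [2, 2], [4]]⟩,
  ⟨[9394195199], [80], [[-1]], [[-4]], [[2]]⟩,
  ⟨[34895562495, 35163997695, 35700868095], [81, 82, 83], [[1, -1, 0], [0, -1, 0], [1, -2, 1]], [[2, 0, -2], [-2, 0, -2], [2, -4, 2]], [[2, 0, 2], [2, 2], [4]]⟩,
  ⟨[17984128767], [84], [[-1]], [[-4]], [[2]]⟩,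
  ⟨[69523735551], [85], [[-1]], [[-4]], [[2]]⟩,
  ⟨[17715696127], [86], [[-1]], [[-4]], [[2]]⟩,
  ⟨[34895563263], [87], [[-1]], [[-4]], [[2]]⟩,
  ⟨[69255300607], [88], [[-1]], [[-4]], [[2]]⟩,
  ⟨[137974776831], [89], [[-1]], [[-4]], [[2]]⟩]

/-- data -/
def Bm8s : List (Blk) := Bm8s_0 ++ (Bm8s_1)

theorem okBm8s : Bm8s.all (bChk false 8 true Vm8 X8 []) = true := by decide +kernel

theorem both_m8 : Both false 8 true :=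
  both_of (bl := Bm8s) (dg := [2079328191, 3085962111, 3488615679, 5099229951, 9125765631]) (W := []) tab8 inVm8 (all2_nil _) okX8 okBm8s
    (by decide +kernel) (by decide +kernel)

/-- data -/
def Bp9s_0 : List (Blk) := [
  ⟨[2144338943], [0], [[1]], [[4]], [[2]]⟩,
  ⟨[2142242303], [1], [[1]], [[4]], [[2]]⟩,
  ⟨[3215983615], [2], [[1]], [[4]], [[2]]⟩,
  ⟨[2138048255], [3], [[1]], [[4]], [[2]]⟩,
  ⟨[2683308023, 3211789823, 3748660223], [4, 5, 6], [[0, 1, -1], [0, 1, 0], [-1, 2, -1]], [[2, 0, -2], [2, 0, 2], [-2, 4, -2]], [[2, 0, 2], [2, 2], [4]]⟩,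
  ⟨[5359272959], [7], [[1]], [[4]], [[2]]⟩,
  ⟨[2129659775], [8], [[1]], [[4]], [[2]]⟩,
  ⟨[2951743471, 3203401471, 4008707071], [9, 10, 11], [[0, 1, -1], [0, 1, 0], [-1, 2, -1]], [[2, 0, -2], [2, 0, 2], [-2, 4, -2]], [[2, 0, 2], [2, 2], [4]]⟩,
  ⟨[3740272127], [12], [[1]], [[4]], [[2]]⟩,
  ⟨[3203402239], [13], [[1]], [[4]], [[2]]⟩,
  ⟨[4830791663, 5350884863, 5887755263], [14, 15, 16], [[0, 1, -1], [0, 1, 0], [-1, 2, -1]], [[2, 0, -2], [2, 0, 2], [-2, 4, -2]], [[2, 0, 2], [2, 2], [4]]⟩,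
  ⟨[9645851647], [17], [[1]], [[4]], [[2]]⟩,
  ⟨[2112882623], [18], [[1]], [[4]], [[2]]⟩,
  ⟨[3085961183, 3186624383, 4126147583], [19, 20, 21], [[0, 1, -1], [0, 1, 0], [-1, 2, -1]], [[2, 0, -2], [2, 0, 2], [-2, 4, -2]], [[2, 0, 2], [2, 2], [4]]⟩,
  ⟨[3488614367, 3723495167, 3991930367], [22, 23, 24], [[0, 1, -1], [0, 1, 0], [-1, 2, -1]], [[2, 0, -2], [2, 0, 2], [-2, 4, -2]], [[2, 0, 2], [2, 2], [4]]⟩,
  ⟨[3186625279], [25], [[1]], [[4]], [[2]]⟩,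
  ⟨[5099227103, 5334107903, 6139413503], [26, 27, 28], [[0, 1, -1], [0, 1, 0], [-1, 2, -1]], [[2, 0, -2], [2, 0, 2], [-2, 4, -2]], [[2, 0, 2], [2, 2], [4]]⟩,
  ⟨[3723495935], [29], [[1]], [[4]], [[2]]⟩,
  ⟨[5870978559], [30], [[1]], [[4]], [[2]]⟩,
  ⟨[4830792671, 5334108671, 6944719871], [31, 32, 33], [[0, 1, -1], [0, 1, 0], [-1, 2, -1]], [[2, 0, -2], [2, 0, 2], [-2, 4, -2]], [[2, 0, 2], [2, 2], [4]]⟩,
  ⟨[9125758943, 9629074943, 10165945343], [34, 35, 36], [[0, 1, -1], [0, 1, 0], [-1, 2, -1]], [[2, 0, -2], [2, 0, 2], [-2, 4, -2]], [[2, 0, 2], [2, 2], [4]]⟩,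
  ⟨[18219009023], [37], [[1]], [[4]], [[2]]⟩,
  ⟨[3153070015], [38], [[1]], [[4]], [[2]]⟩,
  ⟨[3622832063, 3689940863, 4092593663], [39, 40, 41], [[0, 1, -1], [0, 1, 0], [-1, 2, -1]], [[2, 0, -2], [2, 0, 2], [-2, 4, -2]], [[2, 0, 2], [2, 2], [4]]⟩,
  ⟨[3153070975], [42], [[1]], [[4]], [[2]]⟩,
  ⟨[5233444799, 5300553599, 6240076799], [43, 44, 45], [[0, 1, -1], [0, 1, 0], [-1, 2, -1]], [[2, 0, -2], [2, 0, 2], [-2, 4, -2]], [[2, 0, 2], [2, 2], [4]]⟩,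
  ⟨[3958376191], [46], [[1]], [[4]], [[2]]⟩,
  ⟨[3488615359, 3689941759, 3958376959], [47, 48, 49], [[0, 1, -1], [0, 1, 0], [-1, 2, -1]], [[2, 0, -2], [2, 0, 2], [-2, 4, -2]], [[2, 0, 2], [2, 2], [4]]⟩,
  ⟨[5636097983, 5837424383, 6105859583], [50, 51, 52], [[0, 1, -1], [0, 1, 0], [-1, 2, -1]], [[2, 0, -2], [2, 0, 2], [-2, 4, -2]], [[2, 0, 2], [2, 2], [4]]⟩,
  ⟨[5099228095, 5300554495, 7179600895], [53, 54, 55], [[0, 1, -1], [0, 1, 0], [-1, 2, -1]], [[2, 0, -2], [2, 0, 2], [-2, 4, -2]], [[2, 0, 2], [2, 2], [4]]⟩,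
  ⟨[9394194367, 9595520767, 10400826367], [56, 57, 58], [[0, 1, -1], [0, 1, 0], [-1, 2, -1]], [[2, 0, -2], [2, 0, 2], [-2, 4, -2]], [[2, 0, 2], [2, 2], [4]]⟩,
  ⟨[4830793151, 5837425151, 6911165951], [59, 60, 61], [[0, 1, -1], [0, 1, 0], [-1, 2, -1]], [[2, 0, -2], [2, 0, 2], [-2, 4, -2]], [[2, 0, 2], [2, 2], [4]]⟩,
  ⟨[10132391423], [62], [[1]], [[4]], [[2]]⟩,
  ⟨[5300556287], [63], [[1]], [[4]], [[2]]⟩,
  ⟨[9125759935, 9595521535, 11206132735], [64, 65, 66], [[0, 1, -1], [0, 1, 0], [-1, 2, -1]], [[2, 0, -2], [2, 0, 2], [-2, 4, -2]], [[2, 0, 2], [2, 2], [4]]⟩,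
  ⟨[17715693503, 18185455103, 18722325503], [67, 68, 69], [[0, 1, -1], [0, 1, 0], [-1, 2, -1]], [[2, 0, -2], [2, 0, 2], [-2, 4, -2]], [[2, 0, 2], [2, 2], [4]]⟩,
  ⟨[35365323775], [70], [[1]], [[4]], [[2]]⟩,
  ⟨[3891267455], [71], [[1]], [[4]], [[2]]⟩,
  ⟨[3622833023], [72], [[1]], [[4]], [[2]]⟩,
  ⟨[5770315647], [73], [[1]], [[4]], [[2]]⟩]

/-- data -/
def Bp9s_1 : List (Blk) := [
  ⟨[5233445759], [74], [[1]], [[4]], [[2]]⟩,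
  ⟨[9528412031], [75], [[1]], [[4]], [[2]]⟩,
  ⟨[3891268351], [76], [[1]], [[4]], [[2]]⟩,
  ⟨[6038750975], [77], [[1]], [[4]], [[2]]⟩,
  ⟨[3622833407], [78], [[1]], [[4]], [[2]]⟩,
  ⟨[9931065215, 10065282815, 10333718015], [89, 90, 91], [[0, 1, -1], [0, 1, 0], [-1, 2, -1]], [[2, 0, -2], [2, 0, 2], [-2, 4, -2]], [[2, 0, 2], [2, 2], [4]]⟩,
  ⟨[5233447679], [92], [[1]], [[4]], [[2]]⟩,
  ⟨[9394195327, 9528412927, 11407459327], [93, 94, 95], [[0, 1, -1], [0, 1, 0], [-1, 2, -1]], [[2, 0, -2], [2, 0, 2], [-2, 4, -2]], [[2, 0, 2], [2, 2], [4]]⟩,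
  ⟨[17984128895, 18118346495, 18923652095], [96, 97, 98], [[0, 1, -1], [0, 1, 0], [-1, 2, -1]], [[2, 0, -2], [2, 0, 2], [-2, 4, -2]], [[2, 0, 2], [2, 2], [4]]⟩,
  ⟨[6844058111], [99], [[1]], [[4]], [[2]]⟩,
  ⟨[5770318335], [100], [[1]], [[4]], [[2]]⟩,
  ⟨[9125760383, 10065283583, 11139024383], [101, 102, 103], [[0, 1, -1], [0, 1, 0], [-1, 2, -1]], [[2, 0, -2], [2, 0, 2], [-2, 4, -2]], [[2, 0, 2], [2, 2], [4]]⟩,
  ⟨[18655217151], [104], [[1]], [[4]], [[2]]⟩,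
  ⟨[9125761919, 9528414719, 13286507519], [105, 106, 107], [[0, 1, -1], [0, 1, 0], [-1, 2, -1]], [[2, 0, -2], [2, 0, 2], [-2, 4, -2]], [[2, 0, 2], [2, 2], [4]]⟩,
  ⟨[17715694463, 18118347263, 19728958463], [108, 109, 110], [[0, 1, -1], [0, 1, 0], [-1, 2, -1]], [[2, 0, -2], [2, 0, 2], [-2, 4, -2]], [[2, 0, 2], [2, 2], [4]]⟩,
  ⟨[34895562623, 35298215423, 35835085823], [111, 112, 113], [[0, 1, -1], [0, 1, 0], [-1, 2, -1]], [[2, 0, -2], [2, 0, 2], [-2, 4, -2]], [[2, 0, 2], [2, 2], [4]]⟩,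
  ⟨[69657953279], [114], [[1]], [[4]], [[2]]⟩,
  ⟨[5636099327], [115], [[1]], [[4]], [[2]]⟩,
  ⟨[6709840639], [116], [[1]], [[4]], [[2]]⟩,
  ⟨[5636100863], [117], [[1]], [[4]], [[2]]⟩,
  ⟨[9394195711, 9931066111, 11004806911], [118, 119, 120], [[0, 1, -1], [0, 1, 0], [-1, 2, -1]], [[2, 0, -2], [2, 0, 2], [-2, 4, -2]], [[2, 0, 2], [2, 2], [4]]⟩,
  ⟨[18520999679], [121], [[1]], [[4]], [[2]]⟩,
  ⟨[9394197247], [122], [[1]], [[4]], [[2]]⟩,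
  ⟨[17984129791], [123], [[1]], [[4]], [[2]]⟩,
  ⟨[35163997951], [124], [[1]], [[4]], [[2]]⟩,
  ⟨[6709842431], [125], [[1]], [[4]], [[2]]⟩,
  ⟨[11004807679], [126], [[1]], [[4]], [[2]]⟩,
  ⟨[9125762303, 9931067903, 13152290303], [127, 128, 129], [[0, 1, -1], [0, 1, 0], [-1, 2, -1]], [[2, 0, -2], [2, 0, 2], [-2, 4, -2]], [[2, 0, 2], [2, 2], [4]]⟩,
  ⟨[17715694847, 18521000447, 19594741247], [130, 131, 132], [[0, 1, -1], [0, 1, 0], [-1, 2, -1]], [[2, 0, -2], [2, 0, 2], [-2, 4, -2]], [[2, 0, 2], [2, 2], [4]]⟩,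
  ⟨[35700868607], [133], [[1]], [[4]], [[2]]⟩,
  ⟨[9394201087], [134], [[1]], [[4]], [[2]]⟩,
  ⟨[17715696383, 17984131583, 21742224383], [135, 136, 137], [[0, 1, -1], [0, 1, 0], [-1, 2, -1]], [[2, 0, -2], [2, 0, 2], [-2, 4, -2]], [[2, 0, 2], [2, 2], [4]]⟩,
  ⟨[34895563519, 35163998719, 36774609919], [138, 139, 140], [[0, 1, -1], [0, 1, 0], [-1, 2, -1]], [[2, 0, -2], [2, 0, 2], [-2, 4, -2]], [[2, 0, 2], [2, 2], [4]]⟩,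
  ⟨[69255300863, 69523736063, 70060606463], [141, 142, 143], [[0, 1, -1], [0, 1, 0], [-1, 2, -1]], [[2, 0, -2], [2, 0, 2], [-2, 4, -2]], [[2, 0, 2], [2, 2], [4]]⟩,
  ⟨[138243212287], [144], [[1]], [[4]], [[2]]⟩,
  ⟨[17715700223], [145], [[1]], [[4]], [[2]]⟩,
  ⟨[34895565311], [146], [[1]], [[4]], [[2]]⟩,
  ⟨[69255301631], [147], [[1]], [[4]], [[2]]⟩,
  ⟨[137974777343], [148], [[1]], [[4]], [[2]]⟩,
  ⟨[275413730303], [149], [[1]], [[4]], [[2]]⟩]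

/-- data -/
def Bp9s : List (Blk) := Bp9s_0 ++ (Bp9s_1)

/-- data -/
def Bp9t0 : List (Blk) := [
  ⟨[6844057343, 7112492543, 6709839743, 7649362943, 6038751743, 4830793343, 5233446143, 5099228543, 5636098943, 5770316543], [79, 80, 81, 82, 83, 84, 85, 86, 87, 88], [[-1, 1, -1, 1, -1, 1, 1, -1, 0, 0], [0, 0, 0, 0, 0, 0, 1, -1, 0, 0], [-1, 1, 0, 1, -1, 0, 1, 0, 0, 0], [-1, 1, 0, 1, -2, 1, 2, -1, 1, 0], [0, 1, 0, 0, 0, 0, 0, 0, 0, 0], [0, 1, 0, 0, 0, 0, 0, 1, -1, 1], [1, 0, 0, 0, 0, 0, 0, 0, 0, 0], [1, 0, 1, 0, 0, 0, 0, 0, 0, 0], [1, 0, 0, 0, 0, 0, 0, 0, 0, 1], [1, 0, 1, 0, 0, 0, 0, 1, 0, 1]], [[-1, 0, -1, 2, 0, 2, 0, -1, 0, -1], [1, -2, 1, -2, 4, -2, 0, 1, -2, 1], [-1, 0, 1, 2, 0, -2, 0, 1, 0, -1], [-3, 2, -1, 2, -4, 2, 4, -3, 2, -1], [-1, 2, -1, 0, 0, 0, 0, -1, 2, -1], [-1, 2, -1, 0, 0, 0, 0, 1, -2, 1], [1, 0, -1, 0, 0, 0,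 0, 1, 0, -1], [1, 0, 1, 0, 0, 0, 0, -1, 0, -1], [1, 0, -1, 0, 0, 0, 0, -1, 0, 1], [1, 0, 1, 0, 0, 0, 0, 1, 0, 1]], [[2, 0, 0, 2, 0, 2, 0, 0, 2, 0], [2, 0, 2, 0, 0, 0, 2, 2, 0], [2, 2, 0, 2, 0, 0, 0, 2], [4, 0, 0, 0, 0, 0, 4], [2, 2, 0, 2, 0, 2], [4, 0, 0, 0, 4], [2, 2, 2, 2], [4, 0, 4], [4, 4], [8]]⟩]

theorem okBp9s : Bp9s.all (bChk false 9 false Vp9 X9 []) = true := by decide +kernel

theorem okBp9t0 : Bp9t0.all (bChk false 9 false Vp9 X9 []) = true := by decide +kernel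

theorem both_p9 : Both false 9 false :=
  both_of (bl := Bp9s ++ (Bp9t0)) (dg := []) (W := []) tab9 inVp9 (all2_nil _) okX9 (all_app okBp9s okBp9t0)
    (by decide +kernel) (by decide +kernel)

/-- data -/
def Bm9s_0 : List (Blk) := [
  ⟨[2144338943], [0], [[-1]], [[-4]], [[2]]⟩,
  ⟨[2142242303], [1], [[-1]], [[-4]], [[2]]⟩,
  ⟨[3215983615], [2], [[-1]], [[-4]], [[2]]⟩,
  ⟨[2138048255], [3], [[-1]], [[-4]], [[2]]⟩,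
  ⟨[2683308023, 3211789823, 3748660223], [4, 5, 6], [[1, -1, 0], [0, -1, 0], [1, -2, 1]], [[2, 0, -2], [-2, 0, -2], [2, -4, 2]], [[2, 0, 2], [2, 2], [4]]⟩,
  ⟨[5359272959], [7], [[-1]], [[-4]], [[2]]⟩,
  ⟨[2129659775], [8], [[-1]], [[-4]], [[2]]⟩,
  ⟨[2951743471, 3203401471, 4008707071], [9, 10, 11], [[1, -1, 0], [0, -1, 0], [1, -2, 1]], [[2, 0, -2], [-2, 0, -2], [2, -4, 2]], [[2, 0, 2], [2, 2], [4]]⟩,
  ⟨[3740272127], [12], [[-1]], [[-4]], [[2]]⟩,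
  ⟨[3203402239], [13], [[-1]], [[-4]], [[2]]⟩,
  ⟨[4830791663, 5350884863, 5887755263], [14, 15, 16], [[1, -1, 0], [0, -1, 0], [1, -2, 1]], [[2, 0, -2], [-2, 0, -2], [2, -4, 2]], [[2, 0, 2], [2, 2], [4]]⟩,
  ⟨[9645851647], [17], [[-1]], [[-4]], [[2]]⟩,
  ⟨[2112882623], [18], [[-1]], [[-4]], [[2]]⟩,
  ⟨[3085961183, 3186624383, 4126147583], [19, 20, 21], [[1, -1, 0], [0, -1, 0], [1, -2, 1]], [[2, 0, -2], [-2, 0, -2], [2, -4, 2]], [[2, 0, 2], [2, 2], [4]]⟩,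
  ⟨[3488614367, 3723495167, 3991930367], [22, 23, 24], [[1, -1, 0], [0, -1, 0], [1, -2, 1]], [[2, 0, -2], [-2, 0, -2], [2, -4, 2]], [[2, 0, 2], [2, 2], [4]]⟩,
  ⟨[3186625279], [25], [[-1]], [[-4]], [[2]]⟩,
  ⟨[5099227103, 5334107903, 6139413503], [26, 27, 28], [[1, -1, 0], [0, -1, 0], [1, -2, 1]], [[2, 0, -2], [-2, 0, -2], [2, -4, 2]], [[2, 0, 2], [2, 2], [4]]⟩,
  ⟨[3723495935], [29], [[-1]], [[-4]], [[2]]⟩,
  ⟨[5870978559], [30], [[-1]], [[-4]], [[2]]⟩,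
  ⟨[4830792671, 5334108671, 6944719871], [31, 32, 33], [[1, -1, 0], [0, -1, 0], [1, -2, 1]], [[2, 0, -2], [-2, 0, -2], [2, -4, 2]], [[2, 0, 2], [2, 2], [4]]⟩,
  ⟨[9125758943, 9629074943, 10165945343], [34, 35, 36], [[1, -1, 0], [0, -1, 0], [1, -2, 1]], [[2, 0, -2], [-2, 0, -2], [2, -4, 2]], [[2, 0, 2], [2, 2], [4]]⟩,
  ⟨[18219009023], [37], [[-1]], [[-4]], [[2]]⟩,
  ⟨[3622832063, 3689940863, 4092593663], [38, 39, 40], [[1, -1, 0], [0, -1, 0], [1, -2, 1]], [[2, 0, -2], [-2, 0, -2], [2, -4, 2]], [[2, 0, 2], [2, 2], [4]]⟩,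
  ⟨[3153070975], [41], [[-1]], [[-4]], [[2]]⟩,
  ⟨[5233444799, 5300553599, 6240076799], [42, 43, 44], [[1, -1, 0], [0, -1, 0], [1, -2, 1]], [[2, 0, -2], [-2, 0, -2], [2, -4, 2]], [[2, 0, 2], [2, 2], [4]]⟩,
  ⟨[3153070015], [45], [[-1]], [[-4]], [[2]]⟩,
  ⟨[3958376191], [46], [[-1]], [[-4]], [[2]]⟩,
  ⟨[3488615359, 3689941759, 3958376959], [47, 48, 49], [[1, -1, 0], [0, -1, 0], [1, -2, 1]], [[2, 0, -2], [-2, 0, -2], [2, -4, 2]], [[2, 0, 2], [2, 2], [4]]⟩,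
  ⟨[5636097983, 5837424383, 6105859583], [50, 51, 52], [[1, -1, 0], [0, -1, 0], [1, -2, 1]], [[2, 0, -2], [-2, 0, -2], [2, -4, 2]], [[2, 0, 2], [2, 2], [4]]⟩,
  ⟨[5099228095, 5300554495, 7179600895], [53, 54, 55], [[1, -1, 0], [0, -1, 0], [1, -2, 1]], [[2, 0, -2], [-2, 0, -2], [2, -4, 2]], [[2, 0, 2], [2, 2], [4]]⟩,
  ⟨[9394194367, 9595520767, 10400826367], [56, 57, 58], [[1, -1, 0], [0, -1, 0], [1, -2, 1]], [[2, 0, -2], [-2, 0, -2], [2, -4, 2]], [[2, 0, 2], [2, 2], [4]]⟩,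
  ⟨[4830793151, 5837425151, 6911165951], [59, 60, 61], [[1, -1, 0], [0, -1, 0], [1, -2, 1]], [[2, 0, -2], [-2, 0, -2], [2, -4, 2]], [[2, 0, 2], [2, 2], [4]]⟩,
  ⟨[10132391423], [62], [[-1]], [[-4]], [[2]]⟩,
  ⟨[5300556287], [63], [[-1]], [[-4]], [[2]]⟩,
  ⟨[9125759935, 9595521535, 11206132735], [64, 65, 66], [[1, -1, 0], [0, -1, 0], [1, -2, 1]], [[2, 0, -2], [-2, 0, -2], [2, -4, 2]], [[2, 0, 2], [2, 2], [4]]⟩,
  ⟨[17715693503, 18185455103, 18722325503], [67, 68, 69], [[1, -1, 0], [0, -1, 0], [1, -2, 1]], [[2, 0, -2], [-2, 0, -2], [2, -4, 2]], [[2, 0, 2], [2, 2], [4]]⟩,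
  ⟨[35365323775], [70], [[-1]], [[-4]], [[2]]⟩,
  ⟨[3891267455], [71], [[-1]], [[-4]], [[2]]⟩,
  ⟨[3891268351], [72], [[-1]], [[-4]], [[2]]⟩,
  ⟨[6038750975], [73], [[-1]], [[-4]], [[2]]⟩]

/-- data -/
def Bm9s_1 : List (Blk) := [
  ⟨[3622833407], [74], [[-1]], [[-4]], [[2]]⟩,
  ⟨[3622833023], [85], [[-1]], [[-4]], [[2]]⟩,
  ⟨[9931065215, 10065282815, 10333718015], [86, 87, 88], [[1, -1, 0], [0, -1, 0], [1, -2, 1]], [[2, 0, -2], [-2, 0, -2], [2, -4, 2]], [[2, 0, 2], [2, 2], [4]]⟩,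
  ⟨[5770315647], [89], [[-1]], [[-4]], [[2]]⟩,
  ⟨[5233447679], [90], [[-1]], [[-4]], [[2]]⟩,
  ⟨[9394195327, 9528412927, 11407459327], [91, 92, 93], [[1, -1, 0], [0, -1, 0], [1, -2, 1]], [[2, 0, -2], [-2, 0, -2], [2, -4, 2]], [[2, 0, 2], [2, 2], [4]]⟩,
  ⟨[5233445759], [94], [[-1]], [[-4]], [[2]]⟩,
  ⟨[17984128895, 18118346495, 18923652095], [95, 96, 97], [[1, -1, 0], [0, -1, 0], [1, -2, 1]], [[2, 0, -2], [-2, 0, -2], [2, -4, 2]], [[2, 0, 2], [2, 2], [4]]⟩,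
  ⟨[9528412031], [98], [[-1]], [[-4]], [[2]]⟩,
  ⟨[6844058111], [99], [[-1]], [[-4]], [[2]]⟩,
  ⟨[5770318335], [100], [[-1]], [[-4]], [[2]]⟩,
  ⟨[9125760383, 10065283583, 11139024383], [101, 102, 103], [[1, -1, 0], [0, -1, 0], [1, -2, 1]], [[2, 0, -2], [-2, 0, -2], [2, -4, 2]], [[2, 0, 2], [2, 2], [4]]⟩,
  ⟨[18655217151], [104], [[-1]], [[-4]], [[2]]⟩,
  ⟨[9125761919, 9528414719, 13286507519], [105, 106, 107], [[1, -1, 0], [0, -1, 0], [1, -2, 1]], [[2, 0, -2], [-2, 0, -2], [2, -4, 2]], [[2, 0, 2], [2, 2], [4]]⟩,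
  ⟨[17715694463, 18118347263, 19728958463], [108, 109, 110], [[1, -1, 0], [0, -1, 0], [1, -2, 1]], [[2, 0, -2], [-2, 0, -2], [2, -4, 2]], [[2, 0, 2], [2, 2], [4]]⟩,
  ⟨[34895562623, 35298215423, 35835085823], [111, 112, 113], [[1, -1, 0], [0, -1, 0], [1, -2, 1]], [[2, 0, -2], [-2, 0, -2], [2, -4, 2]], [[2, 0, 2], [2, 2], [4]]⟩,
  ⟨[69657953279], [114], [[-1]], [[-4]], [[2]]⟩,
  ⟨[6709840639], [115], [[-1]], [[-4]], [[2]]⟩,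
  ⟨[5636100863], [116], [[-1]], [[-4]], [[2]]⟩,
  ⟨[9394195711, 9931066111, 11004806911], [117, 118, 119], [[1, -1, 0], [0, -1, 0], [1, -2, 1]], [[2, 0, -2], [-2, 0, -2], [2, -4, 2]], [[2, 0, 2], [2, 2], [4]]⟩,
  ⟨[5636099327], [120], [[-1]], [[-4]], [[2]]⟩,
  ⟨[18520999679], [121], [[-1]], [[-4]], [[2]]⟩,
  ⟨[6709842431], [122], [[-1]], [[-4]], [[2]]⟩,
  ⟨[11004807679], [123], [[-1]], [[-4]], [[2]]⟩,
  ⟨[9125762303, 9931067903, 13152290303], [124, 125, 126], [[1, -1, 0], [0, -1, 0], [1, -2, 1]], [[2, 0, -2], [-2, 0, -2], [2, -4, 2]], [[2, 0, 2], [2, 2], [4]]⟩,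
  ⟨[17715694847, 18521000447, 19594741247], [127, 128, 129], [[1, -1, 0], [0, -1, 0], [1, -2, 1]], [[2, 0, -2], [-2, 0, -2], [2, -4, 2]], [[2, 0, 2], [2, 2], [4]]⟩,
  ⟨[35700868607], [130], [[-1]], [[-4]], [[2]]⟩,
  ⟨[9394201087], [131], [[-1]], [[-4]], [[2]]⟩,
  ⟨[17715696383, 17984131583, 21742224383], [132, 133, 134], [[1, -1, 0], [0, -1, 0], [1, -2, 1]], [[2, 0, -2], [-2, 0, -2], [2, -4, 2]], [[2, 0, 2], [2, 2], [4]]⟩,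
  ⟨[9394197247], [135], [[-1]], [[-4]], [[2]]⟩,
  ⟨[34895563519, 35163998719, 36774609919], [136, 137, 138], [[1, -1, 0], [0, -1, 0], [1, -2, 1]], [[2, 0, -2], [-2, 0, -2], [2, -4, 2]], [[2, 0, 2], [2, 2], [4]]⟩,
  ⟨[17984129791], [139], [[-1]], [[-4]], [[2]]⟩,
  ⟨[69255300863, 69523736063, 70060606463], [140, 141, 142], [[1, -1, 0], [0, -1, 0], [1, -2, 1]], [[2, 0, -2], [-2, 0, -2], [2, -4, 2]], [[2, 0, 2], [2, 2], [4]]⟩,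
  ⟨[35163997951], [143], [[-1]], [[-4]], [[2]]⟩,
  ⟨[138243212287], [144], [[-1]], [[-4]], [[2]]⟩,
  ⟨[17715700223], [145], [[-1]], [[-4]], [[2]]⟩,
  ⟨[34895565311], [146], [[-1]], [[-4]], [[2]]⟩,
  ⟨[69255301631], [147], [[-1]], [[-4]], [[2]]⟩,
  ⟨[137974777343], [148], [[-1]], [[-4]], [[2]]⟩,
  ⟨[275413730303], [149], [[-1]], [[-4]], [[2]]⟩]

/-- data -/
def Bm9s : List (Blk) := Bm9s_0 ++ (Bm9s_1)

/-- data -/
def Bm9t0 : List (Blk) := [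
  ⟨[6844057343, 7112492543, 6709839743, 7649362943, 6038751743, 4830793343, 5233446143, 5099228543, 5636098943, 5770316543], [75, 76, 77, 78, 79, 80, 81, 82, 83, 84], [[1, 0, 0, -1, 1, -1, -1, 1, -1, 1], [1, 0, 0, 0, 0, 0, -1, 0, 0, 0], [0, 0, 0, 0, 1, -1, -1, 1, -1, 0], [1, -1, 0, -1, 2, -1, -2, 1, -1, 0], [0, 0, 0, 0, 0, 0, 0, 0, -1, 0], [-1, 1, -1, 0, 0, 0, 0, 0, -1, 0], [0, 0, 0, 0, 0, 0, 0, -1, 0, 0], [0, 0, 0, 0, 0, 0, 0, -1, 0, -1], [0, 0, -1, 0, 0, 0, 0, -1, 0, 0], [-1, 0, -1, 0, 0, 0, 0, -1, 0, -1]], [[1, 0, 1, -2, 0, -2, 0, 1, 0, 1], [-1, 2, -1, 2, -4, 2, 0, -1, 2, -1], [-1, 0, 1, 2, 0, -2, 0, 1, 0, -1], [3, -2, 1, -2, 4, -2, -4, 3, -2, 1], [1, -2, 1, 0, 0, 0, 0, 1, -2, 1], [-1, 2, -1, 0, 0, 0, 0, 1, -2, 1], [-1, 0, 1, 0, 0, 0, 0, -1, 0, 1], [1, 0, 1, 0, 0, 0, 0, -1, 0, -1], [1, 0, -1, 0, 0, 0, 0, -1, 0, 1], [-1,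 0, -1, 0, 0, 0, 0, -1, 0, -1]], [[2, 0, 0, 2, 0, 2, 0, 0, 2, 0], [2, 0, 2, 0, 0, 0, 2, 2, 0], [2, 2, 0, 2, 0, 0, 0, 2], [4, 0, 0, 0, 0, 0, 4], [2, 2, 0, 2, 0, 2], [4, 0, 0, 0, 4], [2, 2, 2, 2], [4, 0, 4], [4, 4], [8]]⟩]

theorem okBm9s : Bm9s.all (bChk false 9 true Vm9 X9 []) = true := by decide +kernel

theorem okBm9t0 : Bm9t0.all (bChk false 9 true Vm9 X9 []) = true := by decide +kernel

theorem both_m9 : Both false 9 true :=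
  both_of (bl := Bm9s ++ (Bm9t0)) (dg := []) (W := []) tab9 inVm9 (all2_nil _) okX9 (all_app okBm9s okBm9t0)
    (by decide +kernel) (by decide +kernel)


end Cfsg.Agent.LV.Cl.Cert
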