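import Cfsg.Agent.LV.Cl.Avg
import Cfsg.Agent.LV.Cl.Em

/-!
# LV, classical groups: the integrality along the chains (helper8)

`ChA.Ok E` collects the facts on the embedding; `ChA.dual_of_rep`, `ChA.dual2_of`.
-/

set_option autoImplicit false
set_option linter.unusedSectionVars false
set_option linter.dupNamespace false

namespace Cfsg.Agent.LV.Cl

open Equiv Finset CoxeterSystem Cfsg.Agent.Tits.Exchange Cfsg.Agent.Tits.Core

namespace ChA

section sg

variable {n : ℕ}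

theorem tt_π (j : Fin n) : (tt j).π = 1 := rfl

theorem tt_s (j x : Fin n) : (tt j).s x = if x = j then -1 else 1 := rfl

theorem sw_π (x y : Fin n) (e : ℤˣ) : (sw x y e).π = swap x y := rfl

theorem sw_s (x y : Fin n) (e : ℤˣ) (z : Fin n) : (sw x y e).s z = if z = x ∨ z = y then e else 1 := rfl

theorem tt_mul_tt (j : Fin n) : tt j * tt j = 1 := SG.ext (mul_one _) (funext fun _ => Int.units_mul_self _)

theorem tt_comm (i j : Fin n) : tt i * tt j = tt j * tt i := SG.ext rfl (funext fun _ => mul_comm _ _)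

theorem sgn_apply (g : SG n) : sgn g = ∏ j, g.s j := rfl

theorem sgn_sw {x y : Fin n} (h : x ≠ y) (e : ℤˣ) : sgn (sw x y e) = 1 := by
  rw [sgn_apply, ← prod_subset (f := (sw x y e).s) (subset_univ {x, y}) fun z _ hz => if_neg (by simpa using hz), prod_pair h]
  simp [sw_s]

theorem conj_sw (j : Fin n) {x y : Fin n} (h : x ≠ y) (e : ℤˣ) : ∃ e', tt j * sw x y e * tt j = sw x y e' := by
  refine ⟨if j = x ∨ j = y then -e else e, SG.ext (by simp [tt_π, sw_π]) (funext fun z => ?_)⟩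
  simp only [mul_s, tt_π, sw_π, tt_s, sw_s, Perm.one_apply, swap_apply_def]
  by_cases h1 : z = x <;> by_cases h2 : z = y <;> by_cases h3 : j = x <;> by_cases h4 : j = y <;> by_cases h5 : z = j <;>
    simp_all [eq_comm]

theorem sw_inj {x y x' y' : Fin n} {e e' : ℤˣ} (h : x < y) (h' : x' < y') (H : sw x y e = sw x' y' e') :
    x = x' ∧ y = y' ∧ e = e' := by
  have h1 : swap x y x = swap x' y' x := congrArg (fun g : SG n => g.π x) H
  have h2 : (sw x y e).s x = (sw x' y' e').s x := by rw [H]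
  rw [swap_apply_left, swap_apply_def] at h1
  rw [sw_s, sw_s, if_pos (.inl rfl)] at h2
  split_ifs at h1 with h3 h4
  · exact ⟨h3, h1, by rwa [if_pos (.inl h3)] at h2⟩
  · exact absurd (h4 ▸ h1 ▸ h') h.not_gt
  · exact absurd h1 h.ne'

theorem sw_ne_tt {x y z : Fin n} {e : ℤˣ} (h : x < y) : sw x y e ≠ tt z := fun H => by
  have h1 : swap x y x = x := congrArg (fun g : SG n => g.π x) H
  rw [swap_apply_left] at h1
  exact h.ne' h1

theorem tt_inj {x y : Fin n} (H : tt x = tt y) : x = y := by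
  have h1 : (tt x).s x = (tt y).s x := by rw [H]
  rw [tt_s, tt_s, if_pos rfl] at h1
  by_contra h
  rw [if_neg h] at h1
  exact absurd h1 (by decide)

theorem stab_mul {T : Finset (Fin n)} {h g : SG n} (hh : h ∈ On T) (hg : Stab T g.π) : Stab T (h * g).π := fun x => by
  rw [mul_π, Perm.mul_apply, ← hg x]
  refine ⟨fun h1 => by_contra fun h2 => h2 ((hh _ h2).1 ▸ h1), fun h1 => by_contra fun h2 => h2 ?_⟩
  rwa [← h.π.injective (hh _ h2).1] at h1

theorem conj_On {T : Finset (Fin n)} {h g : SG n} (hh : h ∈ On T) (hg : Stab T g.π) : g * h * g⁻¹ ∈ On T := fun j hj => by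
  have h1 : g.π⁻¹ j ∉ T := fun h2 => hj (by simpa using (hg _).2 h2)
  rw [mul_π, mul_π, mul_s, mul_s, inv_π, inv_s, Perm.mul_apply, Perm.mul_apply, (hh _ h1).1, (hh _ h1).2, mul_one,
    Int.units_mul_self]
  exact ⟨by simp, rfl⟩

/-- elements with disjoint supports commute -/
theorem comm_On {T : Finset (Fin n)} {h g : SG n} (hh : h ∈ On T) (hg : g ∈ On Tᶜ) : h * g = g * h := by
  have h1 := stab_mul hh (g := 1) fun _ => Iff.rfl
  have h2 := stab_mul hg (g := 1) fun _ => Iff.rfl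
  rw [mul_one] at h1 h2
  have h3 : ∀ j, (h * g).π j = (g * h).π j ∧ (h * g).s j = (g * h).s j := fun j => by
    simp only [mul_π, mul_s, Perm.mul_apply]
    by_cases hj : j ∈ T
    · have h4 := hg j (by simpa using hj)
      have h5 := hg (h.π j) (by simpa using (h1 j).2 hj)
      rw [h4.1, h4.2, h5.1, h5.2, mul_one, one_mul]
      exact ⟨rfl, rfl⟩
    · have h4 := hh j hj
      have h5 := hh (g.π j) (by simpa using (h2 j).2 (by simpa using hj))
      rw [h4.1, h4.2, h5.1, h5.2, mul_one, one_mul]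
      exact ⟨rfl, rfl⟩
  exact SG.ext (Equiv.ext fun j => (h3 j).1) (funext fun j => (h3 j).2)

theorem tt_comm_of {g : SG n} {j : Fin n} (h : g.π j = j) : tt j * g * tt j = g := by
  refine SG.ext (by simp [tt_π]) (funext fun z => ?_)
  simp only [mul_s, tt_π, tt_s, Perm.one_apply]
  by_cases h1 : z = j
  · simp [h1, h]
  · rw [if_neg h1, if_neg fun h2 => h1 (g.π.injective (h2.trans h.symm)), one_mul, mul_one]

/-- the restriction to `T` is made diagonal -/
theorem exists_diag {T : Finset (Fin n)} {g : SG n} (hg : Stab T g.π) (δ : Fin n → ℤˣ) :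
    ∃ h ∈ On T, sgn h = (∏ j ∈ T, δ j) * ∏ j ∈ T, g.s j ∧ ∀ j ∈ T, (h * g).π j = j ∧ (h * g).s j = δ j := by
  have hg' : ∀ x, g.π⁻¹ x ∈ T ↔ x ∈ T := fun x => by rw [← hg]; simp
  refine ⟨⟨Perm.ofSubtype ((g.π⁻¹).subtypePerm hg'), fun j => if j ∈ T then δ (g.π⁻¹ j) * g.s (g.π⁻¹ j) else 1⟩,
    fun j hj => ⟨Perm.ofSubtype_apply_of_not_mem _ hj, if_neg hj⟩, ?_, fun j hj => ⟨?_, ?_⟩⟩
  · rw [sgn_apply, ← prod_mul_distrib]
    simp only [prod_ite_mem, univ_inter]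
    exact prod_equiv (g.π⁻¹ : Perm (Fin n)) (fun x => (hg' x).symm) fun _ _ => rfl
  · rw [mul_π, Perm.mul_apply, Perm.ofSubtype_subtypePerm_of_mem hg' ((hg j).2 hj)]
    simp
  · simp [(hg j).2 hj, mul_assoc]

theorem mem_cyc {π : Perm (Fin n)} {x y : Fin n} : y ∈ cyc π x ↔ π.SameCycle x y :=
  mem_filter.trans (and_iff_right (mem_univ _))

theorem cyc_fix {π : Perm (Fin n)} {x : Fin n} (h : π x = x) : cyc π x = {x} := by
  ext y
  simp only [mem_cyc, mem_singleton]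
  exact ⟨fun h1 => (h1.eq_of_left h).symm, fun h1 => h1 ▸ Perm.SameCycle.refl _ _⟩

theorem cyc_two {π : Perm (Fin n)} {x y : Fin n} (h : π x = y) (h' : π y = x) : cyc π x = {x, y} := by
  ext z
  simp only [mem_cyc, mem_insert, mem_singleton]
  refine ⟨fun h1 => ?_, ?_⟩
  · obtain ⟨m, rfl⟩ := h1.exists_nat_pow_eq
    clear h1
    induction m with
    | zero => exact .inl rfl
    | succ m ih => rcases ih with e | e <;> simp [pow_succ', e, h, h']
  · rintro (rfl | rfl)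
    · exact Perm.SameCycle.refl _ _
    · exact h ▸ Perm.sameCycle_apply_right.2 (Perm.SameCycle.refl _ _)

theorem mem_Tk {k : ℕ} {i : Fin n} : i ∈ Tk n k ↔ n ≤ i + k := by simp [Tk]

theorem Tk_sdiff {k : ℕ} {j : Fin n} (h : (j : ℕ) + (k + 1) = n) : Tk n (k + 1) \ {j} = Tk n k := by
  ext i
  simp only [mem_sdiff, mem_Tk, mem_singleton, Fin.ext_iff]
  omega

theorem Tk_zero : Tk n 0 = ∅ := by
  ext i
  simp [mem_Tk]

theorem card_Tk {k : ℕ} (h : k ≤ n) : #(Tk n k) = k := by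
  induction k with
  | zero => rw [Tk_zero, card_empty]
  | succ k ih =>
    have h1 : ((⟨n - (k + 1), by omega⟩ : Fin n) : ℕ) + (k + 1) = n := by simp only; omega
    have h2 := card_sdiff_add_card_eq_card (singleton_subset_iff.2 (mem_Tk.2 h1.ge))
    rw [Tk_sdiff h1, ih (by omega), card_singleton] at h2
    exact h2.symm

theorem prod_Tk {k : ℕ} {j : Fin n} (h : (j : ℕ) + (k + 1) = n) (δ : Fin n → ℤˣ) :
    ∏ i ∈ Tk n (k + 1), δ i = (∏ i ∈ Tk n k, δ i) * δ j := by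
  rw [← Tk_sdiff h, prod_eq_prod_sdiff_singleton_mul (mem_Tk.2 h.ge)]

theorem Tk_mono {k : ℕ} : Tk n k ⊆ Tk n (k + 1) := fun i hi => by
  rw [mem_Tk] at hi ⊢
  omega

theorem stab_of_fix {T T' : Finset (Fin n)} {π : Perm (Fin n)} (h : T' ⊆ T) (h1 : ∀ j ∈ T, π j = j) : Stab T' π := fun x => by
  refine ⟨fun h2 => ?_, fun h2 => (h1 x (h h2)).symm ▸ h2⟩
  rwa [π.injective (h1 _ (h h2))] at h2

theorem cf_avg (T : Finset (Fin n)) (a a' : Bip → ℂ) (g : SG n) :
    cf T (fun i => (a i + a' i) / 2) g = (cf T a g + cf T a' g) / 2 := by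
  unfold cf
  induction bips #T with
  | nil => simp
  | cons i l ih =>
    simp only [List.map_cons, List.sum_cons, ih]
    ring

end sg

variable {I W : Type} {M : CoxeterMatrix I} [Group W] {cs : CoxeterSystem M W} [Fintype W] {ψ : MulAut W} {n : ℕ}
  {b : Bool} (E : Em cs ψ n b)

/-- the facts on the embedding which are used -/
structure Ok : Prop where
  aut : T.Aut cs ψ
  mem_J : ∀ k ≤ n, ∀ v, v ∈ WJ cs (E.J k) ↔ E.emb v ∈ On (Tk n k)
  rf_J : ∀ k ≤ n, ∀ t, t ∈ T.rf cs (E.J k) ↔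
    (∃ x ∈ Tk n k, ∃ y ∈ Tk n k, x < y ∧ ∃ e, E.emb t = sw x y e) ∨ (b = true ∧ ∃ x ∈ Tk n k, E.emb t = tt x)

/-- `cf a` is the part of `y` which is invariant under the sign change at the first coordinate of `Tk n k` -/
def Rep (k : ℕ) (w : W) (y : W → ℂ) (a : Bip → ℂ) : Prop :=
  ∀ x ∈ WJ cs (E.J k), (k = 0 → y (x * w) = cf (Tk n k) a (E.g (x * w))) ∧ ∀ j : Fin n, (j : ℕ) + k = n → ∀ u,
    E.g u = tt j * E.g (x * w) * tt j → y (x * w) + y u = 2 * cf (Tk n k) a (E.g (x * w))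

theorem g_mul (x w : W) : E.g (x * w) = E.emb x * E.g w := by rw [Em.g, Em.g, map_mul, mul_assoc]

theorem g_inj : Function.Injective E.g := fun _ _ h => E.inj (mul_right_cancel h)

theorem emb_tw (w v : W) : E.emb (w * ψ v * w⁻¹) = E.g w * E.emb v * (E.g w)⁻¹ := by
  rw [map_mul, map_mul, map_inv, E.tw, Em.g, mul_inv_rev]
  simp only [mul_assoc]

theorem J_mono {k : ℕ} : E.J k ⊆ E.J (k + 1) := fun _ hi => ⟨Tk_mono hi.1, hi.2.imp_right fun h => by omega⟩

/-- the conjugation by a sign change -/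
theorem exists_sig (j : Fin n) : ∃ σ : W ≃* W, (∀ v, E.emb (σ v) = tt j * E.emb v * tt j) ∧
    ∀ v, E.g (σ v) = tt j * E.g v * tt j := by
  have h1 : ∀ v, ∃ v', E.emb v' = tt j * E.emb v * tt j := fun v => E.surj _ fun hb => by
    rw [map_mul, map_mul, E.even hb, mul_one, Int.units_mul_self]
  choose σ hσ using h1
  have h2 : Function.Involutive σ := fun v => E.inj (by
    rw [hσ, hσ, ← mul_assoc, ← mul_assoc, tt_mul_tt, one_mul, mul_assoc, tt_mul_tt, mul_one])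
  refine ⟨⟨h2.toPerm σ, fun u v => E.inj ?_⟩, hσ, fun v => ?_⟩
  · show E.emb (σ (u * v)) = E.emb (σ u * σ v)
    rw [map_mul, hσ, hσ, hσ, map_mul]
    simp only [mul_assoc]
    rw [← mul_assoc (tt j) (tt j), tt_mul_tt, one_mul]
  · show E.emb (σ v) * E.τ = _
    have h3 : tt j * E.τ = E.τ * tt j := by
      rcases E.hτ with e | ⟨-, i, -, e⟩ <;> rw [e]
      · rw [mul_one, one_mul]
      · exact tt_comm _ _
    rw [hσ, Em.g, mul_assoc, h3]
    simp only [mul_assoc]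

variable {E} (ok : Ok E)
include ok

theorem sum_rf {k : ℕ} (hk : k ≤ n) (Φ : SG n → ℤ) : ∑ t ∈ T.rf cs (E.J k), Φ (E.emb t) =
    ∑ x ∈ Tk n k, ∑ y ∈ Tk n k with x < y, (Φ (sw x y 1) + Φ (sw x y (-1))) +
      if b then ∑ x ∈ Tk n k, Φ (tt x) else 0 := by
  classical
  have h1 : (T.rf cs (E.J k)).image E.emb =
      (((Tk n k ×ˢ Tk n k).filter fun p => p.1 < p.2) ×ˢ (univ : Finset ℤˣ)).image (fun p => sw p.1.1 p.1.2 p.2) ∪
        if b then (Tk n k).image tt else ∅ := by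
    ext g
    simp only [mem_image, ok.rf_J k hk, mem_union, mem_product, mem_filter, mem_univ, and_true, Prod.exists]
    constructor
    · rintro ⟨t, ⟨x, hx, y, hy, h, e, he⟩ | ⟨hb, x, hx, he⟩, rfl⟩
      · exact .inl ⟨x, y, e, ⟨⟨hx, hy⟩, h⟩, he.symm⟩
      · exact .inr (by rw [if_pos hb]; exact mem_image.2 ⟨x, hx, he.symm⟩)
    · rintro (⟨x, y, e, ⟨⟨hx, hy⟩, h⟩, rfl⟩ | h)
      · obtain ⟨t, ht⟩ := E.surj (sw x y e) fun _ => sgn_sw h.ne e
        exact ⟨t, .inl ⟨x, hx, y, hy, h, e, ht⟩, ht⟩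
      · split_ifs at h with hb
        · obtain ⟨x, hx, rfl⟩ := mem_image.1 h
          obtain ⟨t, ht⟩ := E.surj (tt x) fun h => by simp [hb] at h
          exact ⟨t, .inr ⟨hb, x, hx, ht⟩, ht⟩
        · simp at h
  rw [← sum_image (f := Φ) E.inj.injOn, h1, sum_union, sum_image, sum_product, sum_filter, sum_product]
  · congr 1
    · refine sum_congr rfl fun x _ => ?_
      rw [sum_filter]
      refine sum_congr rfl fun y _ => ?_
      rw [UnitsInt.univ, sum_pair (by decide)]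
    · split_ifs
      · exact sum_image fun _ _ _ _ => tt_inj
      · rfl
  · rintro ⟨⟨x, y⟩, e⟩ h ⟨⟨x', y'⟩, e'⟩ h' H
    obtain ⟨rfl, rfl, rfl⟩ := sw_inj (mem_filter.1 (mem_product.1 h).1).2 (mem_filter.1 (mem_product.1 h').1).2 H
    rfl
  · refine disjoint_left.2 fun g h h' => ?_
    obtain ⟨p, hp, rfl⟩ := mem_image.1 h
    split_ifs at h'
    · obtain ⟨z, -, hz⟩ := mem_image.1 h'
      exact sw_ne_tt (mem_filter.1 (mem_product.1 hp).1).2 hz.symm
    · simp at h'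

theorem stab_x {k : ℕ} (hk : k ≤ n) {w x : W} (hw : Stab (Tk n k) (E.g w).π) (hx : x ∈ WJ cs (E.J k)) :
    Stab (Tk n k) (E.g (x * w)).π := g_mul E x w ▸ stab_mul ((ok.mem_J k hk x).1 hx) hw

theorem lv_lev {k : ℕ} (hk : k ≤ n) {w : W} {y : W → ℂ} (hw : Stab (Tk n k) (E.g w).π) (hy : T.Lv cs ψ (E.J k) w y)
    (c : ℂ) : T.Lv cs ψ (E.J k) w (T.lev cs (E.J k) c y) :=
  Avg.lev' ok.aut hy le_rfl (fun _ _ _ hj h => absurd hj h) (fun _ hi => (ok.mem_J k hk _).2
    (emb_tw E w _ ▸ conj_On ((ok.mem_J k hk _).1 (simple_mem_WJ cs hi)) hw)) c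

theorem lev_cf (hC : BoxCas) {k : ℕ} (hk : k ≤ n) {w : W} (hw : Stab (Tk n k) (E.g w).π) (a : Bip → ℂ) (c : ℤ) {x : W}
    (hx : x ∈ WJ cs (E.J k)) : T.lev cs (E.J k) ((c - 480 - 18 * k : ℤ) : ℂ) (fun u => cf (Tk n k) a (E.g u)) (x * w) =
      cf (Tk n k) (cut b c a) (E.g (x * w)) := by
  classical
  have h1 : ∀ l : List Bip, (∀ i ∈ l, i ∈ bips #(Tk n k)) →
      T.lev cs (E.J k) ((c - 480 - 18 * k : ℤ) : ℂ) (fun u => (l.map fun i => a i * phi (Tk n k) i (E.g u)).sum) (x * w) =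
        (l.map fun i => cut b c a i * phi (Tk n k) i (E.g (x * w))).sum := fun l hl => by
    induction l with
    | nil => exact congrFun (map_zero (T.lev cs (E.J k) _)) _
    | cons i l ih =>
      have h2 := T.lev_eig (cs := cs) (w := w) (le_refl (E.J k)) (y := fun u => a i * phi (Tk n k) i (E.g u))
        (c := ((lev b i - 480 - 18 * k : ℤ) : ℂ)) (fun x hx => by
          have h3 := hC b (Tk n k) (E.g (x * w)) ((card_Tk hk).trans_le (hk.trans E.ten)) (stab_x ok hk hw hx) i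
            (hl i (by simp))
          rw [← sum_rf ok hk fun g => phi (Tk n k) i (g * E.g (x * w)), card_Tk hk] at h3
          simp only [g_mul E _ (x * w)]
          rw [← mul_sum, ← Int.cast_sum, h3]
          push_cast; ring) ((c - 480 - 18 * k : ℤ) : ℂ) hx
      simp only [List.map_cons, List.sum_cons]
      rw [← ih fun j hj => hl j (by simp [hj])]
      refine (congrFun (map_add (T.lev cs (E.J k) _) (fun u => a i * phi (Tk n k) i (E.g u)) _) _).trans ?_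
      rw [Pi.add_apply, h2]
      unfold cut
      congr 1
      by_cases e : lev b i = c
      · rw [if_pos e, if_pos (by rw [e])]
      · rw [if_neg e, if_neg fun h => e (by have := Int.cast_injective h; omega), zero_mul]
  exact h1 _ fun _ h => h

/-- the level projection at the elements which fix the first coordinate -/
theorem lev_rep (hC : BoxCas) {k : ℕ} (hk : k + 1 ≤ n) {w : W} {y : W → ℂ} {a : Bip → ℂ}
    (hw : Stab (Tk n (k + 1)) (E.g w).π) (h : Rep E (k + 1) w y a) (c : ℤ) {j : Fin n} (hj : (j : ℕ) + (k + 1) = n) {x : W}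
    (hx : x ∈ WJ cs (E.J (k + 1))) (h1 : (E.g (x * w)).π j = j) :
    T.lev cs (E.J (k + 1)) ((c - 480 - 18 * (k + 1 : ℕ) : ℤ) : ℂ) y (x * w) = cf (Tk n (k + 1)) (cut b c a) (E.g (x * w)) := by
  obtain ⟨σ, h2, h3⟩ := exists_sig E j
  have h4 : ∀ t, t ∈ T.rf cs (E.J (k + 1)) → σ t ∈ T.rf cs (E.J (k + 1)) := fun t ht => by
    rw [ok.rf_J _ hk] at ht ⊢
    rw [h2]
    rcases ht with ⟨x, hx, y, hy, h, e, he⟩ | ⟨hb, x, hx, he⟩
    · exact .inl ⟨x, hx, y, hy, h, he ▸ conj_sw j h.ne e⟩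
    · exact .inr ⟨hb, x, hx, by rw [he, tt_comm j, mul_assoc, tt_mul_tt, mul_one]⟩
  have h5 : ∀ t, σ (σ t) = t := fun t => E.inj (by
    rw [h2, h2, ← mul_assoc, ← mul_assoc, tt_mul_tt, one_mul, mul_assoc, tt_mul_tt, mul_one])
  have h6 := T.aeval_cas_comp (g := σ) σ.toEquiv (fun t => ⟨h4 t, fun ht => h5 t ▸ h4 _ ht⟩) (fun t _ u => map_mul σ t u)
    (T.lp cs (E.J (k + 1)) ((c - 480 - 18 * (k + 1 : ℕ) : ℤ) : ℂ)) y (x * w)
  rw [g_inj E ((h3 (x * w)).trans (tt_comm_of h1))] at h6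
  have h7 := T.aeval_cas_zero (cs := cs) (w := w) (le_refl (E.J (k + 1)))
    (y := y + (fun u => y (σ u)) - (2 : ℂ) • fun u => cf (Tk n (k + 1)) a (E.g u))
    (fun x hx => sub_eq_zero.2 ((h x hx).2 j hj _ (h3 _))) (T.lp cs (E.J (k + 1)) ((c - 480 - 18 * (k + 1 : ℕ) : ℤ) : ℂ)) x hx
  rw [map_sub, map_add, map_smul, Pi.sub_apply, Pi.add_apply, h6, Pi.smul_apply, smul_eq_mul, ← two_mul, sub_eq_zero] at h7
  exact (mul_left_cancel₀ two_ne_zero h7).trans (lev_cf ok hC hk hw a c hx)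

theorem rep_of (hM : BoxMN) {k : ℕ} (hk : k ≤ n) {w : W} {y : W → ℂ} {a : Bip → ℂ} (hw : Stab (Tk n k) (E.g w).π)
    (h : ∀ x ∈ WJ cs (E.J k), y (x * w) = cf (Tk n k) a (E.g (x * w))) : Rep E k w y a := fun x hx => by
  refine ⟨fun _ => h x hx, fun j hj u hu => ?_⟩
  have h1 : tt j ∈ On (Tk n k) := fun i hi => ⟨rfl, if_neg fun e : i = j => hi (e ▸ mem_Tk.2 hj.ge)⟩
  have h2 : u * w⁻¹ ∈ WJ cs (E.J k) := by
    have h3 : E.emb (u * w⁻¹) = tt j * E.emb x * (E.g w * tt j * (E.g w)⁻¹) := by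
      rw [← mul_inv_cancel_right (E.emb _) (E.g w), ← g_mul, inv_mul_cancel_right, hu, g_mul]
      simp only [mul_assoc]
    rw [ok.mem_J k hk, h3]
    exact mul_mem (mul_mem h1 ((ok.mem_J k hk x).1 hx)) (conj_On h1 hw)
  have h4 := h _ h2
  rw [inv_mul_cancel_right] at h4
  rw [h4, h x hx, hu, two_mul]
  unfold cf
  congr 2
  refine List.map_congr_left fun i _ => ?_
  have h5 := (hM (Tk n k) (E.g (x * w)) ((card_Tk hk).trans_le (hk.trans E.ten)) (stab_x ok hk hw hx)).2.2.2.1 (tt j)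
    (fun _ => Iff.rfl) i
  rw [inv_eq_of_mul_eq_one_right (tt_mul_tt j)] at h5
  rw [h5]

omit ok in
theorem base (hM : BoxMN) {w : W} {y : W → ℂ} {a : Bip → ℂ} (hy : T.Lv cs ψ (E.J 0) w y)
    (h : y (1 * w) = cf (Tk n 0) a (E.g (1 * w))) : ∃ z : ℤ, a (vc, vc) = z := by
  obtain ⟨z, hz⟩ := hy.int (one_mem _)
  refine ⟨z, ?_⟩
  have h1 : bips #(∅ : Finset (Fin n)) = [(vc, vc)] := rfl
  have h2 := (hM ∅ (E.g (1 * w)) (by simp) (fun _ => by simp)).2.1 [] rfl (vc, vc) (h1 ▸ List.mem_singleton_self _)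
  have h3 : val [] (vc, vc) = 1 := if_pos rfl
  rw [← hz, h, Tk_zero]
  unfold cf
  rw [h1, List.map_singleton, List.sum_singleton, h2, h3, Int.cast_one, mul_one]

theorem exists_x {k : ℕ} (hk : k ≤ n) {w : W} (hw : Stab (Tk n k) (E.g w).π) (δ : Fin n → ℤˣ)
    (h : b = false → ∏ j ∈ Tk n k, δ j = E.ε k w) :
    ∃ x ∈ WJ cs (E.J k), ∀ j ∈ Tk n k, (E.g (x * w)).π j = j ∧ (E.g (x * w)).s j = δ j := by
  obtain ⟨g, h1, h2, h3⟩ := exists_diag hw δ
  obtain ⟨x, rfl⟩ := E.surj g fun hb => by rw [h2, h hb]; exact Int.units_mul_self _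
  exact ⟨x, (ok.mem_J k hk x).2 h1, g_mul E x w ▸ h3⟩

theorem dual_aux (hM : BoxMN) (hC : BoxCas) (k : ℕ) (hk : k ≤ n) (w : W) (y : W → ℂ) (a : Bip → ℂ) (ε : ℤˣ)
    (hw : Stab (Tk n k) (E.g w).π) (hy : T.Lv cs ψ (E.J k) w y) (h : Rep E k w y a) (hε : b = false → ε = E.ε k w) :
    Dual b k ε a := by
  induction k generalizing w y a ε with
  | zero => exact fun _ => base hM hy ((h 1 (one_mem _)).1 rfl)
  | succ k ih =>
    intro c η
    obtain ⟨j, hj⟩ : ∃ j : Fin n, (j : ℕ) + (k + 1) = n := ⟨⟨n - (k + 1), by omega⟩, by simp only; omega⟩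
    have hjT : j ∈ Tk n (k + 1) := mem_Tk.2 hj.ge
    have hjT' : j ∉ Tk n k := fun h => by have := mem_Tk.1 h; omega
    by_cases h0 : b = false ∧ k = 0 ∧ ε * η ≠ 1
    · obtain ⟨hb, rfl, h1⟩ := h0
      rintro (h2 | h2)
      · simp [hb] at h2
      · exact absurd h2 h1
    obtain ⟨δ, h1, h2⟩ : ∃ δ : Fin n → ℤˣ, δ j = η ∧ (b = false → ∏ i ∈ Tk n k, δ i = ε * η) := by
      rcases Nat.eq_zero_or_pos k with rfl | h1
      · refine ⟨fun _ => η, rfl, fun hb => ?_⟩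
        rw [Tk_zero, prod_empty]
        exact (not_not.1 fun h2 => h0 ⟨hb, rfl, h2⟩).symm
      · have h2 : (⟨n - 1, by omega⟩ : Fin n) ∈ Tk n k := mem_Tk.2 (by simp only; omega)
        refine ⟨fun i => if i = j then η else if i = ⟨n - 1, by omega⟩ then ε * η else 1, if_pos rfl, fun _ => ?_⟩
        rw [prod_congr rfl fun i hi => if_neg fun e : i = j => hjT' (e ▸ hi), prod_ite_eq', if_pos h2]
    obtain ⟨x₀, hx₀, h3⟩ := exists_x ok hk hw δ fun hb => by
      rw [prod_Tk hj, h2 hb, h1, mul_assoc, Int.units_mul_self, mul_one, hε hb]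
    have h4 : Stab (Tk n k) (E.g (x₀ * w)).π := stab_of_fix Tk_mono fun i hi => (h3 i hi).1
    refine ih (by omega) (x₀ * w) _ _ _ h4 ((lv_lev ok hk hw hy ((c - 480 - 18 * (k + 1 : ℕ) : ℤ) : ℂ)).mono (J_mono E) hx₀)
      (rep_of ok hM (by omega) h4 fun x hx => ?_) fun hb => ?_
    · have h5 := (ok.mem_J k (by omega) x).1 hx j hjT'
      have h6 : (E.g (x * (x₀ * w))).π j = j := by rw [g_mul, mul_π, Perm.mul_apply, (h3 j hjT).1, h5.1]
      have h7 : (E.g (x * (x₀ * w))).s j = η := by rw [g_mul, mul_s, (h3 j hjT).1, h5.2, one_mul, (h3 j hjT).2, h1]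
      have h8 := mul_mem (WJ_mono cs (J_mono E) hx) hx₀
      rw [← mul_assoc] at h6 h7 ⊢
      rw [lev_rep ok hC hk hw h c hj h8 h6, (hM _ _ ((card_Tk hk).trans_le (hk.trans E.ten)) (stab_x ok hk hw h8)).1 j hjT,
        cyc_fix h6, Tk_sdiff hj, card_Tk hk, card_singleton, prod_singleton, h7]
    · rw [← h2 hb]
      exact prod_congr rfl fun i hi => (h3 i (Tk_mono hi)).2.symm

/-- **The integrality along the chains.** -/
theorem dual_of_rep (hM : BoxMN) (hC : BoxCas) {k : ℕ} (hk : k ≤ n) {w : W} {y : W → ℂ} {a : Bip → ℂ}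
    (hw : Stab (Tk n k) (E.g w).π) (hy : T.Lv cs ψ (E.J k) w y) (h : Rep E k w y a) : Dual b k (E.ε k w) a :=
  dual_aux ok hM hC k hk w y a _ hw hy h fun _ => rfl

/-- **The integrality along the chains which average over a transposition.** -/
theorem dual2_of (hM : BoxMN) (hC : BoxCas) (hb : b = false) (k : ℕ) (hk : 2 * k ≤ n) (w : W) (y : W → ℂ) (a : Bip → ℂ)
    (hw : Stab (Tk n (2 * k)) (E.g w).π) (hy : T.Lv cs ψ (E.J (2 * k)) w y) (hε : E.ε (2 * k) w = 1)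
    (h : ∀ x ∈ WJ cs (E.J (2 * k)), y (x * w) = cf (Tk n (2 * k)) a (E.g (x * w))) : Dual2 k a := by
  induction k generalizing w y a with
  | zero => exact base hM hy (h 1 (one_mem _))
  | succ k ih =>
    intro c
    change Stab (Tk n (2 * k + 1 + 1)) _ at hw
    change T.Lv cs ψ (E.J (2 * k + 1 + 1)) w y at hy
    change E.ε (2 * k + 1 + 1) w = 1 at hε
    change ∀ x ∈ WJ cs (E.J (2 * k + 1 + 1)), y (x * w) = cf (Tk n (2 * k + 1 + 1)) a (E.g (x * w)) at h
    replace hk : 2 * k + 1 + 1 ≤ n := hk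
    obtain ⟨j, hj⟩ : ∃ j : Fin n, (j : ℕ) + (2 * k + 1 + 1) = n := ⟨⟨n - (2 * k + 2), by omega⟩, by simp only; omega⟩
    obtain ⟨j', hj'⟩ : ∃ j : Fin n, (j : ℕ) + (2 * k + 1) = n := ⟨⟨n - (2 * k + 1), by omega⟩, by simp only; omega⟩
    have hjT : j ∈ Tk n (2 * k + 1 + 1) := mem_Tk.2 hj.ge
    have hjT1 : j' ∈ Tk n (2 * k + 1) := mem_Tk.2 hj'.ge
    have hne : j ≠ j' := fun e => by rw [e] at hj; omega
    have hout : ∀ i ∈ Tk n (2 * k), i ≠ j ∧ i ≠ j' := fun i hi => by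
      have := mem_Tk.1 hi
      constructor <;> rintro rfl <;> omega
    obtain ⟨x₀, hx₀, h3⟩ := exists_x ok hk hw 1 fun _ => by rw [hε]; simp
    have hJ : E.J (2 * k) ⊆ E.J (2 * k + 1 + 1) := (J_mono E).trans (J_mono E)
    have h4 : Stab (Tk n (2 * k)) (E.g (x₀ * w)).π := stab_of_fix (Tk_mono.trans Tk_mono) fun i hi => (h3 i hi).1
    have hs : E.emb (cs.simple (E.nd j)) = sw j j' 1 := E.simple j j' (by omega)
    have hi : E.nd j ∈ E.J (2 * k + 1 + 1) := ⟨by rwa [Equiv.symm_apply_apply], .inr (by omega)⟩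
    have hsw : sw j j' 1 ∈ On ({j, j'} : Finset (Fin n)) := fun i hi => by
      rw [mem_insert, mem_singleton, not_or] at hi
      exact ⟨swap_apply_of_ne_of_ne hi.1 hi.2, by rw [sw_s, ite_self]⟩
    have hx' : ∀ x ∈ WJ cs (E.J (2 * k)), E.emb x ∈ On ({j, j'} : Finset (Fin n))ᶜ := fun x hx i hi =>
      (ok.mem_J _ (by omega) x).1 hx i fun h => hi (by simpa using hout i h)
    have hw' : E.g (x₀ * w) ∈ On ({j, j'} : Finset (Fin n))ᶜ := fun i hi => by
      rw [mem_compl, not_not, mem_insert, mem_singleton] at hi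
      rcases hi with rfl | rfl
      · exact h3 _ hjT
      · exact h3 _ (Tk_mono hjT1)
    have h5 := (Avg.avg_one ok.aut ((lv_lev ok hk hw hy ((c - 480 - 18 * (2 * k + 1 + 1 : ℕ) : ℤ) : ℂ)).mono
      (J' := insert (E.nd j) (E.J (2 * k))) (Set.insert_subset hi hJ) hx₀) (Set.mem_insert _ _) (by
        rintro i (rfl | hi)
        · exact Commute.refl _
        · refine E.inj ?_
          rw [map_mul, map_mul, hs]
          exact comm_On hsw (hx' _ (simple_mem_WJ cs hi))) (by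
        rw [← mul_inv_eq_iff_eq_mul]
        refine E.inj ?_
        rw [emb_tw, hs, ← comm_On hsw hw', mul_inv_cancel_right])).mono (Set.subset_insert _ _) (one_mem _)
    rw [one_mul] at h5
    refine ih (by omega) (x₀ * w) _ _ h4 h5 (prod_eq_one fun i hi => (h3 i (Tk_mono (Tk_mono hi))).2) fun x hx => ?_
    have h6 : E.g (x * (x₀ * w)) ∈ On ({j, j'} : Finset (Fin n))ᶜ := g_mul E x _ ▸ mul_mem (hx' x hx) hw'
    have h7 := h6 j (by simp)
    have h8 := h6 j' (by simp)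
    have h9 := mul_mem (WJ_mono cs hJ hx) hx₀
    have h10 := mul_mem (simple_mem_WJ cs hi) h9
    have hc := (card_Tk hk).trans_le (hk.trans E.ten)
    have hl : ∀ v ∈ WJ cs (E.J (2 * k + 1 + 1)), T.lev cs (E.J (2 * k + 1 + 1)) ((c - 480 - 18 * (2 * k + 1 + 1 : ℕ) : ℤ) : ℂ)
        y (v * w) = cf (Tk n (2 * k + 1 + 1)) (cut false c a) (E.g (v * w)) := fun v hv => by
      have h11 := T.aeval_cas_zero (cs := cs) (w := w) (le_refl (E.J (2 * k + 1 + 1)))
        (y := y - fun u => cf (Tk n (2 * k + 1 + 1)) a (E.g u)) (fun x hx => sub_eq_zero.2 (h x hx))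
        (T.lp cs (E.J (2 * k + 1 + 1)) ((c - 480 - 18 * (2 * k + 1 + 1 : ℕ) : ℤ) : ℂ)) v hv
      rw [map_sub, Pi.sub_apply, sub_eq_zero] at h11
      exact h11.trans (hb ▸ lev_cf ok hC hk hw a c hv)
    have e1 := hl _ h9
    have e2 := hl _ h10
    have s1 := stab_x ok hk hw h9
    have s2 := stab_x ok hk hw h10
    rw [mul_assoc] at e1 s1
    rw [mul_assoc, mul_assoc] at e2 s2
    have s3 : Stab (Tk n (2 * k + 1)) (E.g (x * (x₀ * w))).π :=
      stab_x ok (by omega) (stab_of_fix Tk_mono fun i hi => (h3 i hi).1) (WJ_mono cs (J_mono E) hx)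
    have g2 : E.g (cs.simple (E.nd j) * (x * (x₀ * w))) = sw j j' 1 * E.g (x * (x₀ * w)) := by rw [g_mul, hs]
    have c2 : cyc (E.g (cs.simple (E.nd j) * (x * (x₀ * w)))).π j = {j, j'} := cyc_two
      (by rw [g2, mul_π, Perm.mul_apply, h7.1, sw_π, swap_apply_left])
      (by rw [g2, mul_π, Perm.mul_apply, h8.1, sw_π, swap_apply_right])
    have t2 : Tk n (2 * k + 1 + 1) \ {j, j'} = Tk n (2 * k) := by
      rw [← Tk_sdiff hj', ← Tk_sdiff hj, sdiff_sdiff_left]; rfl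
    rw [(hM _ _ hc s1).1 j hjT, cyc_fix h7.1, Tk_sdiff hj, card_Tk hk, card_singleton, prod_singleton, h7.2,
      (hM _ _ ((card_Tk (by omega)).trans_le (by have := E.ten; omega)) s3).1 j' hjT1, cyc_fix h8.1, Tk_sdiff hj',
      card_Tk (by omega), card_singleton, prod_singleton, h8.2] at e1
    rw [(hM _ _ hc s2).1 j hjT, c2, t2, card_Tk hk, card_pair hne, prod_pair hne, g2, mul_s, mul_s, h7.2, h8.2, sw_s, sw_s,
      ite_self, ite_self, mul_one, mul_one] at e2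
    rw [cf_avg, e1, e2]
    congr 2
    refine congrArg List.sum (List.map_congr_left fun i _ => ?_)
    have s4 := stab_x ok (by omega) h4 hx
    rw [(hM _ _ ((card_Tk (by omega)).trans_le (by have := E.ten; omega)) s4).2.2.1 _ fun i hi => ?_]
    have h11 := hsw _ (by simpa using hout _ ((s4 i).2 hi))
    rw [mul_π, mul_s, Perm.mul_apply, h11.1, h11.2, one_mul]
    exact ⟨rfl, rfl⟩

omit ok in
theorem ok_em (E : Em cs ψ n b) : Ok E where
  aut := E.aut
  mem_J _ _ _ := E.mem_J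
  rf_J _ _ _ := E.mem_rf_J.trans (or_congr_left
    ⟨fun ⟨x, hx, y, hy, e, h1, h2⟩ => ⟨x, hx, y, hy, h1, e, h2⟩, fun ⟨x, hx, y, hy, h1, e, h2⟩ => ⟨x, hx, y, hy, e, h1, h2⟩⟩)

omit ok in
theorem rep_of_R {k : ℕ} {w : W} {y : W → ℂ} {a : Bip → ℂ} (hw : Stab (Tk n k) (E.g w).π) (hi : E.Inv (E.J k) w y)
    (h : 1 ≤ k → ∀ x ∈ WJ cs (E.J k), y (x * w) + y (E.cj (tt E.lst) (x * w)) = 2 * cf (Tk n k) a (E.g (x * w)))
    (h0 : k = 0 → y w = cf (Tk n k) a (E.g w)) : Rep E k w y a := fun x hx => by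
  refine ⟨fun e => ?_, fun j hj u hu => ?_⟩
  · have h1 := E.mem_J.1 hx
    rw [e, Tk_zero] at h1
    have h2 : x = 1 := E.inj ((SG.ext (Equiv.ext fun j => (h1 j (notMem_empty j)).1)
      (funext fun j => (h1 j (notMem_empty j)).2)).trans (map_one E.emb).symm)
    rw [h2, one_mul]
    exact h0 e
  · have hk : 1 ≤ k := by omega
    have h1 : ∀ i ∈ Tk n k, tt i ∈ On (Tk n k) := fun i hi l hl => ⟨rfl, if_neg fun e : l = i => hl (e ▸ hi)⟩
    have h2 := h1 _ (E.lst_mem hk)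
    obtain ⟨v, hv, e⟩ := E.exists_mem_J (mul_mem (h1 j (mem_Tk.2 hj.ge)) h2) fun _ => by
      rw [map_mul, Ey.sgn_tt, Ey.sgn_tt]; rfl
    have h3 := E.g_cj E.tt_τ (x * w)
    have h4 : E.cj (tt E.lst) (x * w) * w⁻¹ ∈ WJ cs (E.J k) := by
      have h5 : E.emb (E.cj (tt E.lst) (x * w) * w⁻¹) = tt E.lst * E.emb x * (E.g w * (tt E.lst)⁻¹ * (E.g w)⁻¹) := by
        rw [← mul_inv_cancel_right (E.emb _) (E.g w), ← g_mul, inv_mul_cancel_right, h3, g_mul]
        simp only [mul_assoc]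
      rw [E.mem_J, h5]
      exact mul_mem (mul_mem h2 (E.mem_J.1 hx)) (conj_On (inv_mem h2) hw)
    have h5 := hi v hv _ h4
    rw [inv_mul_cancel_right] at h5
    have h6 : u = v * E.cj (tt E.lst) (x * w) * (ψ v)⁻¹ := E.g_inj (by
      rw [E.g_conj, e, h3, hu, mul_inv_rev, inv_eq_of_mul_eq_one_right (tt_mul_tt j),
        inv_eq_of_mul_eq_one_right (tt_mul_tt E.lst)]
      simp only [mul_assoc]
      rw [← mul_assoc (tt E.lst) (tt E.lst), tt_mul_tt, one_mul, ← mul_assoc (tt E.lst) (tt E.lst), tt_mul_tt, one_mul])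
    rw [h6, h5]
    exact h hk x hx

omit ok in
/-- **The integrality along the chains**, from the symmetrisation under the last sign change. -/
theorem dual_of_R (hM : BoxMN) (hC : BoxCas) {k : ℕ} (hk : k ≤ n) {w : W} {y : W → ℂ} {a : Bip → ℂ}
    (hw : Stab (Tk n k) (E.g w).π) (hy : T.Lv cs ψ (E.J k) w y) (hi : E.Inv (E.J k) w y)
    (h : 1 ≤ k → ∀ x ∈ WJ cs (E.J k), y (x * w) + y (E.cj (tt E.lst) (x * w)) = 2 * cf (Tk n k) a (E.g (x * w)))
    (h0 : k = 0 → y w = cf (Tk n k) a (E.g w)) : Dual b k (E.ε k w) a :=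
  dual_of_rep (ok_em E) hM hC hk hw hy (rep_of_R hw hi h h0)

omit ok in
theorem dual2_of' (hM : BoxMN) (hC : BoxCas) (hb : b = false) {k j : ℕ} (hk : k ≤ n) (hj : k = 2 * j) {w : W} {y : W → ℂ}
    {a : Bip → ℂ} (hw : Stab (Tk n k) (E.g w).π) (hy : T.Lv cs ψ (E.J k) w y) (hε : E.ε k w = 1)
    (h : ∀ x ∈ WJ cs (E.J k), y (x * w) = cf (Tk n k) a (E.g (x * w))) : Dual2 j a := by
  subst hj
  exact dual2_of (ok_em E) hM hC hb j hk w y a hw hy hε h

end ChA

end Cfsg.Agent.LV.Cl
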