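import Cfsg.Agent.LV.Cl.Defs
import Cfsg.Agent.LV.Lab.Defs
import Cfsg.Agent.KZ.Dat.Spm

/-!
# LV, classical groups: the frame and the boxes which involve the group (helper50)
-/

set_option autoImplicit false
set_option linter.unusedSectionVars false
set_option linter.dupNamespace false

namespace Cfsg.Agent.LV.Cl

open Cfsg Cfsg.Agent.DL Cfsg.Agent.DL.PP Cfsg.Agent.KZ.Lie Cfsg.Agent.KZ.Dat Cfsg.Agent.Tits.Core Cfsg.Agent.LV.Blk
  Cfsg.Agent.LV.Lab Matrix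

section

variable {p : ℕ} [Fact p.Prime] {k : Type} [Field k] [CharP k p] {Y : Type} [Group Y] {N : Type} [Fintype N]
  [DecidableEq N] {ρ : Y →* GL N k} {F : MulAut Y} {G : Subgroup Y} [IsAlgClosed k] (D : Datum p ρ F G)

/-- A datum of classical type: in the basis `P` the Weyl group and the Frobenius map are signed permutation matrices. -/
structure Fm (n : ℕ) (b : Bool) (q : ℕ) where
  E : Em D.cs D.Fw n b
  P : Matrix (Fin n) D.R ℤ
  P' : Matrix D.R (Fin n) ℤ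
  PP' : P * P' = 1
  P'P : P' * P = 1
  hW : ∀ w, P * D.Wm w = spm (E.emb w).π (E.emb w).s * P
  hM : P * D.Mx = (q : ℤ) • spm E.τ.π E.τ.s * P
  qs : D.QS

variable {D} {n : ℕ} {b : Bool} {q : ℕ}

/-- `w` has the type of a Sylow torus -/
def Fm.Sy (Φ : Fm D n b q) (d : ℕ) (w : D.W) : Prop := ∃ L ∈ syl d b n (sgn Φ.E.τ), HasTy (Φ.E.g w) Finset.univ L

variable (D) in
/-- fusion: the conjugates of `w` which fix `c` are conjugate under the stabiliser of `c` -/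
def Fus (w : D.W) (c : Lbl D) : Prop := ∀ w' v, Fx D w' c → Tc D v w' w → ∃ u, Rel D u c c ∧ Tc D u w' w

end

/-- `d` is the order of `q` modulo `5` -/
def Od (d q : ℕ) : Prop := (d = 1 ∧ q % 5 = 1) ∨ (d = 2 ∧ q % 5 = 4) ∨ (d = 4 ∧ (q % 5 = 2 ∨ q % 5 = 3))

/-- (C5a) the orders of the tori -/
def BoxOrd : Prop :=
  ∀ {p : ℕ} [Fact p.Prime] {k : Type} [Field k] [CharP k p] {Y : Type} [Group Y] {N : Type} [Fintype N]
    [DecidableEq N] {ρ : Y →* GL N k} {F : MulAut Y} {G : Subgroup Y} [IsAlgClosed k] {D : Datum p ρ F G} {n : ℕ} {b : Bool}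
    {q : ℕ} (Φ : Fm D n b q) (w : D.W) (L : List (ℕ × ℤˣ)), HasTy (Φ.E.g w) Finset.univ L →
    ordT D w = (L.map fun c => ((q : ℤ) ^ c.1 - c.2).natAbs).prod

/-- (C4b) the normal form of a label which is fixed by an element of Sylow type -/
def BoxLab : Prop :=
  ∀ {p : ℕ} [Fact p.Prime] {k : Type} [Field k] [CharP k p] {Y : Type} [Group Y] {N : Type} [Fintype N]
    [DecidableEq N] {ρ : Y →* GL N k} {F : MulAut Y} {G : Subgroup Y} [IsAlgClosed k] {D : Datum p ρ F G} {n : ℕ} {b : Bool}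
    {q d : ℕ} (Φ : Fm D n b q), Od d q → Rg d b n (sgn Φ.E.τ) → ∀ (w₀ : D.W) (c : Lbl D), Φ.Sy d w₀ → IsL 5 c → Fx D w₀ c →
    ∃ (E : Em D.cs D.Fw n b) (j : ℕ) (f : Fin n → ℕ) (v w : D.W) (c' : Lbl D), Rel D v c c' ∧ Tc D v w₀ w ∧ j ≤ n ∧
      (j = n → c = 1) ∧ (c = 1 → j = n ∧ E = Φ.E) ∧ St D c' = WJ D.cs (E.K j f ∪ E.J j) ∧ E.NF 5 j f w ∧
      Rg d b j (E.ε j w) ∧ (c ≠ 1 → ¬ (j = 5 ∧ d ≠ 4) ∧ j ≠ 10) ∧ E.Fine j w ∧
      ∀ L ∈ syl d b j (E.ε j w), ∃ x ∈ WJ D.cs (E.J j),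
        HasTy (E.g (x * w)) (Tk n j) L ∧ E.Fine j (x * w) ∧ Φ.Sy d (x * w) ∧ Fus D (x * w) c'

/-- (I0') the level theorem for a label whose stabiliser is a standard parabolic subgroup -/
def BoxLvK : Prop :=
  ∀ {p : ℕ} [Fact p.Prime] {k : Type} [Field k] [CharP k p] {Y : Type} [Group Y] {N : Type} [Fintype N]
    [DecidableEq N] {ρ : Y →* GL N k} {F : MulAut Y} {G : Subgroup Y} [IsAlgClosed k] {D : Datum p ρ F G} (f : Fr D)
    [Fintype ↥(GF F G)] [Fintype D.W] {n : ℕ} {b : Bool} {q : ℕ} (_ : Fm D n b q) (K : Set D.I) (w : D.W) (c : Lbl D),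
    IsL 5 c → St D c = WJ D.cs K → Fx D w c → ∀ χ : ↥(GF F G) → ℂ, IsGeneralizedCharacter ↥(GF F G) χ →
    T.Lv D.cs D.Fw K w (yv f χ c)

/-- height zero for a classical datum of small rank -/
def BoxHZ : Prop :=
  ∀ {p : ℕ} [Fact p.Prime] {k : Type} [Field k] [CharP k p] {Y : Type} [Group Y] {N : Type} [Fintype N]
    [DecidableEq N] {ρ : Y →* GL N k} {F : MulAut Y} {G : Subgroup Y} [IsAlgClosed k] {D : Datum p ρ F G}
    [Fintype ↥(GF F G)] {n : ℕ} {b : Bool} {q d : ℕ} (Φ : Fm D n b q), 5 ≠ p → Od d q → Rg d b n (sgn Φ.E.τ) →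
    (∀ w, Φ.Sy d w → SylT D 5 w) → ∀ M, IsPModular 5 M → HZ0 5 M ↥(GF F G)

end Cfsg.Agent.LV.Cl
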