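import Cfsg.Agent.LV.Cl.LvK
import Cfsg.Agent.LV.Cl.DefsT
import Cfsg.Agent.LV.Blk.Sit
import Cfsg.Agent.LV.Blk.Cub

/-!
# LV, classical groups: one label (helper50)
-/

set_option autoImplicit false
set_option linter.unusedSectionVars false
set_option linter.dupNamespace false

namespace Cfsg.Agent.LV.Cl

open Cfsg Cfsg.Agent.DL Cfsg.Agent.DL.PP Cfsg.Agent.KZ.Lie Cfsg.Agent.Tits.Core Cfsg.Agent.LV.Blk Cfsg.Agent.LV.Lab Finset

variable {p : ℕ} [Fact p.Prime] {k : Type} [Field k] [CharP k p] {Y : Type} [Group Y] {N : Type} [Fintype N]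
  [DecidableEq N] {ρ : Y →* GL N k} {F : MulAut Y} {G : Subgroup Y} [IsAlgClosed k] {D : Datum p ρ F G}
  [Fintype ↥(GF F G)] {n q d : ℕ} {b : Bool} (f : Fr D) {χ : ↥(GF F G) → ℂ} {c : Lbl D} {w : D.W} {K : Set D.I}

theorem nr_N (E : Em D.cs D.Fw n b) (hs : St D c = WJ D.cs K) (hw : Fx D w c) : Lab.nr f χ c = E.N K w (yv f χ c) := by
  classical
  have := Fintype.ofFinite D.W
  rw [Lab.nr, Em.N, hs, finsum_eq_sum_of_fintype, finsum_eq_sum_of_fintype]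
  congr 1
  rw [← Equiv.sum_comp (Equiv.mulRight w), ← sum_subset (subset_univ (univ.filter fun x => x ∈ WJ D.cs K)) fun x _ hx => ?_]
  · exact sum_subtype _ (by simp) fun x => ‖yv f χ c (x * w)‖ ^ 2
  · rw [yv_zero f χ fun h => hx ?_, norm_zero, zero_pow two_ne_zero]
    simpa [← hs, mem_St] using hw.div h f.L

theorem inv_yv (E : Em D.cs D.Fw n b) (hs : St D c = WJ D.cs K) : E.Inv K w (yv f χ c) := fun v hv _ _ =>
  (yv_conj f χ (tc_self' v _) (mem_St.1 (hs ▸ hv))).symm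

theorem Rg.le {j : ℕ} {ε : ℤˣ} (h : Rg d b j ε) : j ≤ if b then 9 else 10 := by
  rcases h with ⟨-, h | ⟨rfl, h, -⟩⟩ | ⟨-, h | ⟨rfl, h, -⟩⟩ | ⟨-, h | ⟨rfl, h, -⟩⟩ <;> first | (split_ifs <;> omega) | simp [h]

theorem eps_zero {I W : Type} {M : CoxeterMatrix I} [Group W] {cs : CoxeterSystem M W} {ψ : MulAut W} (E : Em cs ψ n b)
    (w : W) : E.ε 0 w = 1 := by
  rw [Em.ε, card_eq_zero.1 (card_Tk n.zero_le), prod_empty]

/-- the data of a label which is fixed by an element of Sylow type -/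
theorem step (hMN : BoxMN) (hP : BoxPeel) (hL : BoxLab) (Φ : Fm D n b q) (ho : Od d q) (hr : Rg d b n (sgn Φ.E.τ))
    (hχ : IsIrrCharacter _ χ) (hw : Φ.Sy d w) (hc : IsL 5 c) (hf : Fx D w c) :
    ∃ (j : ℕ) (ε : ℤˣ) (a : Bip → ℂ) (m : ℤ) (c' : Lbl D), Cj D c c' ∧ Rg d b j ε ∧ (j = 0 → ε = 1) ∧ Sh b j ε a ∧ ¬ 5 ∣ m ∧
      (yv f χ c w ≠ 0 → 1 / 2 < Lab.nr f χ c) ∧ (c ≠ 1 → ¬ (j = 5 ∧ d ≠ 4) ∧ j ≠ 10) ∧
      ∀ L ∈ syl d b j ε, ∃ u, Φ.Sy d u ∧ Fus D u c' ∧ ∃ z : ℤ, pr j a (val L) = z ∧ yv f χ c' u = (m * z : ℤ) := by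
  have := Fintype.ofFinite D.W
  obtain ⟨E, j, φ, v, w', c', h1, h2, h3, -, -, h4, h5, h6, h7, h8, h9⟩ := hL Φ ho hr w c hw hc hf
  have hc' : IsL 5 c' := Cj.isL ⟨v, h1⟩ hc
  have hf' : Fx D w' c' := fx_of_tc h2 h1 hf
  have hN := nr_N f (χ := χ) E h4 hf'
  have h0 : j = 0 → E.ε j w' = 1 := fun e => e ▸ eps_zero E w'
  obtain ⟨m, a, e1, e2, e3, -, e4, -⟩ := hP E 5 j Nat.prime_five h3 h6.le φ w' (yv f χ c') h5 (fun _ => h0)
    (lv_of_st f Φ.qs (by decide) hc' h4 hf' (Uni.gen_of_irr hχ)) (inv_yv f E h4) (hN ▸ nr_le_one f hχ c')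
  refine ⟨j, _, a, m, c', ⟨v, h1⟩, h6, h0, e2, e1, fun h => ?_, h7, fun L hL => ?_⟩
  · rw [nr_cj f χ ⟨v, h1⟩, hN]
    refine e4.resolve_left fun e => h ?_
    have h10 := (e3 1 (one_mem _) (by rwa [one_mul])).1
    rw [one_mul, cf, card_Tk h3, List.sum_eq_zero fun x hx => ?_, mul_zero] at h10
    · rw [yv_conj f χ h2 h1, h10]
    · obtain ⟨i, hi, rfl⟩ := List.mem_map.1 hx
      rw [e i hi, zero_mul]
  · obtain ⟨x, hx, g1, g2, g3, g4⟩ := h9 L hL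
    obtain ⟨g5, z, g6⟩ := e3 x hx g2
    refine ⟨_, g3, g4, z, ?_, by rw [g5, g6, Int.cast_mul]⟩
    rw [← g6, cf_eq hMN (by rw [card_Tk h3]; exact h3.trans E.ten) g1, card_Tk h3]

theorem J_top {I W : Type} {M : CoxeterMatrix I} [Group W] {cs : CoxeterSystem M W} {ψ : MulAut W} (E : Em cs ψ n b) :
    E.J n = Set.univ := Set.eq_univ_of_forall fun _ => ⟨Tk_self n ▸ mem_univ _, .inr E.two⟩

theorem eps_one {I W : Type} {M : CoxeterMatrix I} [Group W] {cs : CoxeterSystem M W} {ψ : MulAut W} (E : Em cs ψ n b) :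
    E.ε n 1 = sgn E.τ := by
  rw [Em.ε, Tk_self, Em.g, map_one, one_mul]
  rfl

/-- the trivial label -/
theorem step_one (hC : BoxChainT) (Φ : Fm D n b q) (hχ : IsIrrCharacter _ χ) :
    ∃ a : Bip → ℂ, Sh b n (sgn Φ.E.τ) a ∧ ix b n * nr n a ≤ Lab.nr f χ 1 ∧
      (∀ u, Φ.E.Fine n u → yv f χ 1 u = cf univ a (Φ.E.g u)) ∧
      (ix b n * nr n a = 1 → ∀ u, yv f χ 1 u = cf univ a (Φ.E.g u)) := by
  have := Fintype.ofFinite D.W
  have ht : WJ D.cs (Φ.E.J n) = ⊤ := by rw [J_top, WJ, Set.image_univ, D.cs.subgroup_closure_range_simple]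
  have hs : St D 1 = WJ D.cs (Φ.E.J n) := St_one.trans ht.symm
  have hN := nr_N f (χ := χ) Φ.E hs (fx_one 1)
  have h1 := nr_le_one f hχ 1
  obtain ⟨a, e1, e2, e3, e4, e5, e6⟩ := hC Φ.E n le_rfl 1 (yv f χ 1) (fun x => by simp [Tk_self])
    (lv_of_st f Φ.qs (l := 5) (by decide) (isL_one 5) hs (fx_one 1) (Uni.gen_of_irr hχ)) (inv_yv f Φ.E hs)
  rw [eps_one] at e1 e2 e5
  rw [← hN] at e3 e5 e6
  simp only [ht, Subgroup.mem_top, mul_one, forall_const, Tk_self] at e4 e6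
  exact ⟨a, ⟨e1, e2, e3.trans h1, fun h2 h3 j hj h4 => e5 h2 h3 j hj (le_antisymm e3 (h4 ▸ h1))⟩, e3, e4,
    fun h => e6 (le_antisymm e3 (h ▸ h1))⟩

/-- elements of a given type -/
theorem exists_ty (hCj : BoxConj) (Φ : Fm D n b q) {L : List (ℕ × ℤˣ)} (h1 : ∀ c ∈ L, 0 < c.1) (h2 : (L.map fun c => c.1).sum = n)
    (h3 : b = false → (L.map fun c => c.2).prod = sgn Φ.E.τ) : ∃ u, HasTy (Φ.E.g u) univ L := by
  obtain ⟨u, -, hu⟩ := (hCj univ Φ.E.τ fun x => by simp).2.2.2 L h1 (by simp [h2])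
  obtain ⟨w, rfl⟩ := Φ.E.surj u fun hb => by
    have h4 : sgn (u * Φ.E.τ) = _ := ((hCj univ _ hu.stab).1 L hu).2.1
    rwa [h3 hb, map_mul, mul_eq_right] at h4
  exact ⟨w, hu⟩

end Cfsg.Agent.LV.Cl
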