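import Cfsg.Agent.LV.Cl.Co
import Cfsg.Agent.LV.Cl.Conj
import Cfsg.Agent.LV.Cl.Em

/-!
# LV, classical groups: labels and signed permutations, the combinatorics (helper21)
-/

set_option autoImplicit false
set_option linter.unusedSectionVars false
set_option linter.dupNamespace false

namespace Cfsg.Agent.LV.Cl.Lb

open Equiv Finset Cj

variable {n d q : ℕ} {g g' h : SG n} {T A B : Finset (Fin n)} {L L' : List (ℕ × ℤˣ)} {x x' x'' : Fin n → ℂˣ} {i j : Fin n}

/-- the type of the cycles which carry nontrivial labels -/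
def gam (d : ℕ) : ℕ × ℤˣ := if d = 1 then (1, 1) else if d = 2 then (1, -1) else (2, -1)

/-- the types of cycles which occur -/
def Al (d : ℕ) (c : ℕ × ℤˣ) : Prop := c.1 = 1 ∨ (d = 4 ∧ c = (2, -1))

/-- the type of the cycle through a point -/
noncomputable def cty (g : SG n) (i : Fin n) : ℕ × ℤˣ := (#(cyc g.π i), ∏ j ∈ cyc g.π i, g.s j)

theorem wt_eq (g : SG n) (T : Finset (Fin n)) : wt g T = T.val.map (cty g) := rfl

/-! ### the lists -/

theorem syl_al' : ∀ d ∈ [1, 2, 4], ∀ b : Bool, ∀ k ∈ List.range 11, ∀ ε ∈ [(1 : ℤˣ), -1], ∀ L ∈ syl d b k ε,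
    ∀ c ∈ L, 0 < c.1 ∧ (c.1 = 1 ∨ (d = 4 ∧ c = (2, -1))) := by
  decide +kernel

set_option synthInstance.maxSize 1000 in
theorem syl_sum' : ∀ d ∈ [1, 2, 4], ∀ b : Bool, ∀ k ∈ List.range 11, ∀ ε ∈ [(1 : ℤˣ), -1], ∀ L ∈ syl d b k ε,
    (k = 0 → ε = 1) → (L.map fun c => c.1).sum = k ∧ (b = false → (L.map fun c => c.2).prod = ε) := by
  decide +kernel

set_option synthInstance.maxSize 1000 in
theorem syl_cnt' : ∀ d ∈ [1, 2, 4], ∀ b : Bool, ∀ k ∈ List.range 11, ∀ ε ∈ [(1 : ℤˣ), -1], ∀ L ∈ syl d b k ε,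
    ((d = 1 ∧ (k ≤ 4 ∨ (b = false ∧ k = 5 ∧ ε = -1))) ∨ (d = 2 ∧ (k ≤ 4 ∨ (b = false ∧ k = 5 ∧ ε = 1))) ∨
      (d = 4 ∧ (k ≤ 9 ∨ (b = false ∧ k = 10 ∧ ε = 1)))) →
      (L.map fun c => if c = gam d then c.1 else 0).sum ≤ 4 * (gam d).1 := by
  decide +kernel

theorem syl_append' : ∀ d ∈ [1, 2, 4], ∀ b : Bool, ∀ k ∈ List.range 11, ∀ m ∈ List.range 11, ∀ ε ∈ [(1 : ℤˣ), -1],
    ∀ ε' ∈ [(1 : ℤˣ), -1], (k = 0 → ε' = 1) → (b = false → ε = ε' * (gam d).2 ^ m) → ∀ L ∈ syl d b k ε',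
      List.replicate m (gam d) ++ L ∈ syl d b (k + m * (gam d).1) ε := by
  decide +kernel

theorem od_mem (h : Od d q) : d ∈ [1, 2, 4] := by
  rcases h with h | h | h <;> simp [h.1]

theorem unit_mem (ε : ℤˣ) : ε ∈ [(1 : ℤˣ), -1] := by
  rcases Int.units_eq_one_or ε with h | h <;> simp [h]

theorem gam_pos (d : ℕ) : 0 < (gam d).1 := by
  unfold gam
  split_ifs <;> simp

/-! ### cycles -/

theorem cty_mem (h : HasTy g T L) (hi : i ∈ T) : cty g i ∈ L := by
  induction L generalizing T with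
  | nil => exact absurd (hasTy_nil.1 h ▸ hi) (notMem_empty _)
  | cons c L ih =>
    obtain ⟨y, -, -, h2, h3, h4⟩ := hasTy_cons.1 h
    by_cases e : i ∈ cyc g.π y
    · exact List.mem_cons.2 (Or.inl (by rw [cty, cyc_eq e, h2, h3]))
    · exact List.mem_cons_of_mem _ (ih h4 (mem_sdiff.2 ⟨hi, e⟩))

theorem exists_cty (h : HasTy g T L) {c : ℕ × ℤˣ} (hc : c ∈ L) : ∃ i ∈ T, cty g i = c := by
  induction L generalizing T with
  | nil => exact absurd hc List.not_mem_nil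
  | cons c' L ih =>
    obtain ⟨y, hy, -, h2, h3, h4⟩ := hasTy_cons.1 h
    rcases List.mem_cons.1 hc with rfl | e
    · exact ⟨y, hy, by rw [cty, h2, h3]⟩
    · obtain ⟨i, hi, e'⟩ := ih h4 e
      exact ⟨i, (mem_sdiff.1 hi).1, e'⟩

theorem hasTy_append (h : HasTy g A L) (h' : HasTy g B L') (hd : Disjoint A B) : HasTy g (A ∪ B) (L ++ L') := by
  induction L generalizing A with
  | nil => rwa [hasTy_nil.1 h, empty_union, List.nil_append]
  | cons c L ih =>
    obtain ⟨y, hy, h1, h2, h3, h4⟩ := hasTy_cons.1 h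
    refine hasTy_cons.2 ⟨y, mem_union_left _ hy, h1.trans subset_union_left, h2, h3, ?_⟩
    rw [union_sdiff_distrib, (hd.symm.mono_right h1).sdiff_eq_left]
    exact ih h4 (hd.mono_left sdiff_subset)

theorem hasTy_rep (h : Stab A g.π) {c : ℕ × ℤˣ} (hc : ∀ i ∈ A, cty g i = c) : ∃ m, HasTy g A (List.replicate m c) := by
  obtain ⟨L, hL⟩ := exists_hasTy h
  refine ⟨L.length, List.eq_replicate_of_mem (fun c' hc' => ?_) ▸ hL⟩
  obtain ⟨i, hi, rfl⟩ := exists_cty hL hc'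
  exact hc i hi

theorem card_le (h : HasTy g T L) {c : ℕ × ℤˣ} (hA : A ⊆ T) (hc : ∀ i ∈ A, cty g i = c) :
    #A ≤ (L.map fun c' => if c' = c then c'.1 else 0).sum := by
  induction L generalizing T A with
  | nil => exact (card_le_card (hA.trans (hasTy_nil.1 h).le)).trans (Nat.zero_le _)
  | cons c' L ih =>
    obtain ⟨y, -, -, h2, h3, h4⟩ := hasTy_cons.1 h
    have h5 := ih h4 (sdiff_subset_sdiff hA le_rfl) fun i hi => hc i (mem_sdiff.1 hi).1
    rw [List.map_cons, List.sum_cons, ← card_sdiff_add_card_inter A (cyc g.π y), add_comm]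
    refine add_le_add ?_ h5
    split_ifs with e
    · exact h2 ▸ card_le_card inter_subset_right
    · rw [Nat.le_zero, card_eq_zero, eq_empty_iff_forall_notMem]
      intro i hi
      exact e ((hc i (mem_inter.1 hi).1).symm.trans (by rw [cty, cyc_eq (mem_inter.1 hi).2, h2, h3])).symm

theorem cyc_one (h : #(cyc g.π i) = 1) : g.π i = i ∧ cty g i = (1, g.s i) := by
  obtain ⟨a, ha⟩ := card_eq_one.1 h
  have h1 : i = a := mem_singleton.1 (ha ▸ self_mem g.π i)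
  refine ⟨(mem_singleton.1 (ha ▸ (stab_cyc g.π i i).2 (self_mem g.π i))).trans h1.symm, ?_⟩
  rw [cty, h, ha, prod_singleton, h1]

theorem cyc_two (h : #(cyc g.π i) = 2) : g.π (g.π i) = i := by
  have h1 := pow_card g.π i
  rwa [h, pow_two, Perm.mul_apply] at h1

theorem cty_conj (h g : SG n) (i : Fin n) : cty (h * g * h⁻¹) (h.π i) = cty g i := by
  rw [cty, cty, cyc_conj, card_map, prod_conj h (stab_cyc _ _)]

theorem al_conj (h : SG n) (hg : ∀ i, Al d (cty g i)) (i : Fin n) : Al d (cty (h * g * h⁻¹) i) := by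
  obtain ⟨i, rfl⟩ := h.π.surjective i
  rw [cty_conj]
  exact hg i

theorem stab_compl {π : Perm (Fin n)} (h : Stab T π) : Stab Tᶜ π := fun y => by rw [mem_compl, mem_compl, h y]

theorem wt_univ (g : SG n) (T : Finset (Fin n)) : wt g univ = wt g T + wt g Tᶜ := by
  rw [wt_eq, wt_eq, wt_eq, ← Multiset.map_add, ← disjUnion_val _ _ disjoint_compl_right, disjUnion_eq_union, union_compl]

theorem sgn_split (g : SG n) (T : Finset (Fin n)) : sgn g = (∏ j ∈ T, g.s j) * ∏ j ∈ Tᶜ, g.s j :=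
  (prod_mul_prod_compl T g.s).symm

/-- an odd element which commutes with `g` -/
theorem fine (hT : Stab T g.π) (hi : i ∈ T) (h : Al d (cty g i)) : ∃ o ∈ On T, sgn o = -1 ∧ Commute o g := by
  rcases h with h | ⟨-, h⟩
  · refine ⟨tt i, Ey.tt_mem_On.2 hi, Ey.sgn_tt i, ?_⟩
    have h1 := Ey.conj_tt g i
    rw [(cyc_one h).1, mul_inv_eq_iff_eq_mul] at h1
    exact h1.symm
  · have h1 := stab_cyc g.π i
    refine ⟨Ey.res _ g h1, Ey.On_mono (cyc_subset hT hi) (Ey.res_mem h1), (Ey.sgn_res h1).trans (Prod.ext_iff.1 h).2, ?_⟩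
    have h2 := (Commute.refl (Ey.res _ g h1)).mul_right (Ey.commute_On (fun j hj => Ey.res_out h1 hj) (Ey.res_mem h1))
    rwa [mul_inv_cancel_left] at h2

theorem conj_out (hh : h ∈ On T) (hg : Stab T g.π) (hj : j ∉ T) :
    (h * g * h⁻¹).π j = g.π j ∧ (h * g * h⁻¹).s j = g.s j := by
  have h1 := hh j hj
  have h2 := hh _ fun e => hj ((hg j).1 e)
  have h3 := conj_π h g j
  have h4 := conj_s h g j
  rw [h1.1] at h3 h4
  rw [h3, h4, h2.1, h2.2, h1.2, one_mul, mul_one]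
  exact ⟨rfl, rfl⟩

theorem mul_out (hh : h ∈ On T) (hg : Stab T g.π) (hj : j ∉ T) : (h * g).π j = g.π j ∧ (h * g).s j = g.s j := by
  have h2 := hh _ fun e => hj ((hg j).1 e)
  rw [mul_π, mul_s, Perm.mul_apply, h2.1, h2.2, one_mul]
  exact ⟨rfl, rfl⟩

/-! ### labels -/

theorem eq_one_of_five {y : ℂˣ} {k : ℕ} (h : y ^ 5 ^ k = 1) {m : ℤ} (hm : ¬ 5 ∣ m) (hy : y ^ m = 1) : y = 1 := by
  obtain ⟨j, -, hj⟩ := (Nat.dvd_prime_pow Nat.prime_five).1 (orderOf_dvd_of_pow_eq_one h)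
  have h1 := orderOf_dvd_iff_zpow_eq_one.2 hy
  rw [hj] at h1
  cases j with
  | zero => exact orderOf_eq_one_iff.1 hj
  | succ j => exact absurd ((dvd_pow_self (5 : ℤ) j.succ_ne_zero).trans (by exact_mod_cast h1)) hm

theorem Rl.trans (h1 : Rl g x x') (h2 : Rl h x' x'') : Rl (h * g) x x'' := fun j => by
  rw [mul_π, mul_s, Perm.mul_apply, Units.val_mul, zpow_mul, h2, h1]

theorem Rl.symm (h1 : Rl g x x') : Rl g⁻¹ x' x := fun j => by
  obtain ⟨j, rfl⟩ := g.π.surjective j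
  rw [inv_π, inv_s, inv_self, ← h1, ← zpow_mul, ← Units.val_mul, Int.units_mul_self, Units.val_one, zpow_one]

theorem Fq.conj (h1 : Fq q g x) (h2 : Rl h x x') : Fq q (h * g * h⁻¹) x' := fun j => by
  obtain ⟨j, rfl⟩ := h.π.surjective j
  rw [conj_π, conj_s, Units.val_mul, Units.val_mul, ← Rl.symm h2 (h.π j), inv_π, inv_s, inv_self, ← h1 j, ← h2 (g.π j),
    ← zpow_mul, ← zpow_mul]
  congr 1
  ring

theorem Fq.mul (h1 : Fq q g x) (h2 : Rl h x x) : Fq q (h * g) x := fun j => by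
  rw [mul_π, mul_s, Perm.mul_apply, Units.val_mul, ← h1 j, ← h2 (g.π j), ← zpow_mul]
  congr 1
  ring

theorem fq_one : Fq 1 g x ↔ Rl g x x := forall_congr' fun j => by rw [Nat.cast_one, one_mul]

theorem not_dvd (h : Od d q) : ¬ 5 ∣ q := by
  rcases h with h | h | h <;> omega

theorem not_dvd_mul (hq : ¬ 5 ∣ q) (s : ℤˣ) : ¬ (5 : ℤ) ∣ q * s := by
  rcases Int.units_eq_one_or s with h | h <;> rw [h] <;> simp <;> omega

/-- a fixed value -/
theorem dvd_of_fix {y : ℂˣ} {k : ℕ} (h : y ^ 5 ^ k = 1) (hy : y ≠ 1) {m : ℤ} (e : y ^ m = y) : 5 ∣ m - 1 :=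
  by_contra fun h1 => hy (eq_one_of_five h h1 (by rw [zpow_sub, e, zpow_one, mul_inv_cancel]))

theorem cty_gam (hd : Od d q) {k : ℕ} (h5 : x ^ 5 ^ k = 1) (hg : Fq q g x) (ha : Al d (cty g i)) (hi : x i ≠ 1) :
    cty g i = gam d := by
  rcases ha with ha | ⟨rfl, ha⟩
  · obtain ⟨h1, h2⟩ := cyc_one ha
    have h3 := hg i
    rw [h1] at h3
    have h4 := dvd_of_fix (congrFun h5 i) hi h3
    rw [h2]
    rcases Int.units_eq_one_or (g.s i) with e | e <;> rw [e] at h4 ⊢ <;> simp only [Units.val_neg, Units.val_one] at h4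
    · obtain rfl : d = 1 := by rcases hd with h | h | h <;> omega
      rfl
    · obtain rfl : d = 2 := by rcases hd with h | h | h <;> omega
      rfl
  · exact ha

/-- normalised coordinates -/
structure Nm (x : Fin n → ℂˣ) (T : Finset (Fin n)) : Prop where
  five : ∃ k, x ^ 5 ^ k = 1
  one : ∀ i, x i = 1 ↔ i ∈ T
  inv : ∀ i j, i ∉ T → x i * x j ≠ 1

namespace Nm

variable (H : Nm x T)
include H

theorem stab (hq : ¬ 5 ∣ q) (hg : Fq q g x) : Stab T g.π := fun i => by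
  obtain ⟨k, hk⟩ := H.five
  rw [← H.one, ← H.one, ← hg i]
  exact ⟨fun e => by rw [e, one_zpow], eq_one_of_five (congrFun hk _) (not_dvd_mul hq _)⟩

theorem det (hq : ¬ 5 ∣ q) (hg : Fq q g x) (hg' : Fq q g' x) (hi : i ∉ T) (e : x i = x j) :
    x (g.π i) = x (g'.π j) ∧ g.s i = g'.s j := by
  obtain ⟨k, hk⟩ := H.five
  have h1 : ∀ a, x a ^ 5 ^ k = 1 := congrFun hk
  rw [← hg i, ← hg' j] at e
  by_cases h2 : g.s i = g'.s j
  · refine ⟨mul_inv_eq_one.1 (eq_one_of_five (k := k) (by rw [mul_pow, inv_pow, h1, h1, inv_one, mul_one])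
      (not_dvd_mul hq (g.s i)) ?_), h2⟩
    rw [mul_zpow, inv_zpow, e, h2, mul_inv_cancel]
  · refine absurd (eq_one_of_five (k := k) (by rw [mul_pow, h1, h1, mul_one]) (not_dvd_mul hq (g.s i)) ?_)
      (H.inv _ (g'.π j) fun h3 => hi ((H.stab hq hg i).1 h3))
    rw [mul_zpow, e, ← zpow_add, Int.units_ne_iff_eq_neg.1 h2, Units.val_neg, mul_neg, add_neg_cancel, zpow_zero]

theorem rl_iff : Rl g x x ↔ g ∈ Ey.Par T x := by
  refine ⟨fun h => ⟨H.stab (by decide) (fq_one.2 h), fun i hi => ?_⟩, fun h i => ?_⟩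
  · exact H.det (g' := 1) (by decide) (fq_one.2 h) (fq_one.2 fun j => zpow_one _) hi rfl
  · by_cases hi : i ∈ T
    · rw [(H.one _).2 ((h.1 i).2 hi), (H.one _).2 hi, one_zpow]
    · rw [(h.2 i hi).1, (h.2 i hi).2, Units.val_one, zpow_one]

variable (hd : Od d q) (hg : Fq q g x) (ha : ∀ i, Al d (cty g i))
include hd hg ha

theorem cty_eq (hi : i ∉ T) : cty g i = gam d :=
  let ⟨_, hk⟩ := H.five
  cty_gam hd hk hg (ha i) fun e => hi ((H.one i).1 e)

theorem invol (i : Fin n) : g.π (g.π i) = i := by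
  rcases ha i with h | ⟨-, h⟩
  · rw [(cyc_one h).1, (cyc_one h).1]
  · exact cyc_two (Prod.ext_iff.1 h).1

theorem ne_four (hi : i ∉ T) (e : x (g.π i) = x i) : d ≠ 4 := by
  obtain ⟨k, hk⟩ := H.five
  have h3 := hg i
  rw [e] at h3
  have h4 := dvd_of_fix (congrFun hk i) (fun e => hi ((H.one i).1 e)) h3
  rcases Int.units_eq_one_or (g.s i) with e | e <;> rw [e] at h4 <;> simp only [Units.val_neg, Units.val_one] at h4 <;>
    rcases hd with h | h | h <;> omega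

theorem sep (hi : i ∉ T) (e : x (g.π i) = x i) : g.π i = i :=
  (cyc_one ((ha i).resolve_right fun h => H.ne_four hd hg ha hi e h.1)).1

theorem wt_compl : wt g Tᶜ = Multiset.replicate #Tᶜ (gam d) :=
  Multiset.eq_replicate.2 ⟨Multiset.card_map _ _, fun c hc => by
    obtain ⟨i, hi, rfl⟩ := Multiset.mem_map.1 hc
    exact H.cty_eq hd hg ha (mem_compl.1 hi)⟩

/-- **Fusion.** -/
theorem fus (hg' : Fq q g' x) (e : g = h * g' * h⁻¹) : ∃ u, sgn u = 1 ∧ Rl u x x ∧ g = u * g' * u⁻¹ := by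
  classical
  have hq := not_dvd hd
  have ha' : ∀ i, Al d (cty g' i) := fun i => by rw [← cty_conj h, ← e]; exact ha _
  have hs := H.stab hq hg
  have hs' := H.stab hq hg'
  have e1 : wt g' T = wt g T := by
    have h1 := wt_conj h g' univ
    rw [map_univ_equiv, ← e, wt_univ g T, wt_univ g' T, H.wt_compl hd hg ha, H.wt_compl hd hg' ha'] at h1
    exact (add_right_cancel h1).symm
  obtain ⟨a, haT, ea⟩ := exists_conj hs' hs e1
  obtain ⟨_, -⟩ := exists_wellFoundedLT ℂˣ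
  let φ : Fin n → Fin n := fun i => if x i ≤ x (g.π i) then i else g.π (g'.π i)
  have i1 := H.invol hd hg ha
  have i2 := H.invol hd hg' ha'
  have h1 : ∀ i, i ∉ T → x (g.π i) = x (g'.π i) := fun i hi => (H.det hq hg hg' hi rfl).1
  have h2 : ∀ i, i ∉ T → x (g.π (g'.π i)) = x i := fun i hi => by rw [h1 _ (mt (hs' i).1 hi), i2]
  have h3 : ∀ i, i ∉ T → x (φ i) = x i := fun i hi => by
    simp only [φ]
    split_ifs
    · rfl
    · exact h2 i hi
  have h4 : ∀ i, i ∉ T → φ i ∉ T := fun i hi => by rwa [← H.one, h3 i hi, H.one]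
  have h5 : Set.InjOn φ (Tᶜ : Finset (Fin n)) := fun i hi j hj e2 => by
    have hi' : i ∉ T := mem_compl.1 hi
    have e3 : x i = x j := by rw [← h3 i hi', e2, h3 j (mem_compl.1 hj)]
    have e4 := (H.det hq hg hg hi' e3).1
    simp only [φ, ← e3, ← e4] at e2
    split_ifs at e2
    · exact e2
    · exact g'.π.injective (g.π.injective e2)
  have h6 : ∀ i, i ∉ T → φ (g'.π i) = g.π (φ i) := fun i hi => by
    simp only [φ, h2 i hi, ← h1 i hi, i2]
    split_ifs with c1 c2 c2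
    · have e2 := le_antisymm c1 c2
      rw [H.sep hd hg ha hi e2, H.sep hd hg' ha' hi ((h1 i hi).symm.trans e2)]
    · rw [i1]
    · rfl
    · exact absurd (le_of_not_ge c1) c2
  obtain ⟨u, hu, eu⟩ := exists_on h5 (fun j hj => mem_compl.2 (h4 j (mem_compl.1 hj))) 1
  have eu' : ∀ i, i ∉ T → u.π i = φ i ∧ u.s i = 1 := fun i hi => eu i (mem_compl.2 hi)
  have hu' : ∀ i ∈ T, u.π i = i ∧ u.s i = 1 := fun i hi => hu i (by simpa using hi)
  have h7 : u ∈ Ey.Par T x := ⟨fun i => by simpa using not_congr (stab_on hu i), fun i hi => by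
    rw [(eu' i hi).1, h3 i hi]; exact ⟨rfl, (eu' i hi).2⟩⟩
  have h8 : sgn u = 1 := (Ey.sgn_apply u).trans
    (prod_eq_one fun i _ => (em (i ∈ T)).elim (fun hi => (hu' i hi).2) fun hi => (eu' i hi).2)
  have h9 : g = a * u * g' * (a * u)⁻¹ := by
    have s1 : Stab T (u * g' * u⁻¹).π := Ey.stab_mul (Ey.stab_mul h7.1 hs') (Ey.stab_inv h7.1)
    have k1 : ∀ j, g.π j = (a * (u * g' * u⁻¹) * a⁻¹).π j ∧ g.s j = (a * (u * g' * u⁻¹) * a⁻¹).s j := fun j => by
      by_cases hj : j ∈ T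
      · rw [← (ea j hj).1, ← (ea j hj).2]
        obtain ⟨j, rfl⟩ := a.π.surjective j
        have k2 := conj_out hu (stab_compl hs') (j := j) (by simpa using (stab_on haT j).1 hj)
        rw [conj_π, conj_π, conj_s, conj_s, k2.1, k2.2]
        exact ⟨rfl, rfl⟩
      · rw [(conj_out haT s1 hj).1, (conj_out haT s1 hj).2]
        obtain ⟨j, rfl⟩ := u.π.surjective j
        have k2 : j ∉ T := mt (h7.1 j).2 hj
        have k3 := eu' _ (mt (hs' j).1 k2)
        rw [conj_π, conj_s, k3.1, k3.2, (eu' j k2).1, (eu' j k2).2, h6 j k2, one_mul, mul_one]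
        exact ⟨rfl, (H.det hq hg hg' (h4 j k2) (h3 j k2)).2⟩
    rw [show a * u * g' * (a * u)⁻¹ = a * (u * g' * u⁻¹) * a⁻¹ by group]
    exact SG.ext (Equiv.ext fun j => (k1 j).1) (funext fun j => (k1 j).2)
  have h10 : a * u ∈ Ey.Par T x := mul_mem (Ey.On_le_Par T x haT) h7
  rcases Int.units_eq_one_or (sgn a) with c | c
  · exact ⟨a * u, by rw [map_mul, c, h8, one_mul], H.rl_iff.2 h10, h9⟩
  · rcases T.eq_empty_or_nonempty with rfl | ⟨i, hi⟩
    · rw [Ey.sgn_On haT, prod_empty] at c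
      exact absurd c (by decide)
    obtain ⟨o, ho, so, co⟩ := fine hs hi (ha i)
    refine ⟨o * (a * u), by rw [map_mul, map_mul, so, c, h8]; rfl, H.rl_iff.2 (mul_mem (Ey.On_le_Par T x ho) h10), ?_⟩
    rw [show o * (a * u) * g' * (o * (a * u))⁻¹ = o * (a * u * g' * (a * u)⁻¹) * o⁻¹ by group, ← h9, co.eq,
      mul_inv_cancel_right]

end Nm

end Cfsg.Agent.LV.Cl.Lb
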