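import Cfsg.Agent.LV.Cl.Fm
import Cfsg.Agent.LV.Lab.Std

/-!
# LV: the level theorem for a label whose stabiliser is a standard parabolic subgroup (helper50)
-/

set_option autoImplicit false
set_option linter.unusedSectionVars false
set_option linter.dupNamespace false

namespace Cfsg.Agent.LV.Cl

open Cfsg Cfsg.Agent.DL Cfsg.Agent.DL.PP Cfsg.Agent.KZ.Lie Cfsg.Agent.Tits.Core Cfsg.Agent.Tits.Roots
  Cfsg.Agent.Tits.Exchange Cfsg.Agent.LV.T Cfsg.Agent.LV.Blk Cfsg.Agent.ChevalleyStructure.CoxeterGeom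
  Cfsg.Agent.Nodes.Coroot Cfsg.Agent.LV.Lab Matrix

variable {p : ℕ} [Fact p.Prime] {k : Type} [Field k] [CharP k p] {Y : Type} [Group Y] {N : Type} [Fintype N]
  [DecidableEq N] {ρ : Y →* GL N k} {F : MulAut Y} {G : Subgroup Y} [IsAlgClosed k] {D : Datum p ρ F G}
  {K : Set D.I} {l : ℕ} {c : Lbl D} {w : D.W}

theorem act_coord {u : D.W} (hu : u ∈ WJ D.cs K) {i : D.I} (hi : i ∉ K) (b : D.I → ℤ) : D.act u b i = b i := by
  induction hu using Subgroup.closure_induction generalizing b with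
  | mem x hx =>
    obtain ⟨j, hj, rfl⟩ := hx
    rw [← D.rf_sr, D.act_rf (isRoot_sr _ _ j), Pi.sub_apply, Pi.smul_apply, sr_ne (show i ≠ j from fun e => hi (e ▸ hj)), smul_zero, sub_zero]
  | one => rw [CF.act_one]
  | mul x y _ _ hx hy => rw [CF.act_mul, hx, hy]
  | inv x _ hx => rw [← hx (D.act x⁻¹ b), ← CF.act_mul, mul_inv_cancel, CF.act_one]

theorem rf_mem_iff {a : D.I → ℤ} (ha : D.Rt a) : D.rf a ∈ WJ D.cs K ↔ ∀ i, i ∉ K → a i = 0 := by
  classical
  refine ⟨fun h i hi => ?_, fun h => ?_⟩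
  · have h1 := act_coord h hi a
    rw [D.act_rf_self ha, Pi.neg_apply] at h1
    omega
  · let L : (D.I → ℤ) →+ ℤ := ∑ i with i ∉ K, Pi.evalAddMonoidHom (fun _ => ℤ) i
    have hL : ∀ b, L b = ∑ i with i ∉ K, b i := fun b => by simp [L]
    refine CF.mem_of_fix_dom D L (fun i => ?_) (fun i hi => simple_mem_WJ _ (by_contra fun e => ?_)) _ fun b => ?_
    · rw [hL]
      exact Finset.sum_nonneg fun j _ => sr_nonneg i j
    · rw [hL, Finset.sum_eq_zero_iff_of_nonneg fun j _ => sr_nonneg i j] at hi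
      have := hi i (by simpa using e)
      rw [sr_self] at this
      exact one_ne_zero this
    · rw [D.act_rf ha, map_sub, map_zsmul, hL a, Finset.sum_eq_zero fun i hi => h i (by simpa using hi), smul_zero, sub_zero]

theorem cor_iff (hl : Odd l) (hc : IsL l c) {a : D.I → ℤ} (ha : D.Rt a) : chr (D.cor a) c = 1 ↔ Rel D (D.rf a) c c := by
  refine ⟨rel_rf ha, fun h => ?_⟩
  have h1 := h (D.cor a)
  rw [← D.cor_act _ ha, D.act_rf_self ha, D.cor_neg ha] at h1
  have h2 : chr (D.cor a) c ^ 2 = 1 := by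
    have h3 : chr (-D.cor a) c * chr (D.cor a) c = 1 := by
      rw [chr_apply, chr_apply, ← Finset.prod_mul_distrib]
      exact Finset.prod_eq_one fun j _ => by rw [Pi.neg_apply, _root_.zpow_neg, inv_mul_cancel]
    rw [sq]
    nth_rw 1 [← h1]
    exact h3
  obtain ⟨j, hj⟩ := hc
  have h4 : chr (D.cor a) c ^ l ^ j = 1 := by rw [← map_pow, hj, map_one]
  obtain ⟨m, hm⟩ := hl.pow (n := j)
  rwa [hm, pow_succ, pow_mul, h2, one_pow, one_mul] at h4

/-- the level theorem, `l` odd -/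
theorem lv_of_st (f : Fr D) [Fintype ↥(GF F G)] [Fintype D.W] (hq : D.QS) (hl : Odd l) (hc : IsL l c)
    (hs : St D c = WJ D.cs K) (hw : Fx D w c) {χ : ↥(GF F G) → ℂ} (hχ : IsGeneralizedCharacter _ χ) :
    Lv D.cs D.Fw K w (yv f χ c) := by
  have h2 : ∀ u, Rel D u c c ↔ u ∈ WJ D.cs K := fun u => hs ▸ Iff.rfl
  obtain ⟨x, hx, w₁, rfl, h⟩ := std_of hq (fun a ha => by rw [cor_iff hl hc ha, h2, rf_mem_iff ha]) h2 hw
  exact (h.lv f hq hχ).mono le_rfl hx

theorem boxLvK : BoxLvK := fun f _ _ _ _ _ Φ _ _ _ hc hs hw _ hχ => lv_of_st f Φ.qs (by decide) hc hs hw hχ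

end Cfsg.Agent.LV.Cl
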