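import Cfsg.Agent.LV.Cl.Defs
import Cfsg.Agent.KZ.Sym.Main
import Cfsg.Agent.Characters.DegreeBounds
import Mathlib.GroupTheory.Perm.ClosureSwap
import Mathlib.Data.Fin.Tuple.Sort

/-!
# LV, classical groups: the components along a symmetric group (helper45)

`St`: `W_A` is the product of `W_B` and of one or two symmetric groups; `St.step`: the decomposition of a function on `W_A w`.
-/

set_option autoImplicit false
set_option linter.unusedSectionVars false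
set_option linter.dupNamespace false

namespace Cfsg.Agent.LV.Cl

open Equiv Finset Cfsg Cfsg.Agent.Tits.Exchange Cfsg.Agent.Tits.Core Cfsg.Agent.KZ.Sym Cfsg.Agent.Characters.Core

namespace Pl

/-! ### averages and Young subgroups -/

theorem avg_eq {W T 𝕜 : Type*} [Group W] [Fintype W] [Fintype T] [Nonempty T] [Field 𝕜] [CharZero 𝕜] (S : Subgroup W)
    (t : T → W) (ht : ∀ τ, t τ ∈ S) (F : W → 𝕜) (h : ∀ x ∈ S, ∑ τ, F (t τ * x) = ∑ τ, F (t τ)) :
    (Nat.card S : 𝕜)⁻¹ * ∑ᶠ x : S, F x = (Nat.card T : 𝕜)⁻¹ * ∑ τ, F (t τ) := by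
  classical
  have h1 : ∑ τ, ∑ x : S, F (t τ * x) = Nat.card T * ∑ x : S, F x := by
    rw [Finset.sum_congr rfl fun τ _ => Fintype.sum_equiv (Equiv.mulLeft (⟨t τ, ht τ⟩ : S)) (fun x : S => F (t τ * x))
      (fun x : S => F x) fun _ => rfl, sum_const, nsmul_eq_mul, card_univ, Nat.card_eq_fintype_card]
  rw [sum_comm, Finset.sum_congr rfl fun (x : S) _ => h x x.2, sum_const, nsmul_eq_mul, card_univ, ← Nat.card_eq_fintype_card] at h1
  have h2 : (Nat.card S : 𝕜) ≠ 0 := Nat.cast_ne_zero.2 Nat.card_pos.ne'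
  have h3 : (Nat.card T : 𝕜) ≠ 0 := Nat.cast_ne_zero.2 Nat.card_pos.ne'
  rw [finsum_eq_sum_of_fintype, inv_mul_eq_iff_eq_mul₀ h2, mul_left_comm, h1, inv_mul_cancel_left₀ h3]

section perm

variable {α : Type} [Fintype α] [LinearOrder α]

theorem exists_sort {β : Type} [LinearOrder β] (c : α → β) : ∃ p : Perm α, Monotone (c ∘ p) := by
  let e := monoEquivOfFin α rfl
  refine ⟨(e.toEquiv.symm.trans (Tuple.sort (c ∘ e))).trans e.toEquiv, fun x y hxy => ?_⟩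
  exact Tuple.monotone_sort (c ∘ e) (e.symm.monotone hxy)

/-- the Young subgroup of a monotone colouring is generated by neighbouring transpositions -/
theorem yg_le {c : α → ℕ} (hc : Monotone c) (H : Subgroup (Perm α)) (hH : ∀ x y, x ⋖ y → c x = c y → swap x y ∈ H) :
    Yg c ≤ H := by
  intro h hh
  let S : Set (Perm α) := {s | ∃ x y, x ⋖ y ∧ c x = c y ∧ s = swap x y}
  have h1 : Subgroup.closure S ≤ H := (Subgroup.closure_le _).2 (by
    rintro _ ⟨x, y, h1, h2, rfl⟩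
    exact hH x y h1 h2)
  have h2 : ∀ y x, x ≤ y → c x = c y → y ∈ MulAction.orbit (Subgroup.closure S) x := fun y => by
    induction y using WellFoundedLT.induction with
    | ind y ih =>
      intro x h3 h4
      rcases h3.eq_or_lt with rfl | h5
      · exact MulAction.mem_orbit_self _
      · obtain ⟨z, h6, h7⟩ := exists_le_covBy_of_lt h5
        have h8 : c x = c z := le_antisymm (hc h6) (h4 ▸ hc h7.le)
        obtain ⟨g, hg⟩ := ih z h7.lt x h6 h8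
        refine ⟨⟨swap z y, Subgroup.subset_closure ⟨z, y, h7, h8 ▸ h4, rfl⟩⟩ * g, ?_⟩
        have hg' : g • x = z := hg
        show (_ * g) • x = y
        rw [mul_smul, hg']
        exact swap_apply_left z y
  refine h1 ((mem_closure_isSwap (by
    rintro _ ⟨x, y, h1, -, rfl⟩
    exact ⟨x, y, h1.ne, rfl⟩)).2 ⟨Set.toFinite _, fun x => ?_⟩)
  rcases le_total x (h x) with h3 | h3
  · exact h2 _ _ h3 (hh x).symm
  · exact MulAction.mem_orbit_symm.1 (h2 _ _ h3 (hh x))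

/-- `young` with monotone colourings -/
theorem young_mono {V : Type*} [AddCommGroup V] [Module ℂ V] (Λ : AddSubgroup V) (r : Perm α → V)
    (hr : ∀ g h, r (h * g * h⁻¹) = r g)
    (hY : ∀ c : α → ℕ, Monotone c → (Nat.card (Yg c) : ℂ)⁻¹ • ∑ᶠ u : Yg c, r u ∈ Λ)
    {μ : Perm α → ℂ} (hμ : IsIrrCharacter (Perm α) μ) : (Nat.card (Perm α) : ℂ)⁻¹ • ∑ g, μ g • r g ∈ Λ := by
  refine young Λ r hr (fun f => ?_) hμ
  obtain ⟨p, hp⟩ := exists_sort fun x => (f x : ℕ)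
  let e : Yg ((fun x => (f x : ℕ)) ∘ p) ≃ Yg f := (MulAut.conj p).toEquiv.subtypeEquiv fun u => by
    simp only [mem_Yg, Function.comp, Fin.val_inj, MulEquiv.toEquiv_eq_coe, EquivLike.coe_coe, MulAut.conj_apply,
      Perm.mul_apply]
    exact ⟨fun h x => by simpa using h (p⁻¹ x), fun h x => by simpa using h (p x)⟩
  have h := hY _ hp
  rwa [Nat.card_congr e, finsum_congr (g := fun u => r (e u)) fun u : Yg _ => (hr u p).symm,
    finsum_comp_equiv e (f := fun u : Yg f => r u)] at h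

theorem deg {l : ℕ} (hl : l.Prime) (hα : Fintype.card α < l) (μ : IrrCharacter (Perm α)) :
    ∃ m : ℤ, μ.1 1 = m ∧ ¬ (l : ℤ) ∣ m := by
  obtain ⟨_, d, ρ, h1, rfl⟩ := μ
  have h2 := Characters.DegreeBounds.finrank_dvd_card ρ
  refine ⟨(Module.finrank ℂ (Fin d → ℂ) : ℕ), by simp, fun h => ?_⟩
  have h3 := (Int.natCast_dvd_natCast.1 h).trans h2
  rw [Nat.card_eq_fintype_card, Fintype.card_perm, hl.dvd_factorial] at h3
  omega

end perm

/-! ### one step -/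

variable {I W : Type} {M : CoxeterMatrix I} [Group W] {cs : CoxeterSystem M W} [Fintype W] {ψ : MulAut W} {n : ℕ} {b : Bool}
  (E : Em cs ψ n b)

/-- `y` is a combination of functions on the smaller coset, with coefficients which satisfy `Q` -/
def Dec (Q : ℤ → Prop) (A B : Set I) (w : W) (y : W → ℂ) : Prop :=
  ∃ (ι : Type) (_ : Fintype ι) (_ : Nonempty ι) (m : ι → ℤ) (z : ι → W → ℂ),
    (∀ i, Q (m i) ∧ T.Lv cs ψ B w (z i) ∧ E.Inv B w (z i)) ∧
    (∀ x ∈ WJ cs B, y (x * w) = ∑ i, m i * z i (x * w)) ∧ ∑ i, E.N B w (z i) ≤ E.N A w y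

variable {E} {l : ℕ} {Q : ℤ → Prop} {A B C : Set I} {w : W} {y : W → ℂ}

theorem Dec.refl (hQ : Q 1) (h1 : T.Lv cs ψ A w y) (h2 : E.Inv A w y) : Dec E Q A A w y :=
  ⟨Unit, inferInstance, inferInstance, fun _ => 1, fun _ => y, fun _ => ⟨hQ, h1, h2⟩, fun _ _ => by simp, by simp⟩

theorem Dec.trans (hQ : ∀ a a', Q a → Q a' → Q (a * a')) (hC : C ⊆ B) (h1 : Dec E Q A B w y)
    (h2 : ∀ z, T.Lv cs ψ B w z → E.Inv B w z → Dec E Q B C w z) : Dec E Q A C w y := by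
  obtain ⟨ι, _, ⟨i₀⟩, m, z, h3, h4, h5⟩ := h1
  choose κ hκ hκ' m' z' h6 h7 h8 using fun i => h2 (z i) (h3 i).2.1 (h3 i).2.2
  refine ⟨Σ i, κ i, inferInstance, ⟨⟨i₀, (hκ' i₀).some⟩⟩, fun p => m p.1 * m' p.1 p.2, fun p => z' p.1 p.2,
    fun p => ⟨hQ _ _ (h3 _).1 (h6 _ _).1, (h6 _ _).2⟩, fun x hx => ?_, ?_⟩
  · rw [h4 x (WJ_mono cs hC hx), Fintype.sum_sigma]
    exact sum_congr rfl fun i _ => by simp only [h7 i x hx, mul_sum, Int.cast_mul, mul_assoc]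
  · rw [Fintype.sum_sigma]
    exact (sum_le_sum fun i _ => h8 i).trans h5

variable {α : Type} [Fintype α] [LinearOrder α]

variable (cs ψ) in
/-- `W_A` is the product of `W_B` and of one or two symmetric groups, which `w ψ` fixes or interchanges -/
structure St (A B : Set I) (w : W) (ι κ : Perm α →* W) : Prop where
  sub : B ⊆ A
  tw : ∀ h, w * ψ (ι h) * w⁻¹ = κ h
  tw' : ∀ h, w * ψ (κ h) * w⁻¹ = ι h
  alt : ι = κ ∨ ∀ h h', Commute (ι h) (κ h')
  comm : ∀ j ∈ B, ∀ h, Commute (ι h) (cs.simple j) ∧ Commute (κ h) (cs.simple j)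
  gen : ∀ i ∈ A, i ∈ B ∨ ∃ h, cs.simple i = ι h ∨ cs.simple i = κ h
  cov : ∀ x y : α, x ⋖ y → (∃ i ∈ A, cs.simple i = ι (swap x y)) ∧ ∃ i ∈ A, cs.simple i = κ (swap x y)

namespace St

variable {ι κ : Perm α →* W} (S : St cs ψ A B w ι κ)
include S

theorem comm' {x : W} (hx : x ∈ WJ cs B) (h : Perm α) : Commute (ι h) x ∧ Commute (κ h) x := by
  obtain ⟨ω, h1, rfl⟩ := exists_word_of_mem_WJ cs hx
  clear hx
  induction ω with
  | nil => simp
  | cons j ω ih =>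
    have h2 := ih fun i hi => h1 i (by simp [hi])
    have h3 := S.comm j (h1 j (by simp)) h
    rw [CoxeterSystem.wordProd_cons]
    exact ⟨h3.1.mul_right h2.1, h3.2.mul_right h2.2⟩

theorem dec {K B' : Set I} (hB : B' ⊆ B) {Y : Subgroup (Perm α)}
    (hK : ∀ i ∈ K, i ∈ B' ∨ ∃ h ∈ Y, cs.simple i = ι h ∨ cs.simple i = κ h) {x : W} (hx : x ∈ WJ cs K) :
    ∃ h₁ ∈ Y, ∃ h₂ ∈ Y, ∃ v ∈ WJ cs B', x = ι h₁ * κ h₂ * v := by
  obtain ⟨ω, h1, rfl⟩ := exists_word_of_mem_WJ cs hx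
  clear hx
  induction ω with
  | nil => exact ⟨1, one_mem _, 1, one_mem _, 1, one_mem _, by simp⟩
  | cons j ω ih =>
    obtain ⟨h₁, m1, h₂, m2, v, m3, e⟩ := ih fun i hi => h1 i (by simp [hi])
    rw [CoxeterSystem.wordProd_cons, e]
    rcases hK j (h1 j (by simp)) with hj | ⟨h, hh, e' | e'⟩
    · refine ⟨h₁, m1, h₂, m2, _, mul_mem (simple_mem_WJ cs hj) m3, ?_⟩
      rw [← mul_assoc, ← mul_assoc _ _ v, ((S.comm j (hB hj) h₁).1.mul_left (S.comm j (hB hj) h₂).2).eq]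
    · exact ⟨_, mul_mem hh m1, h₂, m2, v, m3, by simp only [e', map_mul, mul_assoc]⟩
    · rcases S.alt with e2 | e2
      · exact ⟨_, mul_mem hh m1, h₂, m2, v, m3, by simp only [e', e2, map_mul, mul_assoc]⟩
      · exact ⟨h₁, m1, _, mul_mem hh m2, v, m3, by
          rw [e', map_mul, ← mul_assoc, ← mul_assoc, ← (e2 h₁ h).eq, mul_assoc (ι h₁)]⟩

theorem yg {c : α → ℕ} (hc : Monotone c) : ∃ K ⊆ A, (∀ i ∈ K, ∃ h ∈ Yg c, cs.simple i = ι h ∨ cs.simple i = κ h) ∧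
    ∀ h ∈ Yg c, ι h ∈ WJ cs K ∧ κ h ∈ WJ cs K := by
  refine ⟨{i | i ∈ A ∧ ∃ h ∈ Yg c, cs.simple i = ι h ∨ cs.simple i = κ h}, fun i hi => hi.1, fun i hi => hi.2, fun h hh => ?_⟩
  refine yg_le hc ((WJ cs _).comap ι ⊓ (WJ cs _).comap κ) (fun x y h1 h2 => ?_) hh
  have h3 : swap x y ∈ Yg c := fun z => by
    rw [swap_apply_def]
    split_ifs with e e' <;> simp [*]
  obtain ⟨⟨i, h4, h5⟩, j, h6, h7⟩ := S.cov x y h1
  rw [Subgroup.mem_inf, Subgroup.mem_comap, Subgroup.mem_comap, ← h5, ← h7]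
  exact ⟨simple_mem_WJ cs ⟨h4, _, h3, .inl h5⟩, simple_mem_WJ cs ⟨h6, _, h3, .inr h7⟩⟩

theorem mem (h : Perm α) : ι h ∈ WJ cs A ∧ κ h ∈ WJ cs A := by
  obtain ⟨K, h1, -, h2⟩ := S.yg (c := fun _ => 0) monotone_const
  exact (h2 h fun _ => rfl).imp (WJ_mono cs h1 ·) (WJ_mono cs h1 ·)

theorem e1 (hi : E.Inv A w y) (h₁ h₂ : Perm α) {v : W} (hv : v ∈ WJ cs B) :
    y (ι h₁ * κ h₂ * v * w) = y (ι (h₂ * h₁) * (v * w)) := by
  rw [← hi _ (S.mem h₂).1 _ (mul_mem (mul_mem (S.mem h₁).1 (S.mem h₂).2) (WJ_mono cs S.sub hv)), mul_assoc (ι h₁),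
    (S.comm' hv h₂).2.eq, ← S.tw]
  simp only [map_mul, mul_assoc, inv_mul_cancel, mul_inv_cancel, mul_one]

theorem e2 (hi : E.Inv A w y) (h₁ h₂ : Perm α) {v : W} (hv : v ∈ WJ cs B) :
    y (ι h₁ * κ h₂ * v * w) = y (ι (h₁ * h₂) * (v * w)) := by
  rcases S.alt with e | e
  · rw [← e, map_mul, mul_assoc]
  · rw [← mul_assoc (ι _), ← hi _ (S.mem h₂).2 _ (mul_mem (S.mem (h₁ * h₂)).1 (WJ_mono cs S.sub hv)),
      map_mul, mul_assoc (ι h₁) (ι h₂), (S.comm' hv h₂).1.eq, (e h₁ h₂).eq, ← S.tw' h₂]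
    simp only [mul_assoc, inv_mul_cancel, mul_inv_cancel, mul_one]

theorem sum_eq {V : Type*} [AddCommMonoid V] (φ : ℂ → V) (hi : E.Inv A w y) {Y : Subgroup (Perm α)} [Fintype Y] {h₁ h₂ : Perm α}
    (m1 : h₁ ∈ Y) (m2 : h₂ ∈ Y) {v : W} (hv : v ∈ WJ cs B) :
    ∑ τ : Y, φ (y (ι τ * (ι h₁ * κ h₂ * v) * w)) = ∑ τ : Y, φ (y (ι τ * (v * w))) :=
  Fintype.sum_equiv (Equiv.mulRight (⟨h₁ * h₂, mul_mem m1 m2⟩ : Y)) _ _ fun τ => by
    rw [← mul_assoc, ← mul_assoc, ← map_mul, S.e2 hi _ _ hv, mul_assoc]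
    rfl

theorem cls (hi : E.Inv A w y) {v : W} (hv : v ∈ WJ cs B) : IsClassFunction (Perm α) fun h => y (ι h * (v * w)) := fun g h => by
  show y _ = y _
  rw [← S.e2 hi _ _ hv, S.e1 hi _ _ hv, inv_mul_cancel_left]

omit S in
variable (ι) in
/-- the component of `y` along `μ` -/
noncomputable def ym (μ : Perm α → ℂ) (y : W → ℂ) (u : W) : ℂ := (Nat.card (Perm α) : ℂ)⁻¹ * ∑ h, μ h * y (ι h * u)

omit S in
theorem ym_eq {μ : Perm α → ℂ} (hμ : IsIrrCharacter (Perm α) μ) (u : W) :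
    ym ι μ y u = classInner (fun h => y (ι h * u)) μ := by
  rw [classInner_def, ym]
  congr 1
  refine sum_congr rfl fun h _ => ?_
  obtain ⟨z, hz⟩ := irr_int hμ h
  rw [hz, map_intCast, mul_comm]

theorem inv_ym (hi : E.Inv A w y) (μ : Perm α → ℂ) : E.Inv B w (ym ι μ y) := fun v hv x hx => by
  rw [ym, ym]
  congr 1
  refine sum_congr rfl fun h _ => ?_
  rw [← mul_assoc (ι h) x, ← hi v (WJ_mono cs S.sub hv) _ (mul_mem (S.mem h).1 (WJ_mono cs S.sub hx)), ← mul_assoc (ι h),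
    ← mul_assoc (ι h), (S.comm' hv h).1.eq]
  simp only [mul_assoc]

theorem lv_ym (hA : BoxAvg) (hψ : T.Aut cs ψ) (hy : T.Lv cs ψ A w y) (hi : E.Inv A w y) {μ : Perm α → ℂ}
    (hμ : IsIrrCharacter (Perm α) μ) : T.Lv cs ψ B w (ym ι μ y) := by
  classical
  let Λ : AddSubgroup (WJ cs B → ℂ) :=
    { carrier := {F | ∃ z, T.Lv cs ψ B w z ∧ ∀ v, F v = z (v * w)}
      zero_mem' := ⟨0, T.Lv.zero, fun _ => rfl⟩
      add_mem' := fun ⟨z, h1, h2⟩ ⟨z', h3, h4⟩ => ⟨z + z', h1.add h3, fun v => by simp [h2, h4]⟩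
      neg_mem' := fun ⟨z, h1, h2⟩ => ⟨-z, h1.neg, fun v => by simp [h2]⟩ }
  obtain ⟨z, h1, h2⟩ := young_mono Λ (fun h v => y (ι h * (v * w))) (fun g h => funext fun v => S.cls hi v.2 g h)
    (fun c hc => by
      obtain ⟨K, h1, h2, h3⟩ := S.yg hc
      have h4 : ∀ x ∈ WJ cs K, ∃ h₁ ∈ Yg c, ∃ h₂ ∈ Yg c, ∃ v ∈ WJ cs ∅, x = ι h₁ * κ h₂ * v := fun x hx =>
        S.dec (Set.empty_subset _) (fun i hi => .inr (h2 i hi)) hx
      have h5 : ∀ v ∈ WJ cs (∅ : Set I), v = 1 := fun v hv => by simpa [WJ] using hv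
      have h6 := hA cs ψ hψ (J := K ∪ B) (K := K) (w := w) (y := y)
        (by simpa using hy.mono (Set.union_subset h1 S.sub) (one_mem _)) Set.subset_union_left (fun i hi j hj hj' => by
          obtain ⟨h, -, e | e⟩ := h2 i hi <;> rw [e]
          exacts [(S.comm j (hj.resolve_left hj') h).1, (S.comm j (hj.resolve_left hj') h).2])
        fun x hx => by
          obtain ⟨h₁, m1, h₂, m2, v, hv, rfl⟩ := h4 x hx
          have h7 := mul_mem (h3 h₁ m1).2 (h3 h₂ m2).1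
          rw [← S.tw h₁, ← S.tw' h₂] at h7
          simpa [h5 v hv, mul_assoc] using h7
      refine ⟨_, one_mul w ▸ h6.mono Set.subset_union_right (one_mem _), fun v => ?_⟩
      have h7 := avg_eq (WJ cs K) (fun τ : Yg c => ι τ) (fun τ => (h3 τ τ.2).1) (fun x => y (x * (v * w))) fun x hx => by
        obtain ⟨h₁, m1, h₂, m2, v', hv, rfl⟩ := h4 x hx
        simpa only [h5 v' hv, mul_one, mul_assoc, id] using S.sum_eq id hi m1 m2 v.2
      rw [finsum_eq_sum_of_fintype, Pi.smul_apply, Finset.sum_apply, smul_eq_mul, ← h7, finsum_eq_sum_of_fintype,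
        ← Finset.sum_subtype (p := fun v => v ∈ WJ cs K) {v | v ∈ WJ cs K} (fun v => by simp) fun x => y (x * (v * w))]) hμ
  refine h1.congr fun x hx => ?_
  rw [← h2 ⟨x, hx⟩, Pi.smul_apply, Finset.sum_apply]
  rfl

theorem step (hA : BoxAvg) (hψ : T.Aut cs ψ) (hl : l.Prime) (hα : Fintype.card α < l) (hy : T.Lv cs ψ A w y)
    (hi : E.Inv A w y) : Dec E (fun m => ¬ (l : ℤ) ∣ m) A B w y := by
  classical
  have := finite_irr (G := Perm α)
  have := Fintype.ofFinite (IrrCharacter (Perm α))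
  choose m h1 h2 using deg hl hα
  refine ⟨IrrCharacter (Perm α), inferInstance, ⟨⟨_, Blocks.Basic.isIrrCharacter_one⟩⟩, m, fun μ => ym ι μ y,
    fun μ => ⟨h2 μ, S.lv_ym hA hψ hy hi μ.2, S.inv_ym hi _⟩, fun x hx => ?_, le_of_eq ?_⟩
  · have h3 := congrFun (classFunction_eq_sum (S.cls hi hx)) 1
    rw [map_one, one_mul, Finset.sum_apply] at h3
    rw [h3]
    exact sum_congr rfl fun μ _ => by simp only [ym_eq μ.2, Pi.smul_apply, h1, smul_eq_mul, mul_comm]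
  · have h3 : ∀ v : WJ cs B, ∑ μ : IrrCharacter (Perm α), ‖ym ι μ y (v * w)‖ ^ 2 =
        (Nat.card (Perm α) : ℝ)⁻¹ * ∑ h, ‖y (ι h * (v * w))‖ ^ 2 := fun v => by
      have h4 := classInner_eq_sum (S.cls hi v.2) (S.cls hi v.2)
      rw [classInner_self_eq_ofReal] at h4
      simp only [Complex.mul_conj, Complex.normSq_eq_norm_sq, ← Complex.ofReal_sum, Complex.ofReal_inj] at h4
      rw [h4]
      exact sum_congr rfl fun μ _ => by rw [ym_eq μ.2]
    have h4 := avg_eq (WJ cs A) (fun p : WJ cs B × (⊤ : Subgroup (Perm α)) => ι p.2 * p.1)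
      (fun p => mul_mem (S.mem _).1 (WJ_mono cs S.sub p.1.2)) (fun x => ‖y (x * w)‖ ^ 2) fun x hx => by
        obtain ⟨h₁, m1, h₂, m2, v, hv, rfl⟩ := S.dec le_rfl (Y := ⊤)
          (fun i hi => (S.gen i hi).imp_right fun ⟨h, e⟩ => ⟨h, trivial, e⟩) hx
        rw [Fintype.sum_prod_type, Fintype.sum_prod_type]
        refine Fintype.sum_equiv (Equiv.mulRight (⟨v, hv⟩ : WJ cs B)) _ _ fun u => ?_
        have h5 := S.sum_eq (fun z => ‖z‖ ^ 2) hi m1 m2 (mul_mem u.2 hv)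
        rw [← mul_assoc _ (u : W), ((S.comm' u.2 h₁).1.mul_left (S.comm' u.2 h₂).2).eq] at h5
        simpa only [mul_assoc, Equiv.coe_mulRight, Subgroup.coe_mul] using h5
    simp only [Em.N]
    rw [h4, ← mul_sum, Nat.card_prod, Fintype.sum_prod_type, Nat.cast_mul, mul_inv, mul_assoc, Subgroup.card_top]
    simp only [finsum_eq_sum_of_fintype]
    congr 1
    rw [sum_comm, mul_sum]
    refine sum_congr rfl fun v _ => ?_
    rw [h3]
    congr 1
    exact (Fintype.sum_equiv Subgroup.topEquiv.toEquiv _ _ fun h => by rw [mul_assoc]; rfl).symm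

end St

end Pl

end Cfsg.Agent.LV.Cl
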